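import Cfsg.Agent.GenDihedral.Setup
import Cfsg.Agent.OddChar.PF.OddOrder

/-!
Subgroups of odd order normalised by a four-group.
-/

set_option autoImplicit false
set_option linter.unusedSectionVars false
set_option linter.style.haveILetI false

namespace Cfsg.Lib.GenDihedral

open Subgroup
open Cfsg.Lib.OddLocal.FittingParts (O)

universe u

variable {G : Type u} [Group G] [Finite G]

theorem mem_of_sq {W : Subgroup G} {x : G} (ho : Odd (orderOf x)) (h : x * x ∈ W) : x ∈ W := by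
  obtain ⟨k, hk⟩ := ho
  have h2 := W.pow_mem h (k + 1)
  rwa [← pow_two, ← pow_mul, show 2 * (k + 1) = orderOf x + 1 by omega, pow_succ, pow_orderOf_eq_one,
    one_mul] at h2

theorem odd_of_le {W : Subgroup G} (ho : Odd (Nat.card W)) {X : Subgroup G} (h : X ≤ W) : Odd (Nat.card X) :=
  ho.of_dvd_nat (card_dvd_of_le h)

theorem orderOf_odd {W : Subgroup G} (ho : Odd (Nat.card W)) {x : G} (h : x ∈ W) : Odd (orderOf x) :=
  ho.of_dvd_nat ((Subgroup.orderOf_mk x h) ▸ orderOf_dvd_natCard _)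

theorem solvable_of_odd {W : Subgroup G} (ho : Odd (Nat.card W)) : Group.IsSolvable W :=
  Cfsg.Agent.PF.isSolvable_of_odd W ho

theorem odd_of_isPGroup {r : ℕ} [hr : Fact r.Prime] (h2 : r ≠ 2) {P : Subgroup G} (hP : IsPGroup r P) :
    Odd (Nat.card P) := by
  obtain ⟨n, hn⟩ := IsPGroup.iff_card.1 hP
  exact hn ▸ (hr.out.odd_of_ne_two h2).pow

theorem mem_normalizer_closure {s : Set G} {g : G} (h : ∀ x ∈ s, g * x * g⁻¹ ∈ closure s) :
    g ∈ normalizer (closure s : Set G) := by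
  refine mem_normalizer_iff.2 fun x => ?_
  have hmap : (closure s).map (MulAut.conj g).toMonoidHom = closure s :=
    Cfsg.Lib.Coprime.eq_of_le_of_card_eq (by
      rw [MonoidHom.map_closure, closure_le]; rintro _ ⟨x, hx, rfl⟩; exact h x hx)
      (Subgroup.card_map_of_injective (MulAut.conj g).injective)
  constructor
  · intro hx; rw [← hmap]; exact ⟨x, hx, rfl⟩
  · intro hx
    rw [← hmap] at hx
    obtain ⟨y, hy, e⟩ := hx
    have : y = x := (MulAut.conj g).injective e
    exact this ▸ hy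

/-- Conjugation on a normalised subgroup. -/
def cj (W : Subgroup G) (g : G) (h : g ∈ normalizer (W : Set G)) : MulAut W where
  toFun x := ⟨g * x * g⁻¹, (mem_normalizer_iff.1 h x).1 x.2⟩
  invFun x := ⟨g⁻¹ * x * g, by simpa using (mem_normalizer_iff.1 (inv_mem h) x).1 x.2⟩
  left_inv x := Subtype.ext (by simp [mul_assoc])
  right_inv x := Subtype.ext (by simp [mul_assoc])
  map_mul' x y := Subtype.ext (by simp [conj_mul])

theorem cj_apply {W : Subgroup G} {g : G} (h : g ∈ normalizer (W : Set G)) (x : W) :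
    (cj W g h x : G) = g * x * g⁻¹ := rfl

theorem conj_conj (a b x : G) : a * (b * x * b⁻¹) * a⁻¹ = a * b * x * (a * b)⁻¹ := by group

theorem conj_fix_iff {v x : G} : v * x * v⁻¹ = x ↔ x * v = v * x :=
  mul_inv_eq_iff_eq_mul.trans eq_comm

/-- The four-group. -/
abbrev Vg (z t : G) : Subgroup G := closure {z, t}

namespace IsFour

variable {z t s : G} (F : IsFour z t s)
include F

theorem mem_iff {x : G} : x ∈ Vg z t ↔ x = 1 ∨ x = z ∨ x = t ∨ x = s := by
  constructor
  · intro hx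
    induction hx using closure_induction with
    | mem x hx =>
      rcases hx with rfl | hx
      · exact Or.inr (Or.inl rfl)
      · exact Or.inr (Or.inr (Or.inl hx))
    | one => exact Or.inl rfl
    | mul a b _ _ ha hb =>
      have hz := mul_self_of_two F.z2
      have ht := mul_self_of_two F.t2
      have hs := mul_self_of_two F.s2
      have e1 := F.rot.zt
      have e2 := F.rot.tz
      have e3 := F.rot.rot.zt
      have e4 := F.rot.rot.tz
      rcases ha with rfl | rfl | rfl | rfl <;> rcases hb with rfl | rfl | rfl | rfl <;>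
        simp [F.zt, F.tz, hz, ht, hs, e1, e2, e3, e4]
    | inv a _ ha =>
      rcases ha with rfl | rfl | rfl | rfl
      · simp
      · exact Or.inr (Or.inl (inv_of_two F.z2))
      · exact Or.inr (Or.inr (Or.inl (inv_of_two F.t2)))
      · exact Or.inr (Or.inr (Or.inr (inv_of_two F.s2)))
  · rintro (rfl | rfl | rfl | rfl)
    · exact one_mem _
    · exact subset_closure (Or.inl rfl)
    · exact subset_closure (Or.inr rfl)
    · rw [← F.zt]; exact mul_mem (subset_closure (Or.inl rfl)) (subset_closure (Or.inr rfl))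

theorem rot_Vg : Vg t s = Vg z t := by
  ext x; rw [F.rot.mem_iff, F.mem_iff]; tauto

theorem swap_Vg : Vg t z = Vg z t := by
  ext x; rw [F.swap.mem_iff, F.mem_iff]; tauto

theorem le_normalizer_iff {W : Subgroup G} :
    Vg z t ≤ normalizer (W : Set G) ↔ z ∈ normalizer (W : Set G) ∧ t ∈ normalizer (W : Set G) := by
  rw [closure_le]; simp [Set.insert_subset_iff]

theorem isPGroup : IsPGroup 2 (Vg z t) := fun x => ⟨1, Subtype.ext (by
  rcases F.mem_iff.1 x.2 with h | h | h | h <;>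
    simp [h, pow_two, mul_self_of_two F.z2, mul_self_of_two F.t2, mul_self_of_two F.s2])⟩

theorem coprime {W : Subgroup G} (ho : Odd (Nat.card W)) : (Nat.card (Vg z t)).Coprime (Nat.card W) := by
  haveI : Fact (Nat.Prime 2) := ⟨Nat.prime_two⟩
  obtain ⟨n, hn⟩ := IsPGroup.iff_card.1 F.isPGroup
  exact hn ▸ Nat.Coprime.pow_left n (Nat.coprime_two_left.2 ho)

end IsFour

namespace Core

variable {z₀ : G} {A : Subgroup G} (K : Core z₀ A) {z t s : G} (F : IsFour z t s)
include K F

theorem eq_one_of_four {x : G} (ho : Odd (orderOf x)) (hz : x * z = z * x) (ht : x * t = t * x) : x = 1 := by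
  obtain ⟨B, hB⟩ := K.exists_hyp F.z2
  exact hB.eq_one_of_comm F.t2 F.ne_zt.symm F.comm.symm (subset_Dg hz ho) ht

theorem inv_fst {x : G} (hx : x ∈ Dg z) : t * x * t⁻¹ = x⁻¹ := by
  obtain ⟨B, hB⟩ := K.exists_hyp F.z2
  exact hB.inv_Dg F.t2 F.ne_zt.symm F.comm.symm hx

theorem inv_snd {x : G} (hx : x ∈ Dg z) : s * x * s⁻¹ = x⁻¹ := by
  rw [← F.tz, show t * z * x * (t * z)⁻¹ = t * (z * x * z⁻¹) * t⁻¹ by group,
    conj_fix_iff.2 ((K.mem_Dg F.z2).1 hx).1, K.inv_fst F hx]

theorem fours {W : Subgroup G} (ho : Odd (Nat.card W)) (hz : z ∈ normalizer (W : Set G))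
    (ht : t ∈ normalizer (W : Set G)) (hs : s ∈ normalizer (W : Set G)) :
    Fours (cj W z hz) (cj W t ht) (cj W s hs) := by
  have hii : ∀ (v : G) (hv : v ∈ normalizer (W : Set G)), orderOf v = 2 → ∀ x, cj W v hv (cj W v hv x) = x :=
    fun v hv h2 x => Subtype.ext (by
      rw [cj_apply, cj_apply, conj_conj, mul_self_of_two h2, inv_one, one_mul, mul_one])
  refine ⟨ho, hii z hz F.z2, hii t ht F.t2, hii s hs F.s2, fun x => Subtype.ext ?_, fun x => Subtype.ext ?_,
    fun x h1 h2 => Subtype.ext (K.eq_one_of_four F (orderOf_odd ho x.2) (conj_fix_iff.1 (congrArg Subtype.val h1))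
      (conj_fix_iff.1 (congrArg Subtype.val h2)))⟩
  · rw [cj_apply, cj_apply, cj_apply, conj_conj, F.zt]
  · rw [cj_apply, cj_apply, cj_apply, conj_conj, F.tz]

variable {W : Subgroup G} (ho : Odd (Nat.card W)) (hW : Vg z t ≤ normalizer (W : Set G))
include ho hW

theorem mem_s : s ∈ normalizer (W : Set G) := hW (F.mem_iff.2 (Or.inr (Or.inr (Or.inr rfl))))

/-- The components generate. -/
theorem le_of_comps {S : Subgroup G} (h1 : W ⊓ Dg z ≤ S) (h2 : W ⊓ Dg t ≤ S) (h3 : W ⊓ Dg s ≤ S) : W ≤ S := by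
  obtain ⟨hz, ht⟩ := F.le_normalizer_iff.1 hW
  intro x hx
  refine ((K.fours F ho hz ht (K.mem_s F ho hW)).mem_of_fix (S.subgroupOf W) ?_ ?_ ?_ ⟨x, hx⟩ :)
  all_goals
    intro y hy
    first
    | exact h1 ⟨y.2, subset_Dg (conj_fix_iff.1 (congrArg Subtype.val hy)) (orderOf_odd ho y.2)⟩
    | exact h2 ⟨y.2, subset_Dg (conj_fix_iff.1 (congrArg Subtype.val hy)) (orderOf_odd ho y.2)⟩
    | exact h3 ⟨y.2, subset_Dg (conj_fix_iff.1 (congrArg Subtype.val hy)) (orderOf_odd ho y.2)⟩

/-- The order is the product of the orders of the components. -/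
theorem card_comps : Nat.card W =
    Nat.card (W ⊓ Dg z : Subgroup G) * (Nat.card (W ⊓ Dg t : Subgroup G) * Nat.card (W ⊓ Dg s : Subgroup G)) := by
  obtain ⟨hz, ht⟩ := F.le_normalizer_iff.1 hW
  have key : ∀ (v : G) (hv : v ∈ normalizer (W : Set G)), orderOf v = 2 →
      Nat.card {a : W // cj W v hv a = a} = Nat.card (W ⊓ Dg v : Subgroup G) := by
    intro v hv h2
    refine Nat.card_congr
      { toFun := fun a => ⟨a.1, a.1.2, subset_Dg (conj_fix_iff.1 (congrArg Subtype.val a.2)) (orderOf_odd ho a.1.2)⟩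
        invFun := fun a => ⟨⟨a.1, a.2.1⟩, Subtype.ext (conj_fix_iff.2 ((K.mem_Dg h2).1 a.2.2).1)⟩
        left_inv := fun a => rfl
        right_inv := fun a => rfl }
  rw [(K.fours F ho hz ht (K.mem_s F ho hW)).card_eq, key z hz F.z2, key t ht F.t2, key s _ F.s2]

/-- What `z` fixes modulo an invariant normal subgroup comes from what it fixes. -/
theorem mem_sup_of_modFix {N : Subgroup G} (hNW : N ≤ W) (hWN : W ≤ normalizer (N : Set G))
    {x : G} (hx : x ∈ W) (hfix : z * x * z⁻¹ * x⁻¹ ∈ N) : x ∈ (W ⊓ Dg z) ⊔ N := by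
  obtain ⟨hz, ht⟩ := F.le_normalizer_iff.1 hW
  have hF := K.fours F ho hz ht (K.mem_s F ho hW)
  obtain ⟨a, b, c, ha, hb, hc, e⟩ := hF.exists_abc ⟨x, hx⟩
  set y := b * c * b with hy
  have e' : x = (a : G) * y := congrArg Subtype.val e
  have ha' : z * a * z⁻¹ = a := congrArg Subtype.val ha
  have hy' : z * y * z⁻¹ = (y : G)⁻¹ := congrArg Subtype.val (hF.t₁_bcb hb hc)
  have h2 : z * x * z⁻¹ * x⁻¹ = (a : G) * ((y : G) * y)⁻¹ * (a : G)⁻¹ := by
    rw [e', ← conj_mul, ha', hy']; group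
  rw [h2] at hfix
  have h3 : (y : G) * y ∈ N := inv_mem_iff.1 ((mem_normalizer_iff.1 (hWN a.2) _).2 hfix)
  rw [e']
  exact mul_mem_sup ⟨a.2, subset_Dg (conj_fix_iff.1 ha') (orderOf_odd ho a.2)⟩
    (mem_of_sq (orderOf_odd ho y.2) h3)

/-- The invariant Sylow subgroup contains every invariant `r`-subgroup. -/
theorem exists_sylow (r : ℕ) [Fact r.Prime] : ∃ S : Subgroup G, S ≤ W ∧ IsPGroup r S ∧
    Vg z t ≤ normalizer (S : Set G) ∧ ¬ r ∣ S.relIndex W ∧
    (∀ R : Subgroup G, R ≤ W → IsPGroup r R → Vg z t ≤ normalizer (R : Set G) → R ≤ S) ∧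
    ∀ g : G, g ∈ normalizer (W : Set G) → g ∈ normalizer (Vg z t : Set G) → g ∈ normalizer (S : Set G) := by
  have hcop := F.coprime ho
  obtain ⟨P, hP⟩ := Cfsg.Lib.Coprime.exists_invariant_sylow hW hcop (Or.inr (solvable_of_odd ho)) r
  set S := (P : Subgroup W).map W.subtype with hS
  have huniq : ∀ Q : Sylow r W, Vg z t ≤ normalizer ((Q : Subgroup W).map W.subtype : Set G) →
      (Q : Subgroup W).map W.subtype = S := by
    intro Q hQ
    obtain ⟨c, hc, e⟩ := Cfsg.Lib.Coprime.invariant_sylow_conj hW hcop (Or.inr (solvable_of_odd ho)) r P Q hP hQ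
    have hc1 : c = 1 := Subtype.ext (K.eq_one_of_four F (orderOf_odd ho c.2)
      (mem_centralizer_iff.1 hc z (subset_closure (Or.inl rfl))).symm
      (mem_centralizer_iff.1 hc t (subset_closure (Or.inr rfl))).symm)
    rw [← e, hc1, one_smul]
  refine ⟨S, map_subtype_le _, P.2.map _, hP, ?_, fun R hR hRp hRV => ?_, fun g hgW hgV => ?_⟩
  · rw [relIndex, subgroupOf, hS, comap_map_eq_self_of_injective W.subtype_injective]
    exact P.not_dvd_index
  · obtain ⟨Q, hRQ, hQ⟩ := Cfsg.Lib.Coprime.exists_invariant_sylow_ge hW hcop (Or.inr (solvable_of_odd ho)) r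
      hR hRp hRV
    exact huniq Q hQ ▸ hRQ
  · refine Cfsg.Lib.Coprime.conjMap_eq_self_iff.1 (Cfsg.Lib.Coprime.eq_of_le_of_card_eq ?_
      (Cfsg.Lib.Coprime.card_conjMap _ _))
    have hle : Cfsg.Lib.Coprime.conjMap g S ≤ W :=
      (Cfsg.Lib.Coprime.conjMap_mono (map_subtype_le _)).trans (Cfsg.Lib.Coprime.conjMap_eq_self hgW).le
    obtain ⟨Q, hRQ, hQ⟩ := Cfsg.Lib.Coprime.exists_invariant_sylow_ge hW hcop (Or.inr (solvable_of_odd ho)) r
      hle ((P.2.map _).map _) (by
        rw [Cfsg.Lib.Coprime.normalizer_conjMap, ← Cfsg.Lib.Coprime.conjMap_eq_self hgV]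
        exact Cfsg.Lib.Coprime.conjMap_mono hP)
    exact huniq Q hQ ▸ hRQ

/-- The derived subgroup lies in the Fitting subgroup. -/
theorem commutator_le_fitting : ⁅W, W⁆ ≤ Cfsg.fittingOf W := by
  obtain ⟨hz, ht⟩ := F.le_normalizer_iff.1 hW
  haveI := solvable_of_odd ho
  have hn := (K.fours F ho hz ht (K.mem_s F ho hW)).isNilpotent_commutator
  have h : (commutator W).map W.subtype = ⁅W, W⁆ := by
    rw [commutator_def, map_commutator, ← MonoidHom.range_eq_map, range_subtype]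
  rw [← h]
  exact map_mono (le_sSup (show commutator W ∈ {N : Subgroup W | N.Normal ∧ Group.IsNilpotent N} from
    ⟨inferInstance, hn⟩))

end Core

end Cfsg.Lib.GenDihedral
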