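import Cfsg.Agent.GenDihedral.Local

/-!
Maximal invariant `r`-subgroups: one of them is the join of the three primary components.
-/

set_option autoImplicit false
set_option linter.unusedSectionVars false
set_option linter.style.haveILetI false

namespace Cfsg.Lib.GenDihedral

open Subgroup

universe u

variable {G : Type u} [Group G] [Finite G]

theorem lt_inf_normalizer {r : ℕ} [Fact r.Prime] {P R : Subgroup G} (hP : IsPGroup r P) (h : R < P) :
    R < P ⊓ normalizer (R : Set G) := by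
  refine lt_of_le_of_ne (le_inf h.le le_normalizer) fun e => ?_
  haveI := hP.isNilpotent
  have hlt : R.subgroupOf P < ⊤ := lt_top_iff_ne_top.2 fun e' => not_le_of_gt h (subgroupOf_eq_top.1 e')
  obtain ⟨n, hn, hn'⟩ := SetLike.exists_of_lt (Group.normalizerCondition_of_isNilpotent (R.subgroupOf P) hlt)
  refine hn' (mem_subgroupOf.2 (e.ge ⟨n.2, mem_normalizer_iff.2 fun x => ?_⟩))
  constructor
  · intro hx
    exact ((mem_normalizer_iff.1 hn ⟨x, h.le hx⟩).1 hx :)
  · intro hx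
    have hxP : x ∈ P := by
      have := mul_mem (mul_mem (inv_mem n.2) (h.le hx)) n.2
      simpa [mul_assoc] using this
    exact ((mem_normalizer_iff.1 hn ⟨x, hxP⟩).2 hx :)

theorem centralizer_zpowers (d : G) : centralizer (zpowers d : Set G) = centralizer {d} := by
  rw [zpowers_eq_closure, centralizer_closure]

theorem OC_zpowers (d : G) : OC (zpowers d : Set G) = OC {d} := by
  simp only [OC, centralizer_zpowers]

theorem normalizer_inv_le (d g : G) (h : g * d * g⁻¹ = d ∨ g * d * g⁻¹ = d⁻¹) :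
    g ∈ normalizer (OC ({d} : Set G) : Set G) := by
  rw [← OC_zpowers]
  refine normalizer_le_OC _ ?_
  rw [zpowers_eq_closure]
  refine mem_normalizer_closure fun x hx => ?_
  rw [Set.mem_singleton_iff.1 hx]
  rcases h with h | h <;> rw [h]
  · exact subset_closure rfl
  · exact inv_mem (subset_closure rfl)

namespace Core

variable {z₀ : G} {A : Subgroup G} (K : Core z₀ A) {r : ℕ} [hr : Fact r.Prime] {z t s : G} (F : IsFour z t s)
include K

/-- An invariant `r`-group. -/
abbrev InvGrp (r : ℕ) (z t : G) (P : Subgroup G) : Prop := IsPGroup r P ∧ Vg z t ≤ normalizer (P : Set G)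

omit K in
theorem exists_max {P : Subgroup G} (hP : InvGrp r z t P) :
    ∃ Q, P ≤ Q ∧ Maximal (InvGrp r z t) Q :=
  (exists_maximal_ge_of_wellFoundedGT (InvGrp r z t) P hP).imp fun _ h => ⟨h.1, h.2⟩

include F

omit K in
theorem Vg_mem : z ∈ Vg z t ∧ t ∈ Vg z t ∧ s ∈ Vg z t :=
  ⟨F.mem_iff.2 (Or.inr (Or.inl rfl)), F.mem_iff.2 (Or.inr (Or.inr (Or.inl rfl))),
    F.mem_iff.2 (Or.inr (Or.inr (Or.inr rfl)))⟩

theorem le_normalizer_OC_comp {d : G} (hd : d ∈ Dg t) : Vg z t ≤ normalizer (OC ({d} : Set G) : Set G) :=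
  F.le_normalizer_iff.2 ⟨normalizer_inv_le d z (Or.inr (K.inv_fst F.swap hd)),
    normalizer_inv_le d t (Or.inl (conj_fix_iff.2 ((K.mem_Dg F.t2).1 hd).1))⟩

omit F in
theorem comm_Dr_OC {v d : G} (hv : orderOf v = 2) (hd : d ∈ Dg v) : Dr r v ≤ OC ({d} : Set G) :=
  fun _ hx => subset_OC (mem_cent.2 (K.Dg_comm hv (Dr_le_Dg r v hx) hd)) ((K.mem_Dg hv).1 (Dr_le_Dg r v hx)).2

/-- Maximal ones sharing a whole component coincide. -/
theorem max_eq (h2 : r ≠ 2) : ∀ (n : ℕ) (P Q : Subgroup G), Nat.card G - Nat.card (P ⊓ Q : Subgroup G) ≤ n →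
    Maximal (InvGrp r z t) P → Maximal (InvGrp r z t) Q → Dr r z ≤ P ⊓ Q → P = Q := by
  intro n
  induction n with
  | zero =>
    intro P Q h _ _ _
    have h1 := (P ⊓ Q).card_le_card_group
    have h2 : (P ⊓ Q) = ⊤ := eq_top_of_card_eq _ (by omega)
    rw [eq_top_iff.2 (h2.ge.trans inf_le_left), eq_top_iff.2 (h2.ge.trans inf_le_right)]
  | succ n ih =>
    intro P Q hn hP hQ hD
    by_contra hne
    set R := P ⊓ Q with hR
    have hRP : R < P := lt_of_le_of_ne inf_le_left fun e => hne (le_antisymm (e.ge.trans inf_le_right)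
      (hP.2 hQ.1 (e.ge.trans inf_le_right)))
    have hRQ : R < Q := lt_of_le_of_ne inf_le_right fun e => hne
      ((hQ.eq_of_le hP.1 (e.ge.trans inf_le_left)).symm)
    have hRV : Vg z t ≤ normalizer (R : Set G) := Cfsg.Lib.Coprime.le_normalizer_inf hP.1.2 hQ.1.2
    set N := normalizer (R : Set G)
    have hNV : Vg z t ≤ normalizer (N : Set G) := hRV.trans le_normalizer
    obtain ⟨S, hS, hSV, hSmax⟩ := K.exists_common F h2 (N := N) hRV (I := R) le_normalizer le_rfl
      (hP.1.1.to_le inf_le_left) hD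
    obtain ⟨S', hSS', hS'⟩ := exists_max (r := r) (z := z) (t := t) ⟨hS, hSV⟩
    have hP' : P ⊓ N ≤ S' := (hSmax _ inf_le_right (hP.1.1.to_le inf_le_left)
      (Cfsg.Lib.Coprime.le_normalizer_inf hP.1.2 hNV)).trans hSS'
    have hQ' : Q ⊓ N ≤ S' := (hSmax _ inf_le_right (hQ.1.1.to_le inf_le_left)
      (Cfsg.Lib.Coprime.le_normalizer_inf hQ.1.2 hNV)).trans hSS'
    have key : ∀ X : Subgroup G, R < X → Maximal (InvGrp r z t) X → X ⊓ N ≤ S' → X = S' := by
      intro X hRX hX hle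
      have hlt : R < X ⊓ S' := (lt_inf_normalizer hX.1.1 hRX).trans_le (le_inf inf_le_left hle)
      refine ih X S' ?_ hX hS' (hD.trans hlt.le)
      have h1 : Nat.card R < Nat.card (X ⊓ S' : Subgroup G) :=
        lt_of_le_of_ne (card_le_of_le hlt.le) fun e =>
          hlt.ne (Cfsg.Lib.Coprime.eq_of_le_of_card_eq hlt.le e)
      have h2 := (X ⊓ S').card_le_card_group
      omega
    exact hne ((key P hRP hP hP').trans (key Q hRQ hQ hQ').symm)

theorem max_eq' (h2 : r ≠ 2) {P Q : Subgroup G} (hP : Maximal (InvGrp r z t) P)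
    (hQ : Maximal (InvGrp r z t) Q) (hDP : Dr r z ≤ P) (hDQ : Dr r z ≤ Q) : P = Q :=
  K.max_eq F h2 _ P Q le_rfl hP hQ (le_inf hDP hDQ)

/-- A maximal one properly containing a component contains another whole component. -/
theorem max_two (h2 : r ≠ 2) {P : Subgroup G} (hP : Maximal (InvGrp r z t) P) (hD : Dr r z ≤ P)
    (hne : ¬ P ≤ Dr r z) : Dr r t ≤ P ∨ Dr r s ≤ P := by
  set D := Dr r z with hDdef
  have hlt := lt_inf_normalizer hP.1.1 (lt_of_le_not_ge hD hne)
  set Q := P ⊓ normalizer (D : Set G) with hQ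
  have hQV : Vg z t ≤ normalizer (Q : Set G) :=
    Cfsg.Lib.Coprime.le_normalizer_inf hP.1.2 ((K.le_normalizer_Dr F).trans le_normalizer)
  have hQr : IsPGroup r Q := hP.1.1.to_le inf_le_left
  have key : ∀ u, orderOf u = 2 → (∀ x ∈ Dg u, z * x * z⁻¹ = x⁻¹) →
      (∀ x ∈ Dg u, t * x * t⁻¹ = x ∨ t * x * t⁻¹ = x⁻¹) →
      (∀ d ∈ Dg u, Vg z t ≤ normalizer (OC ({d} : Set G) : Set G)) →
      ¬ Q ⊓ Dg u ≤ D → Dr r u ≤ P := by
    intro u hu hzu htu hVu hnot
    obtain ⟨d, hdQ, hdD⟩ := SetLike.not_le_iff_exists.1 hnot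
    have hd1 : d ≠ 1 := fun e => hdD (e ▸ one_mem D)
    have hcomm : ∀ a ∈ D, a * d = d * a := by
      intro a ha
      have ha' : d * a * d⁻¹ ∈ D := (mem_normalizer_iff.1 hdQ.1.2 a).1 ha
      have hza : ∀ x ∈ D, z * x * z⁻¹ = x := fun x hx =>
        conj_fix_iff.2 ((K.mem_Dg F.z2).1 (Dr_le_Dg r z hx)).1
      have h1 := hza _ ha'
      rw [← conj_mul, ← conj_mul, hzu d hdQ.2, hza a ha,
        show z * d⁻¹ * z⁻¹ = (z * d * z⁻¹)⁻¹ by group, hzu d hdQ.2, inv_inv] at h1
      have h3 : Commute (d * d) a := by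
        show d * d * a = a * (d * d)
        calc d * d * a = d * (d * a * d⁻¹) * d := by group
          _ = d * (d⁻¹ * a * d) * d := by rw [h1]
          _ = a * (d * d) := by group
      obtain ⟨k, hk⟩ := ((K.mem_Dg hu).1 hdQ.2).2
      have h4 := h3.pow_left (k + 1)
      rw [← pow_two, ← pow_mul, show 2 * (k + 1) = orderOf d + 1 by omega, pow_succ, pow_orderOf_eq_one,
        one_mul] at h4
      exact h4.eq.symm
    have hOC := K.odd_OC hu hdQ.2 hd1
    obtain ⟨S, -, hS, hSV, -, hmax, -⟩ := K.exists_sylow F hOC (hVu d hdQ.2) r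
    obtain ⟨S', hSS', hS'⟩ := exists_max (r := r) (z := z) (t := t) ⟨hS, hSV⟩
    have hDS : D ≤ S := hmax D (le_OC (fun a ha => mem_cent.2 (hcomm a ha))
      (odd_of_le (K.odd_Dg F.z2) (Dr_le_Dg r z))) (hP.1.1.to_le hD) (K.le_normalizer_Dr F)
    rw [K.max_eq' F h2 hP hS' hD (hDS.trans hSS')]
    refine le_trans (hmax _ (K.comm_Dr_OC hu hdQ.2) (K.isPGroup_Dr hu) ?_) hSS'
    refine F.le_normalizer_iff.2 ⟨mem_normalizer_closure fun x hx => ?_, ?_⟩
    · rw [hzu x hx.1]; exact inv_mem (subset_closure hx)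
    · refine mem_normalizer_closure fun x hx => ?_
      rcases htu x hx.1 with h | h <;> rw [h]
      · exact subset_closure hx
      · exact inv_mem (subset_closure hx)
  by_contra hnot
  push Not at hnot
  refine not_le_of_gt hlt (K.le_of_comps F (odd_of_isPGroup h2 hQr) hQV ?_ ?_ ?_)
  · exact fun x hx => mem_Dr_of hQr hx.1 hx.2
  · by_contra h
    exact hnot.1 (key t F.t2 (fun x hx => K.inv_fst F.swap hx)
      (fun x hx => Or.inl (conj_fix_iff.2 ((K.mem_Dg F.t2).1 hx).1)) (fun d hd => K.le_normalizer_OC_comp F hd) h)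
  · by_contra h
    refine hnot.2 (key s F.s2 (fun x hx => K.inv_fst F.rot.rot hx)
      (fun x hx => Or.inr (K.inv_fst F.rot.swap hx)) (fun d hd => ?_) h)
    have := K.le_normalizer_OC_comp F.rot hd
    rwa [F.rot_Vg] at this

end Core

end Cfsg.Lib.GenDihedral
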