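import Cfsg.Agent.GenDihedral.Orders
import Cfsg.Agent.S0508

/-!
A simple group whose involution centraliser is generalised dihedral with one central involution is `PSL(2,q)`.
-/

set_option autoImplicit false
set_option linter.unusedSectionVars false
set_option linter.style.haveILetI false

namespace Cfsg.Lib.GenDihedral

open Subgroup

universe u

variable {G : Type u} [Group G] [Finite G]

namespace Core

variable {z : G} {A : Subgroup G} (K : Core z A)
include K

theorem exists_two_group : ∃ (T : Sylow 2 G) (t : G), (T : Subgroup G) ≤ centralizer ({z} : Set G) ∧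
    z ∈ (T : Subgroup G) ∧ t ∈ (T : Subgroup G) ∧ IsFour z t (z * t) := by
  haveI : Fact (Nat.Prime 2) := ⟨Nat.prime_two⟩
  set C := centralizer ({z} : Set G)
  obtain ⟨T, hT⟩ := (IsPGroup.of_card (G := zpowers (⟨z, K.hyp.mem_z⟩ : C)) (p := 2) (n := 1)
    (by rw [Nat.card_zpowers, Subgroup.orderOf_mk, K.hyp.two, pow_one])).exists_le_sylow
  set S := (T : Subgroup C).map C.subtype with hS
  have hSC : S ≤ C := map_subtype_le _
  have hidx : ¬ 2 ∣ S.index := by
    rw [hS, index_map_subtype]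
    intro h
    rcases Nat.prime_two.dvd_mul.1 h with h | h
    · exact T.not_dvd_index h
    · exact absurd (even_iff_two_dvd.2 h) (Nat.not_even_iff_odd.2 K.hyp.oddIdx)
  obtain ⟨t, ht, htA⟩ : ∃ t ∈ S, t ∉ A := by
    by_contra h
    push Not at h
    have h2 := (relIndex_dvd_index_of_le K.hyp.le).trans (index_dvd_of_le h)
    rw [K.hyp.idx] at h2
    exact hidx h2
  obtain ⟨T', hT'⟩ := (T.2.map C.subtype : IsPGroup 2 S).exists_le_sylow
  have hTS : (T' : Subgroup G) = S := by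
    refine (Cfsg.Lib.Coprime.eq_of_le_of_card_eq hT' ?_).symm
    obtain ⟨i, hi⟩ := IsPGroup.iff_card.1 (T.2.map C.subtype : IsPGroup 2 S)
    obtain ⟨j, hj⟩ := IsPGroup.iff_card.1 T'.2
    rw [hi, hj]
    have hij : i ≤ j := (Nat.pow_dvd_pow_iff_le_right one_lt_two).1 (hi ▸ hj ▸ card_dvd_of_le hT')
    by_contra hne
    obtain ⟨d, rfl⟩ : ∃ d, j = i + (d + 1) := ⟨j - i - 1, by
      have : i ≠ j := fun e => hne (by rw [e])
      omega⟩
    refine hidx ?_
    have h1 := card_dvd_of_le (le_top : (T' : Subgroup G) ≤ ⊤)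
    rw [Subgroup.card_top, hj, ← S.card_mul_index, hi, pow_add] at h1
    exact (dvd_pow_self 2 (Nat.succ_ne_zero d)).trans ((Nat.mul_dvd_mul_iff_left (Nat.two_pow_pos i)).1 h1)
  have hzS : z ∈ S := ⟨⟨z, K.hyp.mem_z⟩, hT (mem_zpowers _), rfl⟩
  refine ⟨T', t, hTS ▸ hSC, hTS ▸ hzS, hTS ▸ ht, isFour_of_comm K.hyp.two ?_ (mem_cent.1 (hSC ht)).symm
    fun e => htA (e ▸ K.hyp.mem)⟩
  exact orderOf_eq_prime (by rw [pow_two]; exact K.hyp.out t (hSC ht) htA) fun e => htA (e ▸ one_mem A)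

/-- The odd part of `C(y)` is `Dg z`. -/
theorem OC_eq {T : Sylow 2 G} {t s : G} (hTz : (T : Subgroup G) ≤ centralizer ({z} : Set G))
    (hzT : z ∈ (T : Subgroup G)) (htT : t ∈ (T : Subgroup G)) (F : IsFour z t s) {y : G} (hy : y ∈ Dg z)
    (hy1 : y ≠ 1) : OC ({y} : Set G) ≤ Dg z := by
  haveI : Fact (Nat.Prime 2) := ⟨Nat.prime_two⟩
  haveI := K.simple
  by_contra hnot
  set W := OC ({y} : Set G) with hW
  have hWo := K.odd_OC F.z2 hy hy1
  have hWV : Vg z t ≤ normalizer (W : Set G) :=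
    F.le_normalizer_iff.2 ⟨normalizer_inv_le y z (Or.inl (conj_fix_iff.2 ((K.mem_Dg F.z2).1 hy).1)),
      normalizer_inv_le y t (Or.inr (K.inv_fst F hy))⟩
  have hbig : ∀ t' s' : G, IsFour z t' s' → t' ∈ (T : Subgroup G) → ¬ W ⊓ Dg t' ≤ ⊥ → False := by
    intro t' s' F' ht'T hne
    obtain ⟨d, hd, hd1⟩ := SetLike.not_le_iff_exists.1 hne
    rw [mem_bot] at hd1
    have hdo := orderOf_odd hWo hd.1
    obtain ⟨r, hr, hrd⟩ := Nat.exists_prime_and_dvd (fun e : orderOf d = 1 => hd1 (orderOf_eq_one_iff.1 e))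
    haveI := Fact.mk hr
    have h2 : r ≠ 2 := fun e => Nat.not_even_iff_odd.2 hdo (even_iff_two_dvd.2 (e ▸ hrd))
    set d' := d ^ (orderOf d / r) with hd'
    have hd'o : orderOf d' = r := by
      rw [hd', orderOf_pow' d (Nat.div_ne_zero_iff_of_dvd hrd |>.2 ⟨(orderOf_pos d).ne', hr.ne_zero⟩),
        Nat.gcd_eq_right (Nat.div_dvd_of_dvd hrd), Nat.div_div_self hrd (orderOf_pos d).ne']
    have hd'D : d' ∈ Dr r t' := subset_closure ⟨pow_mem hd.2 _, 1, by rw [hd'o, pow_one]⟩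
    have hd'1 : d' ≠ 1 := fun e => by rw [e, orderOf_one] at hd'o; exact hr.ne_one hd'o.symm
    have hB : IsPGroup r (Pm r z t' s') := by
      rw [← Pm_swap]
      exact K.big_of_comm F'.swap h2 hd'D hd'1 hy hy1
        (mem_cent.1 (GenDihedral.OC_le _ (pow_mem hd.1 _)))
    have hD : Dr r z ≠ ⊥ := fun e => by
      have h := K.card_Dr (r := r) F'.t2
      rw [e, card_bot] at h
      exact hd'1 (mem_bot.1 (eq_bot_of_card_eq _ h ▸ hd'D))
    obtain ⟨M, hPM, hM⟩ := exists_maximal_ge_of_wellFoundedGT (GInv z (T : Subgroup G)) (Pm r z t' s')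
      ⟨odd_of_isPGroup h2 hB,
        sup_le (K.two_le_normalizer_Pm F' h2 hD hB T.2 hzT ht'T hTz) ((closure_le _).2 (by
          rintro g ⟨t'', s'', F'', ht'', hg⟩
          rw [← (K.Pm_indep F' h2 hD hB F'' T.2 hzT ht'T ht'' hTz).2]
          exact K.normalizer_Pm F'' hg))⟩
    have Fr : Frame z t' s' (T : Subgroup G) M := ⟨F', T.2, hzT, ht'T, hTz, hM⟩
    have hM0 : M ≠ ⊥ := fun e => hD (le_bot_iff.1 (e ▸ (le_sup_of_le_left le_sup_left).trans hPM))
    have hmax : ∀ X : Subgroup G, IsPGroup 2 X → (T : Subgroup G) ≤ X → X = T := fun X hX h => T.3 hX h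
    obtain ⟨hF0, hCN⟩ := Fr.cent_le_normalizer_fitting K hM0 fun X hX h _ => (hmax X hX h).le
    set Ff := Cfsg.fittingOf M with hFf
    have hΓ : Gam z (T : Subgroup G) ≤ normalizer (Ff : Set G) := by
      refine Fr.norm.trans fun g hg => ?_
      rw [hFf, Cfsg.Lib.OddLocal.FittingParts.fittingOf_eq]
      refine Cfsg.Lib.Coprime.conjMap_eq_self_iff.1 ?_
      show Subgroup.map _ _ = _
      rw [Subgroup.map_iSup]
      exact iSup_congr fun q =>
        Cfsg.Lib.Coprime.conjMap_eq_self (Cfsg.Lib.OddLocal.PiCoreOf.normalizer_le _ M hg)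
    have htop := Fr.eq_top K (normalizer (Ff : Set G)) hΓ hCN hmax ⟨y, hy, hy1⟩
    rcases (normalizer_eq_top_iff.1 htop : Ff.Normal).eq_bot_or_eq_top with e | e
    · exact hF0 e
    · refine K.nonsolv ?_
      have ho : Odd (Nat.card G) := by
        rw [← Subgroup.card_top (G := G), ← e]
        exact odd_of_le Fr.odd (Frame.fitting_le_M Fr)
      exact Cfsg.Agent.PF.isSolvable_of_odd G ho
  refine hnot (K.le_of_comps F hWo hWV inf_le_right ?_ ?_)
  · exact le_trans (by by_contra h; exact hbig t s F htT h) bot_le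
  · exact le_trans (by
      by_contra h
      exact hbig s t F.rot.rot.swap (F.zt ▸ mul_mem hzT htT) h) bot_le

theorem centralizer_le {T : Sylow 2 G} {t s : G} (hTz : (T : Subgroup G) ≤ centralizer ({z} : Set G))
    (hzT : z ∈ (T : Subgroup G)) (htT : t ∈ (T : Subgroup G)) (F : IsFour z t s) {y : G} (hy : y ∈ Dg z)
    (hy1 : y ≠ 1) {x : G} (hx : x ∈ centralizer ({y} : Set G)) : x ∈ A := by
  have hyz := (K.mem_Dg F.z2).1 hy
  have hOC := K.OC_eq hTz hzT htT F hy hy1
  set z' := x * z * x⁻¹ with hz'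
  have hz'2 : orderOf z' = 2 := by rw [hz', ← MulAut.conj_apply, MulEquiv.orderOf_eq, K.hyp.two]
  have hxy : Commute x y := mem_cent.1 hx
  have hzy : Commute z y := hyz.1.symm
  have hz'y : Commute z' y := (hxy.mul_left hzy).mul_left hxy.inv_left
  -- the product of the two involutions is a two-element
  set u := z * z' with hu
  have huy : Commute u y := hzy.mul_left hz'y
  have hinv : z * u * z⁻¹ = u⁻¹ := by
    rw [hu, mul_inv_rev, inv_of_two hz'2, inv_of_two K.hyp.two, ← mul_assoc, mul_self_of_two K.hyp.two, one_mul]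
  obtain ⟨k, m, hm, hkm⟩ := Nat.exists_eq_two_pow_mul_odd (orderOf_pos u).ne'
  have hu2 : u ^ 2 ^ k = 1 := by
    have ho : Odd (orderOf (u ^ 2 ^ k)) := by
      rw [orderOf_pow' u (by positivity), hkm, Nat.gcd_eq_right (Dvd.intro m rfl),
        Nat.mul_div_cancel_left m (by positivity)]
      exact hm
    have h1 : u ^ 2 ^ k ∈ Dg z := hOC (subset_OC (mem_cent.2 (huy.pow_left _).eq) ho)
    have h2 : z * u ^ 2 ^ k * z⁻¹ = (u ^ 2 ^ k)⁻¹ := by rw [← conj_pow, hinv, inv_pow]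
    rw [conj_fix_iff.2 ((K.mem_Dg F.z2).1 h1).1] at h2
    exact eq_one_of_sq_of_odd (mul_eq_one_iff_eq_inv.2 h2) ho
  have hwz : ∀ w : G, orderOf w = 2 → w * z = z * w → Commute w y → w = z := fun w hw hwz hwy => by
    by_contra hne
    exact hy1 (K.hyp.eq_one_of_comm hw hne hwz hy hwy.symm.eq)
  have hzz' : z' = z := by
    obtain ⟨j, -, hj⟩ := (Nat.dvd_prime_pow Nat.prime_two).1 (orderOf_dvd_of_pow_eq_one hu2)
    rcases j with _ | j
    · rw [pow_zero, orderOf_eq_one_iff, hu] at hj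
      rw [eq_inv_of_mul_eq_one_right hj, inv_of_two K.hyp.two]
    set w := u ^ 2 ^ j with hw
    have hw2 : orderOf w = 2 := by
      rw [hw, orderOf_pow' u (by positivity), hj, pow_succ, Nat.gcd_eq_right (Dvd.intro _ rfl),
        Nat.mul_div_cancel_left _ (by positivity)]
    have hwc : w * z = z * w := by
      have h : z * w * z⁻¹ = w := by rw [hw, ← conj_pow, hinv, inv_pow, ← hw, inv_of_two hw2]
      exact conj_fix_iff.1 h
    have e : w = z := hwz w hw2 hwc (huy.pow_left _)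
    have hcu : Commute u z := e ▸ (Commute.pow_right (Commute.refl u) _)
    refine hwz z' hz'2 ?_ hz'y
    have h := (((Commute.refl z).inv_left).mul_left hcu).eq
    rwa [hu, inv_mul_cancel_left] at h
  have hxC : x ∈ centralizer ({z} : Set G) := mem_cent.2 (mul_inv_eq_iff_eq_mul.1 hzz')
  by_contra hxA
  have h := K.hyp.inverts hxC hxA (K.hyp.Dg_le hy)
  rw [hxy.eq, mul_inv_cancel_right] at h
  exact hy1 (eq_one_of_sq_of_odd (mul_eq_one_iff_eq_inv.2 h) hyz.2)

/-- The classification. -/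
theorem iso_psl : ∃ (F : Type) (_ : Field F) (_ : Fintype F), Odd (Fintype.card F) ∧
    Nonempty (G ≃* Matrix.ProjectiveSpecialLinearGroup (Fin 2) F) := by
  haveI : Fact (Nat.Prime 2) := ⟨Nat.prime_two⟩
  haveI := K.simple
  obtain ⟨T, t, hTz, hzT, htT, F⟩ := K.exists_two_group
  set T₀ := (T : Subgroup G) ⊓ A with hT₀
  haveI hcyc : IsCyclic T₀ := K.hyp.isCyclic_two (T.2.to_le inf_le_left) inf_le_right
  obtain ⟨⟨σ, hσ⟩, hgenσ⟩ := IsCyclic.exists_generator (α := T₀)
  have hmem : ∀ y ∈ T₀, y ∈ zpowers σ := fun y hy => by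
    obtain ⟨i, hi⟩ := mem_zpowers_iff.1 (hgenσ ⟨y, hy⟩)
    exact ⟨i, congrArg Subtype.val hi⟩
  have htA : t ∉ A := K.hyp.not_mem_A F.t2 F.ne_zt.symm
  have htC : t ∈ centralizer ({z} : Set G) := hTz htT
  have hdec : ∀ x ∈ (T : Subgroup G), x ∈ zpowers σ ∨ x * t ∈ zpowers σ := by
    intro x hx
    by_cases hxA : x ∈ A
    · exact Or.inl (hmem x ⟨hx, hxA⟩)
    · exact Or.inr (hmem _ ⟨mul_mem hx htT, K.hyp.mul_mem_A (hTz hx) htC hxA htA⟩)
  have hσtA : σ * t ∉ A := fun h => htA ((Subgroup.mul_mem_cancel_left _ hσ.2).1 h)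
  have hσt : orderOf (σ * t) = 2 :=
    orderOf_eq_prime (by rw [pow_two]; exact K.hyp.out _ (mul_mem (hTz hσ.1) htC) hσtA)
      fun e => hσtA (e ▸ one_mem A)
  have hσ1 : σ ≠ 1 := fun e => by
    have h := hmem z ⟨hzT, K.hyp.mem⟩
    rw [e, zpowers_one_eq_bot, mem_bot] at h
    exact absurd K.hyp.two (by rw [h, orderOf_one]; omega)
  obtain ⟨e⟩ := Cfsg.Lib.InvolCalc.exists_dihedral_equiv hσt F.t2 fun e => hσ1 (mul_eq_right.1 e)
  have hcl : closure ({σ * t, t} : Set G) = (T : Subgroup G) := by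
    refine le_antisymm ((closure_le _).2 ?_) fun x hx => ?_
    · rintro x (rfl | hx)
      · exact mul_mem hσ.1 htT
      · exact Set.mem_singleton_iff.1 hx ▸ htT
    · have htm : t ∈ closure ({σ * t, t} : Set G) := Subgroup.subset_closure (Or.inr rfl)
      have hσm : σ ∈ closure ({σ * t, t} : Set G) := by
        have h := mul_mem (Subgroup.subset_closure (Or.inl rfl) : σ * t ∈ closure ({σ * t, t} : Set G)) (inv_mem htm)
        rwa [mul_inv_cancel_right] at h
      rcases hdec x hx with h | h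
      · exact zpowers_le.2 hσm h
      · have h' := mul_mem (zpowers_le.2 hσm h) (inv_mem htm)
        rwa [mul_inv_cancel_right] at h'
  have hn : 2 ≤ orderOf (σ * t * t) := by
    rw [mul_assoc, mul_self_of_two F.t2, mul_one]
    by_contra h
    exact hσ1 (orderOf_eq_one_iff.1 (by have := orderOf_pos σ; omega))
  set C := centralizer ({z} : Set G) with hC
  have hO : Dg z = ocore C := by
    refine le_antisymm (le_ocore ((K.hyp.Dg_le).trans K.hyp.le) ?_ K.hyp.odd_Dg) fun x hx => ?_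
    · exact fun c hc => mem_normalizer_closure fun x hx => by
        have h := conj_Dg c z (subset_Dg hx.1 hx.2)
        rw [conj_fix_iff.2 (mem_cent.1 hc).symm] at h
        exact h
    · exact subset_Dg (mem_cent.1 (ocore_le C hx)) (orderOf_odd (odd_ocore C) hx)
  refine Cfsg.Agent.S0508.result T _ hn ⟨(MulEquiv.subgroupCongr hcl.symm).trans e⟩ z K.hyp.two hzT
    (fun x hx => mem_cent.1 (hTz hx)) (Dg z) hO ?_ ?_ ?_
  · intro hne
    obtain ⟨y, hy, hy1⟩ := (Dg z).bot_or_exists_ne_one.resolve_left hne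
    have hTO : (T : Subgroup G) ⊓ centralizer (Dg z : Set G) = zpowers σ := by
      refine le_antisymm (fun x hx => ?_) (zpowers_le.2 ⟨hσ.1, mem_centralizer_iff.2 fun w hw =>
        K.hyp.comm w (K.hyp.Dg_le hw) σ hσ.2⟩)
      exact hmem x ⟨hx.1, K.centralizer_le hTz hzT htT F hy hy1
        (mem_cent.2 (mem_centralizer_iff.1 hx.2 y hy).symm)⟩
    rw [hTO]
    refine ⟨inferInstance, ?_⟩
    refine index_eq_two_iff.2 ⟨⟨t, htT⟩, fun x => ?_⟩
    rw [mem_subgroupOf, mem_subgroupOf, Subgroup.coe_mul]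
    have hno : ¬ t ∈ zpowers σ := fun h => htA (zpowers_le.2 hσ.2 h)
    rcases hdec x x.2 with h | h
    · exact Or.inr ⟨h, fun h' => hno ((Subgroup.mul_mem_cancel_left _ h).1 h')⟩
    · exact Or.inl ⟨h, fun h' => hno ((Subgroup.mul_mem_cancel_left _ h').1 h)⟩
  · intro x hx hxn y hy
    refine K.hyp.inverts (hTz hx) (fun hxA => hxn (mem_centralizer_iff.2 fun w hw => ?_)) (K.hyp.Dg_le hy)
    exact K.hyp.comm w (K.hyp.Dg_le hw) x hxA
  · intro Y hY hY0 g hg
    obtain ⟨y, hy, hy1⟩ := Y.bot_or_exists_ne_one.resolve_left hY0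
    have hgz : g * z * g⁻¹ ∈ A := by
      refine K.centralizer_le hTz hzT htT F (hY hy) hy1 (mem_cent.2 ?_)
      have h1 : g⁻¹ * y * g ∈ Y := by simpa using (mem_normalizer_iff.1 (inv_mem hg) y).1 hy
      have h2 := ((K.mem_Dg F.z2).1 (hY h1)).1
      have h3 := congrArg (MulAut.conj g) h2
      simpa [MulAut.conj_apply, mul_assoc] using h3.symm
    exact mem_cent.2 (mul_inv_eq_iff_eq_mul.1 (K.hyp.uniq _ hgz (by
      rw [← MulAut.conj_apply, MulEquiv.orderOf_eq, K.hyp.two])))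

end Core

end Cfsg.Lib.GenDihedral
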