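import Cfsg.Agent.S4481
import Cfsg.Agent.S4482
import Cfsg.Agent.InvolCalc.KleinCentralizer

/-!
Bounds for the order in terms of the centraliser of an involution, with dihedral Sylow two-subgroups.
-/

set_option autoImplicit false
set_option linter.unusedSectionVars false
set_option linter.style.haveILetI false

namespace Cfsg.Lib.GenDihedral

universe u

theorem one_neg {a b c : ℤ} (ha : 1 ≤ a) (hb : 1 ≤ b) (hsum : a + b + c = -1) (ha4 : 4 ∣ a - 1) (hb4 : 4 ∣ b - 1) :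
    1 < 1 + 1 / (a : ℚ) + 1 / (b : ℚ) + 1 / (c : ℚ) ∧ 1 + 1 / (a : ℚ) + 1 / (b : ℚ) + 1 / (c : ℚ) ≤ 8 / 3 := by
  have haq : (1 : ℚ) ≤ a := by exact_mod_cast ha
  have hbq : (1 : ℚ) ≤ b := by exact_mod_cast hb
  have hc : (c : ℚ) = -(1 + a + b) := by
    have : c = -(1 + a + b) := by omega
    exact_mod_cast this
  rw [hc, div_neg]
  have hlt : 1 / (1 + (a : ℚ) + b) < 1 / (a : ℚ) := one_div_lt_one_div_of_lt (by linarith) (by linarith)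
  have hb0 : 0 < 1 / (b : ℚ) := by positivity
  refine ⟨by linarith, ?_⟩
  have hs0 : 0 < 1 / (1 + (a : ℚ) + b) := by positivity
  by_cases h : a = 1 ∧ b = 1
  · rw [h.1, h.2]; norm_num
  have ha1 : 1 / (a : ℚ) ≤ 1 := by rw [div_le_one (by linarith)]; linarith
  have hb1 : 1 / (b : ℚ) ≤ 1 := by rw [div_le_one (by linarith)]; linarith
  rcases (show 5 ≤ a ∨ 5 ≤ b by omega) with h5 | h5
  · have h5q : (5 : ℚ) ≤ a := by exact_mod_cast h5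
    have := one_div_le_one_div_of_le (by norm_num) h5q
    linarith
  · have h5q : (5 : ℚ) ≤ b := by exact_mod_cast h5
    have := one_div_le_one_div_of_le (by norm_num) h5q
    linarith

theorem two_neg {a b c : ℤ} (hb : b ≤ -3) (hc : c ≤ -3) (hsum : a + b + c = -1) (hb4 : 4 ∣ b - 1)
    (hc4 : 4 ∣ c - 1) :
    1 / 2 < 1 + 1 / (a : ℚ) + 1 / (b : ℚ) + 1 / (c : ℚ) ∧ 1 + 1 / (a : ℚ) + 1 / (b : ℚ) + 1 / (c : ℚ) < 1 := by
  obtain ⟨p, rfl⟩ : ∃ p, b = -p := ⟨-b, (neg_neg b).symm⟩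
  obtain ⟨q, rfl⟩ : ∃ q, c = -q := ⟨-c, (neg_neg c).symm⟩
  have hp : (3 : ℚ) ≤ p := by exact_mod_cast (show 3 ≤ p by omega)
  have hq : (3 : ℚ) ≤ q := by exact_mod_cast (show 3 ≤ q by omega)
  have haq : (a : ℚ) = p + q - 1 := by exact_mod_cast (show a = p + q - 1 by omega)
  push_cast
  rw [haq, div_neg, div_neg]
  have hlt : 1 / ((p : ℚ) + q - 1) < 1 / (p : ℚ) := one_div_lt_one_div_of_lt (by linarith) (by linarith)
  have hq0 : 0 < 1 / (q : ℚ) := by positivity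
  have hpos : 0 < 1 / ((p : ℚ) + q - 1) := by apply one_div_pos.2; linarith
  refine ⟨?_, by linarith⟩
  by_cases h : p = 3 ∧ q = 3
  · rw [h.1, h.2]; norm_num
  have hp3 : 1 / (p : ℚ) ≤ 1 / 3 := one_div_le_one_div_of_le (by norm_num) hp
  have hq3 : 1 / (q : ℚ) ≤ 1 / 3 := one_div_le_one_div_of_le (by norm_num) hq
  rcases (show 7 ≤ p ∨ 7 ≤ q by omega) with h7 | h7
  · have h7q : (7 : ℚ) ≤ p := by exact_mod_cast h7
    have := one_div_le_one_div_of_le (by norm_num) h7q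
    linarith
  · have h7q : (7 : ℚ) ≤ q := by exact_mod_cast h7
    have := one_div_le_one_div_of_le (by norm_num) h7q
    linarith

theorem klein_bounds {a b c : ℤ} (hsum : a + b + c = -1) (ha : 4 ∣ a - 1) (hb : 4 ∣ b - 1) (hc : 4 ∣ c - 1) :
    1 / 2 < 1 + 1 / (a : ℚ) + 1 / (b : ℚ) + 1 / (c : ℚ) ∧ 1 + 1 / (a : ℚ) + 1 / (b : ℚ) + 1 / (c : ℚ) ≤ 8 / 3 := by
  have H1 : ∀ {a b c : ℤ}, 1 ≤ a → 1 ≤ b → a + b + c = -1 → 4 ∣ a - 1 → 4 ∣ b - 1 →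
      1 / 2 < 1 + 1 / (a : ℚ) + 1 / (b : ℚ) + 1 / (c : ℚ) ∧
        1 + 1 / (a : ℚ) + 1 / (b : ℚ) + 1 / (c : ℚ) ≤ 8 / 3 :=
    fun h1 h2 h3 h4 h5 => ⟨lt_trans (by norm_num) (one_neg h1 h2 h3 h4 h5).1, (one_neg h1 h2 h3 h4 h5).2⟩
  have H2 : ∀ {a b c : ℤ}, b ≤ -3 → c ≤ -3 → a + b + c = -1 → 4 ∣ b - 1 → 4 ∣ c - 1 →
      1 / 2 < 1 + 1 / (a : ℚ) + 1 / (b : ℚ) + 1 / (c : ℚ) ∧
        1 + 1 / (a : ℚ) + 1 / (b : ℚ) + 1 / (c : ℚ) ≤ 8 / 3 :=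
    fun h1 h2 h3 h4 h5 => ⟨(two_neg h1 h2 h3 h4 h5).1, le_trans (two_neg h1 h2 h3 h4 h5).2.le (by norm_num)⟩
  rcases (show a ≤ -3 ∨ 1 ≤ a by omega) with ha' | ha' <;> rcases (show b ≤ -3 ∨ 1 ≤ b by omega) with hb' | hb' <;>
    rcases (show c ≤ -3 ∨ 1 ≤ c by omega) with hc' | hc'
  · omega
  · obtain ⟨x, y⟩ := H2 ha' hb' (show c + a + b = -1 by omega) ha hb
    exact ⟨by linarith, by linarith⟩
  · obtain ⟨x, y⟩ := H2 ha' hc' (show b + a + c = -1 by omega) ha hc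
    exact ⟨by linarith, by linarith⟩
  · obtain ⟨x, y⟩ := H1 hb' hc' (show b + c + a = -1 by omega) hb hc
    exact ⟨by linarith, by linarith⟩
  · exact H2 hb' hc' hsum hb hc
  · obtain ⟨x, y⟩ := H1 ha' hc' (show a + c + b = -1 by omega) ha hc
    exact ⟨by linarith, by linarith⟩
  · exact H1 ha' hb' hsum ha hb
  · omega

/-- With a four-group as Sylow subgroup and one class of involutions. -/
theorem klein_order_gen {X : Type u} [Group X] [Finite X] (P : Sylow 2 X) (h4 : Nat.card (P : Subgroup X) = 4)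
    (hexp : ∀ u ∈ (P : Subgroup X), u * u = 1) (hone : ∀ a b : X, orderOf a = 2 → orderOf b = 2 → IsConj a b)
    {ρ : ℕ} (hC : Nat.card (Subgroup.centralizer ((P : Subgroup X) : Set X)) = 4 * ρ) {J : X} (hJ : J ∈ (P : Subgroup X))
    (hJ2 : orderOf J = 2) :
    ∃ S : ℚ, 1 / 2 < S ∧ S ≤ 8 / 3 ∧
      (Nat.card (Subgroup.centralizer ({J} : Set X)) : ℚ) ^ 3 = 2 * ((Nat.card X : ℚ) * (ρ : ℚ) ^ 2) * S := by
  classical
  haveI := Fintype.ofFinite X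
  obtain ⟨M, hM⟩ := Cfsg.Lib.Blocks.exists_isPModular (p := 2) Nat.prime_two
  obtain ⟨ε, hcard, hε1, hε⟩ := Cfsg.Lib.Blocks.klein_values (M := M) h4 hexp hM hone
  set B := Finset.univ.filter (fun φ : Cfsg.IrrCharacter X => φ ∈ Cfsg.principalBlock M X) with hB
  have hpr : Cfsg.Lib.Chars.principal X ∈ B :=
    Finset.mem_filter.2 ⟨Finset.mem_univ _, Cfsg.Lib.Blocks.mem_blockOf_self hM (Cfsg.Lib.Chars.principal X)⟩
  obtain ⟨χ₁, χ₂, χ₃, n12, n13, n23, hT⟩ := Finset.card_eq_three.1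
    (show (B.erase (Cfsg.Lib.Chars.principal X)).card = 3 by rw [Finset.card_erase_of_mem hpr, hcard])
  have hdata : ∀ φ ∈ B.erase (Cfsg.Lib.Chars.principal X),
      (ε φ = 1 ∨ ε φ = -1) ∧ (4 : ℤ) ∣ (Cfsg.Lib.Chars.deg (φ : X → ℂ) : ℤ) - ε φ ∧ (φ : X → ℂ) J = (ε φ : ℂ) := by
    intro φ hφ
    obtain ⟨hs, hv⟩ := hε φ (Finset.mem_filter.1 (Finset.mem_erase.1 hφ).2).2
    exact ⟨hs, Cfsg.Lib.Blocks.klein_deg_congr h4 hexp hM hone hv, hv J (by rw [hJ2])⟩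
  have hB4 : B = {Cfsg.Lib.Chars.principal X, χ₁, χ₂, χ₃} := by
    rw [← Finset.insert_erase hpr, hT]
  have m1 : χ₁ ∈ B.erase (Cfsg.Lib.Chars.principal X) := by rw [hT]; simp
  have m2 : χ₂ ∈ B.erase (Cfsg.Lib.Chars.principal X) := by rw [hT]; simp
  have m3 : χ₃ ∈ B.erase (Cfsg.Lib.Chars.principal X) := by rw [hT]; simp
  obtain ⟨o1, d1, v1⟩ := hdata _ m1
  obtain ⟨o2, d2, v2⟩ := hdata _ m2
  obtain ⟨o3, d3, v3⟩ := hdata _ m3
  have e1 := (Finset.mem_erase.1 m1).1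
  have e2 := (Finset.mem_erase.1 m2).1
  have e3 := (Finset.mem_erase.1 m3).1
  set x₁ := Cfsg.Lib.Chars.deg (χ₁ : X → ℂ) with hx₁
  set x₂ := Cfsg.Lib.Chars.deg (χ₂ : X → ℂ) with hx₂
  set x₃ := Cfsg.Lib.Chars.deg (χ₃ : X → ℂ) with hx₃
  have hprin : ∀ g : X, (Cfsg.Lib.Chars.principal X : X → ℂ) g = 1 := fun g => rfl
  have hrel : (1 : ℤ) + ε χ₁ * x₁ + ε χ₂ * x₂ + ε χ₃ * x₃ = 0 := by
    have hPB : Cfsg.IsPBlock M (Cfsg.principalBlock M X) :=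
      Cfsg.Lib.Blocks.isPBlock_blockOf (Cfsg.Lib.Chars.principal X)
    have h := Cfsg.Lib.Blocks.block_orthogonality_regular hM hPB
      (show ¬ 2 ∣ orderOf (1 : X) by rw [orderOf_one]; norm_num) (show 2 ∣ orderOf J by rw [hJ2])
    rw [← hB, hB4, Finset.sum_insert (by simp [e1.symm, e2.symm, e3.symm]),
      Finset.sum_insert (by simp [n12, n13]), Finset.sum_pair n23, hprin, hprin, v1, v2, v3] at h
    simp only [Cfsg.Lib.Chars.irr_apply_one_eq_deg, map_intCast, map_one, mul_one, ← hx₁, ← hx₂, ← hx₃] at h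
    apply Int.cast_injective (α := ℂ)
    push_cast
    linear_combination h
  have hF := Cfsg.Lib.Blocks.klein_order_formula (M := M) h4 hexp hM hone hJ hJ2
  rw [← hB, hB4, Finset.sum_insert (by simp [e1.symm, e2.symm, e3.symm]),
    Finset.sum_insert (by simp [n12, n13]), Finset.sum_pair n23, hprin, hprin, v1, v2, v3, hC] at hF
  simp only [Cfsg.Lib.Chars.irr_apply_one_eq_deg, ← hx₁, ← hx₂, ← hx₃] at hF
  have p1 : (x₁ : ℤ) ≠ 0 := Int.natCast_ne_zero.2 (Cfsg.Lib.Chars.deg_irr_pos χ₁).ne'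
  have p2 : (x₂ : ℤ) ≠ 0 := Int.natCast_ne_zero.2 (Cfsg.Lib.Chars.deg_irr_pos χ₂).ne'
  have p3 : (x₃ : ℤ) ≠ 0 := Int.natCast_ne_zero.2 (Cfsg.Lib.Chars.deg_irr_pos χ₃).ne'
  have hinv : ∀ (e : ℤ) (x : ℕ), (e = 1 ∨ e = -1) → (4 : ℤ) ∣ (x : ℤ) - e →
      (4 ∣ e * (x : ℤ) - 1) ∧ (e : ℚ) / (x : ℚ) = 1 / ((e * (x : ℤ) : ℤ) : ℚ) := by
    intro e x he hd
    rcases he with rfl | rfl
    · exact ⟨by omega, by push_cast; rw [one_mul]⟩
    · refine ⟨by omega, ?_⟩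
      push_cast
      rw [neg_one_mul, div_neg, neg_div]
  obtain ⟨c1, q1⟩ := hinv _ _ o1 d1
  obtain ⟨c2, q2⟩ := hinv _ _ o2 d2
  obtain ⟨c3, q3⟩ := hinv _ _ o3 d3
  refine ⟨1 + (ε χ₁ : ℚ) / x₁ + (ε χ₂ : ℚ) / x₂ + (ε χ₃ : ℚ) / x₃, ?_, ?_, ?_⟩
  · rw [q1, q2, q3]; exact (klein_bounds (by omega) c1 c2 c3).1
  · rw [q1, q2, q3]; exact (klein_bounds (by omega) c1 c2 c3).2
  · apply Rat.cast_injective (α := ℂ)
    push_cast at hF ⊢
    linear_combination hF / 8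

/-- With a self-centralising four-group. -/
theorem klein_order {X : Type u} [Group X] [Finite X] (P : Sylow 2 X) (h4 : Nat.card (P : Subgroup X) = 4)
    (hexp : ∀ u ∈ (P : Subgroup X), u * u = 1) (hone : ∀ a b : X, orderOf a = 2 → orderOf b = 2 → IsConj a b)
    (hC : Nat.card (Subgroup.centralizer ((P : Subgroup X) : Set X)) = 4) {J : X} (hJ : J ∈ (P : Subgroup X))
    (hJ2 : orderOf J = 2) :
    ∃ S : ℚ, 1 / 2 < S ∧ S ≤ 8 / 3 ∧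
      (Nat.card (Subgroup.centralizer ({J} : Set X)) : ℚ) ^ 3 = 2 * (Nat.card X : ℚ) * S := by
  simpa using klein_order_gen P h4 hexp hone (ρ := 1) hC hJ hJ2

theorem eight_dvd {d : ℤ} (h : (32 : ℤ) ∣ d ^ 2) : (8 : ℤ) ∣ d := by
  have key : ∀ r : ℕ, r < 32 → (r ^ 2) % 32 = 0 → r % 8 = 0 := by decide
  obtain ⟨m, hm⟩ : ∃ m : ℕ, d.natAbs = m := ⟨_, rfl⟩
  have h' : 32 ∣ m ^ 2 := by
    rw [← hm, ← Int.natAbs_pow]
    exact Int.natAbs_dvd_natAbs.2 h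
  have h8 : 8 ∣ m := by
    have := key (m % 32) (Nat.mod_lt _ (by norm_num)) (by rw [← Nat.pow_mod]; omega)
    omega
  omega

/-- The bound from the dihedral formula. -/
theorem dihedral_bounds {g n h f : ℕ} {δ : ℤ} (hn : 3 ≤ n) (hδ : δ = 1 ∨ δ = -1) (hg : Odd g) (hf : 0 < f)
    (hne : (f : ℤ) ≠ δ)
    (he : (2 ^ n * g : ℤ) * (2 * ((f : ℤ) - δ) ^ 2) = (f : ℤ) * ((f : ℤ) + δ) * (2 ^ n * h : ℤ) ^ 3) :
    21 * (2 ^ n * h) ^ 3 ≤ 32 * (2 * (2 ^ n * g)) ∧ 32 * (2 * (2 ^ n * g)) ≤ 45 * (2 ^ n * h) ^ 3 := by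
  have h2n : ((2 : ℤ) ^ n) ≠ 0 := pow_ne_zero _ two_ne_zero
  have he' : (g : ℤ) * ((f : ℤ) - δ) ^ 2 = 32 * ((f : ℤ) * ((f : ℤ) + δ) * h ^ 3 * 4 ^ (n - 3)) := by
    apply mul_left_cancel₀ (mul_ne_zero h2n two_ne_zero)
    obtain ⟨m, rfl⟩ : ∃ m, n = m + 3 := ⟨n - 3, by omega⟩
    rw [show m + 3 - 3 = m by omega, show (4 : ℤ) ^ m = 2 ^ m * 2 ^ m by rw [← mul_pow]; norm_num]
    rw [pow_add] at he ⊢
    linear_combination he
  have h32 : (32 : ℤ) ∣ ((f : ℤ) - δ) ^ 2 := by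
    have hcop : IsCoprime (32 : ℤ) (g : ℤ) := by
      rw [Int.isCoprime_iff_gcd_eq_one]
      show Nat.gcd 32 g = 1
      exact (Nat.coprime_two_left.2 hg).pow_left 5
    exact hcop.dvd_of_dvd_mul_left ⟨_, he'⟩
  obtain ⟨k, hk⟩ := eight_dvd h32
  have hk0 : k ≠ 0 := fun e => hne (by rw [e, mul_zero] at hk; omega)
  have hk1 : 1 ≤ k := by omega
  set G' : ℤ := 2 * (2 ^ n * g) with hG'
  set C' : ℤ := (2 ^ n * h) ^ 3 with hC'
  have he2 : G' * (64 * k ^ 2) = (f : ℤ) * ((f : ℤ) + δ) * C' := by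
    rw [← he, hk, hG']; ring
  have hC0 : 0 ≤ C' := by positivity
  have hG0 : 0 ≤ G' := by positivity
  have hf' : (f : ℤ) = 8 * k + δ := by omega
  have hkk : 0 < k ^ 2 := by positivity
  have key : 21 * C' ≤ 32 * G' ∧ 32 * G' ≤ 45 * C' := by
    rcases hδ with rfl | rfl
    · rw [hf'] at he2
      have l1 : 64 * k ^ 2 ≤ (8 * k + 1) * (8 * k + 1 + 1) := by nlinarith
      have l2 : (8 * k + 1) * (8 * k + 1 + 1) ≤ 90 * k ^ 2 := by nlinarith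
      constructor
      · have := mul_le_mul_of_nonneg_right l1 hC0
        nlinarith
      · have := mul_le_mul_of_nonneg_right l2 hC0
        nlinarith
    · rw [hf'] at he2
      have l1 : 42 * k ^ 2 ≤ (8 * k + -1) * (8 * k + -1 + -1) := by nlinarith
      have l2 : (8 * k + -1) * (8 * k + -1 + -1) ≤ 64 * k ^ 2 := by nlinarith
      constructor
      · have := mul_le_mul_of_nonneg_right l1 hC0
        nlinarith
      · have := mul_le_mul_of_nonneg_right l2 hC0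
        nlinarith
  constructor
  · exact_mod_cast (show (21 : ℤ) * (2 ^ n * h) ^ 3 ≤ 32 * (2 * (2 ^ n * g)) from key.1)
  · exact_mod_cast (show (32 : ℤ) * (2 * (2 ^ n * g)) ≤ 45 * (2 ^ n * h) ^ 3 from key.2)

/-- With a dihedral Sylow subgroup of order at least eight and one class of involutions. -/
theorem dihedral_order_gen {X : Type u} [Group X] [Finite X] (n : ℕ) (hn : 3 ≤ n) (P : Sylow 2 X) (σ τ : X)
    (hσ : σ ∈ (P : Subgroup X)) (hτ : τ ∈ (P : Subgroup X)) (hP : Nat.card (P : Subgroup X) = 2 ^ n)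
    (hD : Nonempty ((P : Subgroup X) ≃* DihedralGroup (2 ^ (n - 1)))) (hσo : orderOf σ = 2 ^ (n - 1))
    (hτo : orderOf τ = 2) (hrel : τ * σ * τ⁻¹ = σ⁻¹)
    (hgen : Subgroup.closure ({σ, τ} : Set X) = (P : Subgroup X))
    (hone : ∀ a b : X, orderOf a = 2 → orderOf b = 2 → IsConj a b) {J : X} (hJ : σ ^ (2 ^ (n - 2)) = J)
    (hJ2 : orderOf J = 2) (hJP : (P : Subgroup X) ≤ Subgroup.centralizer ({J} : Set X))
    {ρ : ℕ} (hρ : Odd ρ) (hcτ : Nat.card (Subgroup.centralizer ({J, τ} : Set X)) = 4 * ρ)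
    (hcστ : Nat.card (Subgroup.centralizer ({J, σ * τ} : Set X)) = 4 * ρ) (hστ : orderOf (σ * τ) = 2) :
    21 * Nat.card (Subgroup.centralizer ({J} : Set X)) ^ 3 ≤ 32 * (2 * (Nat.card X * ρ ^ 2)) ∧
      32 * (2 * (Nat.card X * ρ ^ 2)) ≤ 45 * Nat.card (Subgroup.centralizer ({J} : Set X)) ^ 3 := by
  obtain ⟨M, hM⟩ := Cfsg.Lib.Blocks.exists_isPModular (p := 2) Nat.prime_two
  have hζ : IsPrimitiveRoot (Complex.exp (2 * Real.pi * Complex.I / ((2 ^ (n - 1) : ℕ) : ℂ))) (2 ^ (n - 1)) :=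
    Complex.isPrimitiveRoot_exp _ (by positivity)
  obtain ⟨-, χ₁, χ₂, χ₃, χ', δ₁, δ₂, δ₃, hδ₁, -, -, -, h1, -, -, -, -, -, -, hblock, hval, -⟩ :=
    Cfsg.Agent.S4481.result M hM n hn P hD σ hσ hσo _ hζ
  have hχ₁ : χ₁ ∈ Cfsg.principalBlock M X := by rw [hblock]; exact Or.inr (Or.inl rfl)
  obtain ⟨hne, hF⟩ := Cfsg.Agent.S4482.result M hM n hn P σ τ hσ hτ hσo hτo hrel hgen
    ⟨hone _ _ (hJ ▸ hJ2) hτo, hone _ _ (hJ ▸ hJ2) hστ⟩ χ₁ hχ₁ h1 δ₁ hδ₁ fun l hl hl' => (hval l hl hl').1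
  rw [hJ, hcτ, hcστ] at hF
  set f := Cfsg.charDegree (χ₁ : X → ℂ) with hf
  set c := Nat.card (Subgroup.centralizer ({J} : Set X)) with hc
  obtain ⟨g, hg⟩ : 2 ^ n ∣ Nat.card X := hP ▸ Subgroup.card_subgroup_dvd_card _
  obtain ⟨h, hh⟩ : 2 ^ n ∣ c := hP ▸ Subgroup.card_dvd_of_le hJP
  have hgo : Odd g := by
    have e : (P : Subgroup X).index = g := Nat.eq_of_mul_eq_mul_left (Nat.two_pow_pos n) (by
      rw [← hg, ← hP, Subgroup.card_mul_index])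
    rw [← Nat.not_even_iff_odd, even_iff_two_dvd, ← e]
    exact P.not_dvd_index
  have hf0 : 0 < f := by
    exact Cfsg.Lib.Chars.deg_irr_pos χ₁
  have key := dihedral_bounds (g := g * ρ ^ 2) (h := h) (f := f) hn hδ₁ (hgo.mul hρ.pow) hf0 hne (by
    apply Int.cast_injective (α := ℚ)
    rw [show (Nat.card X : ℚ) = (2 : ℚ) ^ n * g by rw [hg]; push_cast; rfl,
      show (c : ℚ) = (2 : ℚ) ^ n * h by rw [hh]; push_cast; rfl] at hF
    push_cast at hF ⊢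
    have hρ0 : (ρ : ℚ) ≠ 0 := Nat.cast_ne_zero.2 hρ.pos.ne'
    have e : (ρ : ℚ) ^ 2 * (1 / (4 * (ρ : ℚ)) + 1 / (4 * ρ)) ^ 2 = 1 / 4 := by field_simp; ring
    linear_combination (2 * (ρ : ℚ) ^ 2) * hF + (4 * (f : ℚ) * (f + δ₁) * (2 ^ n * h) ^ 3) * e)
  rw [← hh, ← mul_assoc (2 ^ n) g (ρ ^ 2), ← hg] at key
  exact key


/-- With self-centralising four-groups. -/
theorem dihedral_order {X : Type u} [Group X] [Finite X] (n : ℕ) (hn : 3 ≤ n) (P : Sylow 2 X) (σ τ : X)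
    (hσ : σ ∈ (P : Subgroup X)) (hτ : τ ∈ (P : Subgroup X)) (hP : Nat.card (P : Subgroup X) = 2 ^ n)
    (hD : Nonempty ((P : Subgroup X) ≃* DihedralGroup (2 ^ (n - 1)))) (hσo : orderOf σ = 2 ^ (n - 1))
    (hτo : orderOf τ = 2) (hrel : τ * σ * τ⁻¹ = σ⁻¹)
    (hgen : Subgroup.closure ({σ, τ} : Set X) = (P : Subgroup X))
    (hone : ∀ a b : X, orderOf a = 2 → orderOf b = 2 → IsConj a b) {J : X} (hJ : σ ^ (2 ^ (n - 2)) = J)
    (hJ2 : orderOf J = 2) (hJP : (P : Subgroup X) ≤ Subgroup.centralizer ({J} : Set X))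
    (hcτ : Nat.card (Subgroup.centralizer ({J, τ} : Set X)) = 4)
    (hcστ : Nat.card (Subgroup.centralizer ({J, σ * τ} : Set X)) = 4) (hστ : orderOf (σ * τ) = 2) :
    21 * Nat.card (Subgroup.centralizer ({J} : Set X)) ^ 3 ≤ 32 * (2 * Nat.card X) ∧
      32 * (2 * Nat.card X) ≤ 45 * Nat.card (Subgroup.centralizer ({J} : Set X)) ^ 3 := by
  simpa using dihedral_order_gen n hn P σ τ hσ hτ hP hD hσo hτo hrel hgen hone hJ hJ2 hJP (ρ := 1) odd_one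
    hcτ hcστ hστ

end Cfsg.Lib.GenDihedral
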