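import Cfsg.Agent.GenDihedral.Nilp
import Cfsg.Agent.Coprime.Sylow
import Cfsg.Agent.SolvStruct.CrossCharDerived
import Cfsg.Agent.Transfer.ThompsonTransfer
import Cfsg.Agent.OddLocal.FittingParts

/-!
Simple groups whose involution centraliser is generalised dihedral: the odd parts of the centralisers.
-/

set_option autoImplicit false
set_option linter.unusedSectionVars false
set_option linter.style.haveILetI false

namespace Cfsg.Lib.GenDihedral

open Subgroup

universe u

variable {G : Type u} [Group G] [Finite G]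

/-- The centraliser of `z` is generalised dihedral over `A`, with `z` the only involution of `A`. -/
structure Hyp (z : G) (A : Subgroup G) : Prop where
  two : orderOf z = 2
  mem : z ∈ A
  le : A ≤ centralizer {z}
  comm : ∀ a ∈ A, ∀ b ∈ A, a * b = b * a
  idx : A.relIndex (centralizer {z}) = 2
  uniq : ∀ a ∈ A, orderOf a = 2 → a = z
  out : ∀ x ∈ centralizer {z}, x ∉ A → x * x = 1
  oddIdx : Odd (centralizer {z}).index

theorem mem_cent {z x : G} : x ∈ centralizer ({z} : Set G) ↔ x * z = z * x := by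
  rw [mem_centralizer_singleton_iff]

theorem mul_self_of_two {z : G} (h : orderOf z = 2) : z * z = 1 := by
  rw [← pow_two, ← h, pow_orderOf_eq_one]

theorem inv_of_two {z : G} (h : orderOf z = 2) : z⁻¹ = z :=
  inv_eq_of_mul_eq_one_left (mul_self_of_two h)

theorem eq_one_of_sq_of_odd {x : G} (hx : x * x = 1) (ho : Odd (orderOf x)) : x = 1 := by
  have h2 : orderOf x ∣ 2 := orderOf_dvd_of_pow_eq_one (by rw [pow_two, hx])
  rcases (Nat.dvd_prime Nat.prime_two).1 h2 with h | h
  · exact orderOf_eq_one_iff.1 h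
  · rw [h] at ho; exact absurd ho (by decide)

theorem two_or_one {x : G} (hx : x * x = 1) : x = 1 ∨ orderOf x = 2 := by
  by_cases h : x = 1
  · exact Or.inl h
  · exact Or.inr (orderOf_eq_prime (by rwa [pow_two]) h)

/-- The elements of odd order commuting with `v`, as a generated subgroup. -/
def Dg (v : G) : Subgroup G := closure {x | x * v = v * x ∧ Odd (orderOf x)}

theorem subset_Dg {v x : G} (h : x * v = v * x) (ho : Odd (orderOf x)) : x ∈ Dg v :=
  subset_closure ⟨h, ho⟩

theorem conj_Dg (g v : G) {x : G} (hx : x ∈ Dg v) : g * x * g⁻¹ ∈ Dg (g * v * g⁻¹) := by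
  induction hx using closure_induction with
  | mem x hx =>
    refine subset_Dg (by rw [conj_mul, hx.1, ← conj_mul]) ?_
    rw [← MulAut.conj_apply, MulEquiv.orderOf_eq]
    exact hx.2
  | one => simp
  | mul a b _ _ ha hb => rw [← conj_mul]; exact mul_mem ha hb
  | inv a _ ha => rw [← conj_inv]; exact inv_mem ha

/-- The elements of odd order of the centraliser of `x`, as a generated subgroup. -/
def OC (x : Set G) : Subgroup G := closure {y | y ∈ centralizer x ∧ Odd (orderOf y)}

theorem OC_le (S : Set G) : OC S ≤ centralizer S := (closure_le _).2 fun _ h => h.1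

theorem subset_OC {S : Set G} {y : G} (h : y ∈ centralizer S) (ho : Odd (orderOf y)) : y ∈ OC S :=
  subset_closure ⟨h, ho⟩

theorem OC_anti {S T : Set G} (h : S ⊆ T) : OC T ≤ OC S :=
  closure_mono fun _ hy => ⟨centralizer_le h hy.1, hy.2⟩

theorem le_OC {S : Set G} {X : Subgroup G} (hX : X ≤ centralizer S) (ho : Odd (Nat.card X)) : X ≤ OC S :=
  fun x hx => subset_OC (hX hx) (ho.of_dvd_nat ((Subgroup.orderOf_mk x hx) ▸ orderOf_dvd_natCard _))

theorem normalizer_le_OC (S : Subgroup G) :
    normalizer (S : Set G) ≤ normalizer (OC (S : Set G) : Set G) := by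
  intro g hg
  refine Cfsg.Lib.Coprime.mem_normalizer_of_conj_mem ?_ ?_
  · intro x hx
    induction hx using closure_induction with
    | mem x hx =>
      refine subset_OC (mem_centralizer_iff.2 fun s hs => ?_) ?_
      · have h := mem_centralizer_iff.1 hx.1 _ ((mem_normalizer_iff'.1 hg (g⁻¹ * s)).2 (by simpa using hs))
        have h' := congrArg (MulAut.conj g) h
        simpa [MulAut.conj_apply, mul_assoc] using h'
      · rw [← MulAut.conj_apply, MulEquiv.orderOf_eq]; exact hx.2
    | one => simp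
    | mul a b _ _ ha hb => rw [← conj_mul]; exact mul_mem ha hb
    | inv a _ ha => rw [← conj_inv]; exact inv_mem ha
  · intro x hx
    induction hx using closure_induction with
    | mem x hx =>
      refine subset_OC (mem_centralizer_iff.2 fun s hs => ?_) ?_
      · have h := mem_centralizer_iff.1 hx.1 _ ((mem_normalizer_iff.1 hg s).1 hs)
        have h' := congrArg (MulAut.conj g⁻¹) h
        simpa [MulAut.conj_apply, mul_assoc] using h'
      · have := MulEquiv.orderOf_eq (MulAut.conj g⁻¹) x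
        simp only [MulAut.conj_apply, inv_inv] at this
        rw [this]; exact hx.2
    | one => simp
    | mul a b _ _ ha hb =>
      rw [show g⁻¹ * (a * b) * g = (g⁻¹ * a * g) * (g⁻¹ * b * g) by group]; exact mul_mem ha hb
    | inv a _ ha => rw [show g⁻¹ * a⁻¹ * g = (g⁻¹ * a * g)⁻¹ by group]; exact inv_mem ha

/-- A four-group. -/
structure IsFour (z t s : G) : Prop where
  z2 : orderOf z = 2
  t2 : orderOf t = 2
  s2 : orderOf s = 2
  zt : z * t = s
  tz : t * z = s

namespace IsFour

variable {z t s : G} (F : IsFour z t s)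
include F

theorem swap : IsFour t z s := ⟨F.t2, F.z2, F.s2, F.tz, F.zt⟩

theorem rot : IsFour t s z := by
  refine ⟨F.t2, F.s2, F.z2, ?_, ?_⟩
  · rw [← F.tz, ← mul_assoc, mul_self_of_two F.t2, one_mul]
  · rw [← F.zt, mul_assoc, mul_self_of_two F.t2, mul_one]

theorem ne_zt : z ≠ t := fun e => by
  have h := F.s2
  rw [← F.zt, e, mul_self_of_two F.t2, orderOf_one] at h
  omega

theorem comm : z * t = t * z := F.zt.trans F.tz.symm

end IsFour

theorem isFour_of_comm {z t : G} (hz : orderOf z = 2) (ht : orderOf t = 2) (h : z * t = t * z) (hne : z ≠ t) :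
    IsFour z t (z * t) :=
  ⟨hz, ht, orderOf_eq_prime (by
      rw [pow_two, show z * t * (z * t) = z * t * (t * z) by rw [h], mul_assoc, ← mul_assoc t t z,
        mul_self_of_two ht, one_mul, mul_self_of_two hz])
    (fun e => hne (by rw [eq_inv_of_mul_eq_one_left e, inv_of_two ht])), rfl, h.symm⟩

/-- The simple group setting. -/
structure Core (z : G) (A : Subgroup G) : Prop where
  hyp : Hyp z A
  simple : IsSimpleGroup G
  nonsolv : ¬ Group.IsSolvable G

namespace Hyp

variable {z : G} {A : Subgroup G} (K : Hyp z A)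
include K

theorem mem_z : z ∈ centralizer ({z} : Set G) := mem_cent.2 rfl

theorem mul_mem_A {x y : G} (hx : x ∈ centralizer ({z} : Set G)) (hy : y ∈ centralizer ({z} : Set G))
    (hxA : x ∉ A) (hyA : y ∉ A) : x * y ∈ A := by
  have h := Subgroup.mul_mem_iff_of_index_two (H := A.subgroupOf (centralizer {z})) K.idx
    (a := ⟨x, hx⟩) (b := ⟨y, hy⟩)
  simp only [mem_subgroupOf, Subgroup.coe_mul] at h
  exact h.2 (iff_of_false hxA hyA)

theorem inverts {x a : G} (hx : x ∈ centralizer ({z} : Set G)) (hxA : x ∉ A) (ha : a ∈ A) :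
    x * a * x⁻¹ = a⁻¹ := by
  have h := K.out (x * a) (mul_mem hx (K.le ha)) fun h => hxA ((Subgroup.mul_mem_cancel_right A ha).1 h)
  rw [inv_eq_of_mul_eq_one_left (K.out x hx hxA)]
  exact eq_inv_of_mul_eq_one_left (by rwa [← mul_assoc] at h)

theorem odd_mem {x : G} (hx : x * z = z * x) (ho : Odd (orderOf x)) : x ∈ A := by
  by_contra h
  exact h (eq_one_of_sq_of_odd (K.out x (mem_cent.2 hx) h) ho ▸ one_mem A)

theorem Dg_le : Dg z ≤ A := (closure_le _).2 fun _ h => K.odd_mem h.1 h.2

theorem mem_Dg {x : G} : x ∈ Dg z ↔ x * z = z * x ∧ Odd (orderOf x) := by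
  refine ⟨fun h => ⟨mem_cent.1 (K.le (K.Dg_le h)), ?_⟩, fun h => subset_Dg h.1 h.2⟩
  induction h using closure_induction with
  | mem x hx => exact hx.2
  | one => simp
  | mul a b ha hb iha ihb =>
    exact (iha.mul ihb).of_dvd_nat
      ((show Commute a b from K.comm a (K.Dg_le ha) b (K.Dg_le hb)).orderOf_mul_dvd_mul_orderOf)
  | inv a _ ih => rwa [orderOf_inv]

theorem Dg_comm {a b : G} (ha : a ∈ Dg z) (hb : b ∈ Dg z) : a * b = b * a :=
  K.comm a (K.Dg_le ha) b (K.Dg_le hb)

theorem odd_Dg : Odd (Nat.card (Dg z)) := by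
  refine Nat.not_even_iff_odd.1 fun h => ?_
  obtain ⟨x, hx⟩ := exists_prime_orderOf_dvd_card' 2 (even_iff_two_dvd.1 h)
  have h2 := (K.mem_Dg.1 x.2).2
  rw [orderOf_coe, hx] at h2
  exact absurd h2 (by decide)

theorem not_mem_A {t : G} (ht : orderOf t = 2) (hne : t ≠ z) : t ∉ A := fun h => hne (K.uniq t h ht)

/-- A commuting involution inverts. -/
theorem inv_Dg {t a : G} (ht : orderOf t = 2) (hne : t ≠ z) (hc : t * z = z * t) (ha : a ∈ Dg z) :
    t * a * t⁻¹ = a⁻¹ :=
  K.inverts (mem_cent.2 hc) (K.not_mem_A ht hne) (K.Dg_le ha)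

/-- An odd element commuting with two commuting involutions is trivial. -/
theorem eq_one_of_comm {t a : G} (ht : orderOf t = 2) (hne : t ≠ z) (hc : t * z = z * t) (ha : a ∈ Dg z)
    (hat : a * t = t * a) : a = 1 := by
  have h := K.inv_Dg ht hne hc ha
  rw [← hat, mul_inv_cancel_right] at h
  exact eq_one_of_sq_of_odd (mul_eq_one_iff_eq_inv.2 h) (K.mem_Dg.1 ha).2

/-- Elements commuting with a four-group lie in it. -/
theorem cent_four {t x : G} (ht : orderOf t = 2) (hne : t ≠ z) (hc : t * z = z * t) (hx : x * z = z * x)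
    (hxt : x * t = t * x) : x = 1 ∨ x = z ∨ x = t ∨ x = z * t := by
  have htA := K.not_mem_A ht hne
  have key : ∀ y ∈ A, y * t = t * y → y = 1 ∨ y = z := fun y hy h => by
    have h1 := K.inverts (mem_cent.2 hc) htA hy
    rw [← h, mul_inv_cancel_right] at h1
    exact (two_or_one (mul_eq_one_iff_eq_inv.2 h1)).imp_right (K.uniq y hy)
  by_cases hxA : x ∈ A
  · exact (key x hxA hxt).imp_right Or.inl
  · have h := key (x * t) (K.mul_mem_A (mem_cent.2 hx) (mem_cent.2 hc) hxA htA) (by
      rw [hxt]; rw [mul_assoc, hxt])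
    rcases h with h | h
    · exact Or.inr (Or.inr (Or.inl (by rw [eq_inv_of_mul_eq_one_left h, inv_of_two ht])))
    · exact Or.inr (Or.inr (Or.inr (by rw [← h, mul_assoc, mul_self_of_two ht, mul_one])))

theorem isCyclic_two {R : Subgroup G} (hR : IsPGroup 2 R) (hRA : R ≤ A) : IsCyclic R := by
  haveI : Fact (Nat.Prime 2) := ⟨Nat.prime_two⟩
  haveI : IsMulCommutative R := ⟨⟨fun a b => Subtype.ext (K.comm a (hRA a.2) b (hRA b.2))⟩⟩
  refine Cfsg.Lib.SolvStruct.CrossChar.isCyclic_of_omega hR fun S hS => ?_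
  have hsub : Subtype.val '' S ⊆ ({1, z} : Set G) := by
    rintro _ ⟨a, ha, rfl⟩
    rcases two_or_one (x := (a : G)) (by
      rw [← pow_two, ← SubmonoidClass.coe_pow, hS a ha, OneMemClass.coe_one]) with h | h
    · exact Or.inl h
    · exact Or.inr (K.uniq _ (hRA a.2) h)
  rw [Nat.card_coe_set_eq, ← Set.ncard_image_of_injective S Subtype.val_injective]
  exact (Set.ncard_le_ncard hsub).trans ((Set.ncard_insert_le _ _).trans (by rw [Set.ncard_singleton]))

end Hyp

/-- Conjugation. -/
theorem Hyp.conj {z : G} {A : Subgroup G} (K : Hyp z A) (g : G) :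
    Hyp (g * z * g⁻¹) (A.map (MulAut.conj g).toMonoidHom) := by
  have hC : centralizer ({g * z * g⁻¹} : Set G) = (centralizer {z}).map (MulAut.conj g).toMonoidHom := by
    ext x
    rw [mem_cent, Subgroup.mem_map_equiv, mem_cent, MulAut.conj_symm_apply]
    constructor <;> intro h
    · have := congrArg (fun y => g⁻¹ * y * g) h
      simpa [mul_assoc] using this
    · have := congrArg (fun y => g * y * g⁻¹) h
      simpa [mul_assoc] using this
  have ho : ∀ x, orderOf (g * x * g⁻¹) = orderOf x := fun x => by rw [← MulAut.conj_apply, MulEquiv.orderOf_eq]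
  refine ⟨by rw [ho, K.two], ⟨z, K.mem, rfl⟩, hC ▸ map_mono K.le, ?_, ?_, ?_, ?_, ?_⟩
  · rintro _ ⟨a, ha, rfl⟩ _ ⟨b, hb, rfl⟩
    rw [← map_mul, ← map_mul, K.comm a ha b hb]
  · rw [hC, relIndex_map_map_of_injective _ _ (MulAut.conj g).injective, K.idx]
  · rintro _ ⟨a, ha, rfl⟩ h
    simp only [MulEquiv.coe_toMonoidHom, MulAut.conj_apply] at h ⊢
    rw [K.uniq a ha ((ho a).symm.trans h)]
  · rw [hC]
    rintro _ ⟨a, ha, rfl⟩ h
    rw [← map_mul, K.out a ha fun h' => h ⟨a, h', rfl⟩, map_one]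
  · rw [hC, index_map_of_bijective (MulAut.conj g).bijective]
    exact K.oddIdx

namespace Core

variable {z : G} {A : Subgroup G} (K : Core z A)
include K

theorem one_class {u : G} (hu : orderOf u = 2) : ∃ g : G, g * z * g⁻¹ = u := by
  by_contra hne
  push Not at hne
  haveI := K.simple
  obtain ⟨m, hm⟩ := K.hyp.oddIdx
  have hidx : A.index = 2 * (centralizer ({z} : Set G)).index := by
    rw [← Subgroup.relIndex_mul_index K.hyp.le, K.hyp.idx]
  obtain ⟨M, hM, hM2, -⟩ := Cfsg.Lib.Transfer.exists_index_two_not_mem A K.hyp.oddIdx hidx hu fun g hg => by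
    have h := K.hyp.uniq _ hg (by
      have := MulEquiv.orderOf_eq (MulAut.conj g⁻¹) u
      simp only [MulAut.conj_apply, inv_inv] at this
      rw [this, hu])
    exact hne g (by rw [← h]; group)
  rcases hM.eq_bot_or_eq_top with rfl | rfl
  · rw [index_bot] at hM2
    haveI : Fact (Nat.Prime 2) := ⟨Nat.prime_two⟩
    haveI := isCyclic_of_prime_card (p := 2) hM2
    exact K.nonsolv (Group.isSolvable_of_comm fun a b => IsCyclic.commGroup.mul_comm a b)
  · rw [index_top] at hM2; omega

theorem exists_hyp {u : G} (hu : orderOf u = 2) : ∃ B : Subgroup G, Hyp u B := by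
  obtain ⟨g, rfl⟩ := K.one_class hu
  exact ⟨_, K.hyp.conj g⟩

theorem mem_Dg {v x : G} (hv : orderOf v = 2) : x ∈ Dg v ↔ x * v = v * x ∧ Odd (orderOf x) := by
  obtain ⟨B, hB⟩ := K.exists_hyp hv
  exact hB.mem_Dg

theorem Dg_comm {v a b : G} (hv : orderOf v = 2) (ha : a ∈ Dg v) (hb : b ∈ Dg v) : a * b = b * a := by
  obtain ⟨B, hB⟩ := K.exists_hyp hv
  exact hB.Dg_comm ha hb

theorem odd_Dg {v : G} (hv : orderOf v = 2) : Odd (Nat.card (Dg v)) := by
  obtain ⟨B, hB⟩ := K.exists_hyp hv
  exact hB.odd_Dg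

theorem inv_Dg {v u a : G} (F : IsFour v u (v * u)) (ha : a ∈ Dg v) : u * a * u⁻¹ = a⁻¹ := by
  obtain ⟨B, hB⟩ := K.exists_hyp F.z2
  exact hB.inv_Dg F.t2 (Ne.symm F.ne_zt) F.comm.symm ha

/-- The centraliser of a non-trivial element of `Dg v` has odd-order part a subgroup. -/
theorem odd_OC {v x : G} (hv : orderOf v = 2) (hx : x ∈ Dg v) (hx1 : x ≠ 1) :
    Odd (Nat.card (OC ({x} : Set G))) := by
  obtain ⟨B, hB⟩ := K.exists_hyp hv
  haveI : Fact (Nat.Prime 2) := ⟨Nat.prime_two⟩
  set C := centralizer ({x} : Set G) with hC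
  have hxv := hB.mem_Dg.1 hx
  have hvC : v ∈ C := mem_cent.2 hxv.1.symm
  have hvp : IsPGroup 2 (zpowers (⟨v, hvC⟩ : C)) :=
    IsPGroup.of_card (n := 1) (by rw [Nat.card_zpowers, Subgroup.orderOf_mk, hv, pow_one])
  obtain ⟨R, hR⟩ := hvp.exists_le_sylow
  set R' := (R : Subgroup C).map C.subtype with hR'
  have hvR : v ∈ R' := ⟨⟨v, hvC⟩, hR (mem_zpowers _), rfl⟩
  have hRp : IsPGroup 2 R' := R.2.map _
  haveI : Nontrivial R' := ⟨⟨⟨v, hvR⟩, 1, fun e => by
    have := congrArg Subtype.val e
    simp only [OneMemClass.coe_one] at this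
    rw [this, orderOf_one] at hv; omega⟩⟩
  haveI := hRp.center_nontrivial
  obtain ⟨w, hw⟩ := exists_prime_orderOf_dvd_card' (G := center R') 2 (by
    rcases (hRp.to_subgroup (center R')).card_eq_or_dvd with h | h
    · exact absurd h Finite.one_lt_card.ne'
    · exact h)
  have hw2 : orderOf ((w : R') : G) = 2 := by rw [orderOf_coe, orderOf_coe, hw]
  have hRC : R' ≤ C := map_subtype_le _
  have hwv : ((w : R') : G) = v := by
    by_contra hne
    have hc : ((w : R') : G) * v = v * (w : R') :=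
      congrArg Subtype.val (mem_center_iff.1 w.2 ⟨v, hvR⟩).symm
    exact hx1 (hB.eq_one_of_comm hw2 hne hc hx (mem_cent.1 (hRC (w : R').2)).symm)
  have hRA : R' ≤ B := by
    intro r hr
    by_contra hrB
    have hrv : r ∈ centralizer ({v} : Set G) := mem_cent.2 (by
      rw [← hwv]; exact congrArg Subtype.val (mem_center_iff.1 w.2 ⟨r, hr⟩))
    have h1 := hB.inverts hrv hrB (hB.Dg_le hx)
    rw [show r * x = x * r from mem_cent.1 (hRC hr), mul_inv_cancel_right] at h1
    exact hx1 (eq_one_of_sq_of_odd (mul_eq_one_iff_eq_inv.2 h1) hxv.2)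
  haveI hcR' : IsCyclic R' := hB.isCyclic_two hRp hRA
  haveI hcR : IsCyclic (R : Subgroup C) :=
    isCyclic_of_surjective (Subgroup.equivMapOfInjective (R : Subgroup C) C.subtype C.subtype_injective).symm
      (MulEquiv.surjective _)
  have h2C : 2 ∣ Nat.card C := by
    rw [← hv, ← Subgroup.orderOf_mk (H := C) v hvC]; exact orderOf_dvd_natCard _
  have hmin : (Nat.card C).minFac = 2 := (Nat.minFac_eq_two_iff _).2 h2C
  have hcompl := MonoidHom.ker_transferSylow_isComplement' R (IsCyclic.normalizer_le_centralizer hmin hcR)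
  set L := (MonoidHom.transferSylow R (IsCyclic.normalizer_le_centralizer hmin hcR)).ker with hL
  have hLodd : ¬ 2 ∣ Nat.card L := MonoidHom.not_dvd_card_ker_transferSylow R _
  refine Odd.of_dvd_nat (n := Nat.card (L.map C.subtype)) ?_ (card_dvd_of_le ((closure_le _).2 ?_))
  · rw [Subgroup.card_map_of_injective C.subtype_injective]
    exact Nat.not_even_iff_odd.1 fun h => hLodd (even_iff_two_dvd.1 h)
  · rintro y ⟨hy, hyo⟩
    refine ⟨⟨y, hy⟩, ?_, rfl⟩
    obtain ⟨k, hk⟩ := IsPGroup.iff_card.1 R.2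
    have hidx : L.index = 2 ^ k := by rw [← hk]; exact hcompl.symm.index_eq_card
    rw [SetLike.mem_coe, ← QuotientGroup.eq_one_iff, ← orderOf_eq_one_iff]
    refine Nat.eq_one_of_dvd_coprimes (Nat.Coprime.pow_left k (Nat.coprime_two_left.2 hyo)) ?_ ?_
    · rw [← hidx, index_eq_card]; exact orderOf_dvd_natCard _
    · rw [← Subgroup.orderOf_mk (H := C) y hy]; exact orderOf_map_dvd (QuotientGroup.mk' L) _

end Core

end Cfsg.Lib.GenDihedral
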