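import Cfsg.Agent.GenDihedral.Frame

/-!
The cores of the centralisers of the parts of the centre of a Fitting component.
-/

set_option autoImplicit false
set_option linter.unusedSectionVars false
set_option linter.style.haveILetI false

namespace Cfsg.Lib.GenDihedral

open Subgroup
open Cfsg.Lib.OddLocal.FittingParts (O Z)
open Cfsg.Lib.Coprime (conjMap)

universe u

variable {G : Type u} [Group G] [Finite G]

theorem qpart_fitting {q : ℕ} [hq : Fact q.Prime] {W Y : Subgroup G} (hY : IsPGroup q Y) {x : G} (hx : x ∈ Y)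
    (hF : x ∈ Cfsg.fittingOf W) : x ∈ O q W := by
  have hFW := Cfsg.Lib.OddLocal.FittingParts.fittingOf_le W
  have hOn : W ≤ normalizer (O q W : Set G) := Cfsg.Lib.OddLocal.PiCoreOf.le_normalizer' _ W
  have hFcO : Fc q W ≤ normalizer (O q W : Set G) := (inf_le_right.trans hFW).trans hOn
  obtain ⟨u, hu, f, hf, e⟩ := (Cfsg.Lib.Coprime.mem_sup_of_le_normalizer hFcO).1 (fitting_le q W hF)
  have hp := Cfsg.Lib.OddLocal.FittingParts.isPGroup (q := q) W
  have hc : Commute u f := mem_centralizer_iff.1 (Cfsg.Lib.OddLocal.FittingParts.le_centralizer_of_disjoint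
    hFcO ((Cfsg.Lib.OddLocal.PiCoreOf.le _ W).trans (le_normalizer_Fc q W)) (coprime_Fc hp W).symm hf) u hu
  obtain ⟨i, hi⟩ := hY ⟨x, hx⟩
  obtain ⟨j, hj⟩ := hp ⟨u, hu⟩
  have hi' : x ^ q ^ i = 1 := congrArg Subtype.val hi
  have hj' : u ^ q ^ j = 1 := congrArg Subtype.val hj
  have h := hc.mul_pow (q ^ (i + j))
  rw [e, pow_add, pow_mul, hi', one_pow, mul_comm (q ^ i), pow_mul u, hj', one_pow, one_mul] at h
  obtain ⟨k, -, hk⟩ := (Nat.dvd_prime_pow hq.out).1 (orderOf_dvd_of_pow_eq_one (n := q ^ (j + i))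
    (by rw [pow_add]; exact h.symm))
  have hf1 : f = 1 := Cfsg.Lib.Coprime.eq_one_of_coprime (coprime_Fc (r := q)
    (IsPGroup.of_card (G := zpowers f) (n := k) (by rw [Nat.card_zpowers, hk])) W) (mem_zpowers f) hf
  rw [← e, hf1, mul_one]
  exact hu

theorem le_normalizer_centralizer (X : Subgroup G) :
    normalizer (X : Set G) ≤ normalizer (centralizer (X : Set G) : Set G) := fun g hg => by
  refine Cfsg.Lib.Coprime.mem_normalizer_of_conj_mem (fun x hx => mem_centralizer_iff.2 fun s hs => ?_)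
    (fun x hx => mem_centralizer_iff.2 fun s hs => ?_)
  · have h := mem_centralizer_iff.1 hx (g⁻¹ * s * g) (by simpa using (mem_normalizer_iff.1 (inv_mem hg) s).1 hs)
    have h' := congrArg (MulAut.conj g) h
    simpa [MulAut.conj_apply, mul_assoc] using h'
  · have h := mem_centralizer_iff.1 hx _ ((mem_normalizer_iff.1 hg s).1 hs)
    have h' := congrArg (MulAut.conj g⁻¹) h
    simpa [MulAut.conj_apply, mul_assoc] using h'

theorem centralizer_le_normalizer_centralizer (X : Subgroup G) :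
    centralizer (X : Set G) ≤ normalizer (centralizer (X : Set G) : Set G) :=
  le_normalizer

/-- The centraliser part of the `v`-component of the centre of a Fitting component. -/
def Wv (p : ℕ) (M : Subgroup G) (v : G) : Subgroup G := OC ((Z p M ⊓ Dg v : Subgroup G) : Set G)

theorem comm_of_conj {z₀ : G} {A : Subgroup G} (K : Core z₀ A) {a b c x d : G} (F : IsFour a b c)
    (hx : x ∈ Dg a) (hd : d ∈ Dg b) (h : d * x * d⁻¹ ∈ Dg a) : x * d = d * x := by
  have hfix : ∀ y ∈ Dg a, a * y * a⁻¹ = y := fun y hy => conj_fix_iff.2 ((K.mem_Dg F.z2).1 hy).1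
  have had : a * d * a⁻¹ = d⁻¹ := K.inv_fst F.swap hd
  have h1 := hfix _ h
  rw [← conj_mul, ← conj_mul, had, hfix x hx,
    show a * d⁻¹ * a⁻¹ = (a * d * a⁻¹)⁻¹ by group, had, inv_inv] at h1
  have h3 : Commute (d * d) x := by
    show d * d * x = x * (d * d)
    calc d * d * x = d * (d * x * d⁻¹) * d := by group
      _ = d * (d⁻¹ * x * d) * d := by rw [h1]
      _ = x * (d * d) := by group
  obtain ⟨k, hk⟩ := ((K.mem_Dg F.t2).1 hd).2
  have h4 := h3.pow_left (k + 1)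
  rw [← pow_two, ← pow_mul, show 2 * (k + 1) = orderOf d + 1 by omega, pow_succ, pow_orderOf_eq_one,
    one_mul] at h4
  exact h4.eq.symm

namespace Frame

variable {z t s : G} {A T M : Subgroup G} (Fr : Frame z t s T M) (K : Core z A) {p q : ℕ} [hp : Fact p.Prime]
  [hq : Fact q.Prime]
include Fr K

omit hp hq in
theorem comp_ne {X : Subgroup G} (hX : GInv z T X) (hne : X ≠ ⊥) {a b c : G} (F : IsFour a b c)
    (hV : Vg a b = Vg z t) : ∃ y ∈ X, y ∈ Dg a ∧ y ≠ 1 := by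
  obtain ⟨h1, h2, h3⟩ := Fr.exists_comp K hX hne
  rcases Fr.four.mem_iff.1 (hV ▸ (Core.Vg_mem F).1) with rfl | rfl | rfl | rfl
  · exact absurd F.z2 (by simp)
  exacts [h1, h2, h3]

omit hp in
theorem Pm_eq {a b c : G} (F : IsFour a b c) (hV : Vg a b = Vg z t) : Pm q a b c = Pm q z t s := by
  have key : ∀ {z t s a b c : G}, IsFour z t s → IsFour a b c → Vg a b = Vg z t →
      Pm q a b c ≤ Pm q z t s := by
    intro z t s a b c F' F hV
    have h : ∀ v ∈ Vg a b, orderOf v = 2 → Dr q v ≤ Pm q z t s := by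
      intro v hv h2
      rcases F'.mem_iff.1 (hV ▸ hv) with rfl | rfl | rfl | rfl
      · simp at h2
      · exact le_sup_of_le_left le_sup_left
      · exact le_sup_of_le_left le_sup_right
      · exact le_sup_right
    obtain ⟨ha, hb, hc⟩ := Core.Vg_mem F
    exact sup_le (sup_le (h a ha F.z2) (h b hb F.t2)) (h c hc F.s2)
  exact le_antisymm (key Fr.four F hV) (key F Fr.four hV.symm)

omit hp hq in
theorem V_norm_comp {a b c : G} (F : IsFour a b c) (hV : Vg a b = Vg z t) :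
    Vg z t ≤ normalizer ((Z p M ⊓ Dg a : Subgroup G) : Set G) := by
  refine Cfsg.Lib.Coprime.le_normalizer_inf (Fr.Vg_norm (Fr.GInv_Z K p).2) ?_
  rw [← hV]
  refine F.le_normalizer_iff.2 ⟨mem_normalizer_closure fun x hx => ?_, mem_normalizer_closure fun x hx => ?_⟩
  · rw [conj_fix_iff.2 hx.1]; exact subset_closure hx
  · rw [K.inv_fst F (subset_closure hx)]; exact inv_mem (subset_closure hx)

theorem Wv_facts (hp0 : O p M ≠ ⊥) {a b c : G} (F : IsFour a b c) (hV : Vg a b = Vg z t) :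
    Odd (Nat.card (Wv p M a)) ∧ Vg z t ≤ normalizer (Wv p M a : Set G) ∧ Z p M ≤ Wv p M a ∧
      Cfsg.fittingOf M ≤ Wv p M a ∧ Dg a ≤ Wv p M a := by
  obtain ⟨y, hy, hya, hy1⟩ := Fr.comp_ne K (Fr.GInv_Z K p) (Z_ne_bot Fr hp0) F hV
  refine ⟨odd_of_le (K.odd_OC F.z2 hya hy1) (OC_anti (Set.singleton_subset_iff.2 ⟨hy, hya⟩)),
    (Fr.V_norm_comp K F hV).trans (normalizer_le_OC _), ?_, ?_, ?_⟩
  · refine le_OC (fun x hx => mem_centralizer_iff.2 fun w hw => ?_) (Fr.GInv_Z K p).1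
    exact Z_comm Fr p w hw.1 x hx
  · refine le_OC ?_ (odd_of_le Fr.odd (fitting_le_M Fr))
    exact (le_centralizer_iff.1 (Z_le_centralizer_fitting Fr p)).trans
      (centralizer_le fun x hx => hx.1)
  · refine le_OC (fun x hx => mem_centralizer_iff.2 fun w hw => ?_) (K.odd_Dg F.z2)
    exact K.Dg_comm F.z2 hw.2 hx

/-- A `q`-group normalised by the Fitting subgroup meets the centraliser of the centre inside the core. -/
theorem fixed_le (hp0 : O p M ≠ ⊥) (h2 : q ≠ 2) {Y : Subgroup G} (hY : IsPGroup q Y)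
    (hYn : Cfsg.fittingOf M ≤ normalizer (Y : Set G)) : Y ⊓ centralizer (Z p M : Set G) ≤ O q M := by
  have hYq : IsPGroup q (Y ⊓ centralizer (Z p M : Set G) : Subgroup G) := hY.to_le inf_le_left
  refine le_O_of_centralizes (Fr.comm_fitting K) hYq ?_ (inf_le_right.trans
    (Cfsg.Lib.Coprime.le_normalizer_inf hYn
      (((fitting_le_M Fr).trans (M_le_normalizer_Z Fr p)).trans (le_normalizer_centralizer _))))
  exact (le_OC inf_le_right (odd_of_isPGroup h2 hYq)).trans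
    (Fr.OC_le K (Fr.GInv_Z K p) (Z_ne_bot Fr hp0) (M_le_normalizer_Z Fr p))

theorem small (hp0 : O p M ≠ ⊥) {a b c : G} (F : IsFour a b c) (hV : Vg a b = Vg z t)
    (hne : O q (Wv p M a) ≠ ⊥) : q ≠ 2 ∧ Dr q z ≠ ⊥ ∧ IsPGroup q (Pm q z t s) := by
  obtain ⟨hWo, hWV, hZW, -, hDW⟩ := Fr.Wv_facts K hp0 F hV
  set W := Wv p M a with hW
  set X := O q W with hX
  have hXq : IsPGroup q X := Cfsg.Lib.OddLocal.FittingParts.isPGroup W
  have hXW : X ≤ W := Cfsg.Lib.OddLocal.PiCoreOf.le _ W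
  have h2 : q ≠ 2 := by
    rintro rfl
    obtain ⟨n, hn⟩ := IsPGroup.iff_card.1 hXq
    have ho := odd_of_le hWo hXW
    rw [hn] at ho
    rcases n with _ | n
    · exact hne (eq_bot_of_card_eq _ (by rw [hn, pow_zero]))
    · exact absurd ho (by simp [Nat.odd_pow_iff])
  have hXV : Vg a b ≤ normalizer (X : Set G) :=
    hV.trans_le (hWV.trans (Cfsg.Lib.OddLocal.PiCoreOf.normalizer_le _ W))
  have hDr : Dr q a ≤ normalizer (X : Set G) :=
    ((Dr_le_Dg q a).trans hDW).trans (Cfsg.Lib.OddLocal.PiCoreOf.le_normalizer' _ W)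
  have hB : IsPGroup q (Pm q a b c) := by
    set R := X ⊔ Dr q a with hR
    by_cases h : R ≤ Dr q a
    · obtain ⟨x, hx, hx1⟩ := X.bot_or_exists_ne_one.resolve_left hne
      obtain ⟨d, hd, hdb, hd1⟩ := Fr.comp_ne K (Fr.GInv_Z K p) (Z_ne_bot Fr hp0) F.rot (F.rot_Vg.trans hV)
      have hxD : x ∈ Dr q a := h (mem_sup_left hx)
      have hdx : d * x * d⁻¹ ∈ Dg a := Dr_le_Dg q a (h (mem_sup_left
        ((mem_normalizer_iff.1 (Cfsg.Lib.OddLocal.PiCoreOf.le_normalizer' _ W (hZW hd)) x).1 hx)))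
      exact K.big_of_comm F h2 hxD hx1 hdb hd1 (comm_of_conj K F (Dr_le_Dg q a hxD) hdb hdx)
    · refine K.big_of_two F h2 ⟨hXq.to_sup_of_normal_left' (K.isPGroup_Dr F.z2) hDr, ?_⟩ le_sup_right h
      exact Cfsg.Lib.Coprime.le_normalizer_sup hXV (K.le_normalizer_Dr F)
  refine ⟨h2, fun e => hne ?_, (Fr.Pm_eq K (q := q) F hV) ▸ hB⟩
  have hall : ∀ v, orderOf v = 2 → Dr q v = ⊥ := fun v hv => eq_bot_of_card_eq _ (by
    rw [K.card_Dr hv, e, card_bot])
  have h := K.le_Pm F h2 hXq hXV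
  rw [Pm, hall a F.z2, hall b F.t2, hall c F.s2, sup_bot_eq, sup_bot_eq] at h
  exact le_bot_iff.1 h

/-- A `q`-subgroup invariant under the centre. -/
theorem le_sup_core (hp0 : O p M ≠ ⊥) (hpq : p ≠ q) (h2 : q ≠ 2) {a b c : G} (F : IsFour a b c)
    (hV : Vg a b = Vg z t) {Y : Subgroup G} (hYW : Y ≤ Wv p M a) (hY : IsPGroup q Y)
    (hYZ : Z p M ≤ normalizer (Y : Set G)) (hfix : Y ⊓ centralizer (Z p M : Set G) ≤ O q M) :
    Y ≤ O q M ⊔ O q (Wv p M a) := by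
  obtain ⟨hWo, hWV, hZW, -, -⟩ := Fr.Wv_facts K hp0 F hV
  have hZo := (Fr.GInv_Z K p).1
  have hcop : (Nat.card (Z p M)).Coprime (Nat.card Y) :=
    Cfsg.Lib.OddLocal.FittingParts.coprime hpq
      ((Cfsg.Lib.OddLocal.FittingParts.isPGroup M).to_le inf_le_left) hY
  conv_lhs => rw [← Cfsg.Lib.Coprime.commutator_sup_centralizer hYZ hcop (Or.inl (solvable_of_odd hZo))]
  refine sup_le (le_sup_of_le_right fun x hx => ?_) (le_sup_of_le_left hfix)
  refine qpart_fitting hY (Cfsg.Lib.Coprime.commutator_le_of_le_normalizer hYZ hx) ?_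
  refine K.commutator_le_fitting F hWo (hV.trans_le hWV) ?_
  exact commutator_mono hYW hZW hx

/-- The join of the cores. -/
def Lgrp (_ : Frame z t s T M) (_ : Core z A) (p q : ℕ) : Subgroup G :=
  O q M ⊔ O q (Wv p M z) ⊔ O q (Wv p M t) ⊔ O q (Wv p M s)

omit hp hq in
theorem core_le_Lgrp {a : G} (ha : orderOf a = 2) (hV : a ∈ Vg z t) :
    O q (Wv p M a) ≤ Lgrp Fr K p q := by
  rcases Fr.four.mem_iff.1 hV with rfl | rfl | rfl | rfl
  · simp at ha
  · exact le_sup_of_le_left (le_sup_of_le_left le_sup_right)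
  · exact le_sup_of_le_left le_sup_right
  · exact le_sup_right

theorem conj_step (hp0 : O p M ≠ ⊥) (hpq : p ≠ q) (h2 : q ≠ 2) {a b c : G} (F : IsFour a b c)
    (hV : Vg a b = Vg z t) {m : G} (hm : m ∈ M) (hma : m ∈ Dg a) :
    conjMap m (O q M) ≤ Lgrp Fr K p q ∧ conjMap m (O q (Wv p M a)) ≤ Lgrp Fr K p q ∧
      conjMap m (O q (Wv p M b)) ≤ Lgrp Fr K p q := by
  obtain ⟨haV, hbV, hcV⟩ := Core.Vg_mem F
  rw [hV] at haV hbV
  obtain ⟨-, -, -, hFa, hDa⟩ := Fr.Wv_facts K hp0 F hV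
  obtain ⟨hWbo, hWbV, hZb, hFb, -⟩ := Fr.Wv_facts K hp0 F.swap (F.swap_Vg.trans hV)
  have hmO : conjMap m (O q M) = O q M :=
    Cfsg.Lib.Coprime.conjMap_eq_self (Cfsg.Lib.OddLocal.PiCoreOf.le_normalizer' _ M hm)
  have hmXa : conjMap m (O q (Wv p M a)) = O q (Wv p M a) :=
    Cfsg.Lib.Coprime.conjMap_eq_self (Cfsg.Lib.OddLocal.PiCoreOf.le_normalizer' _ _ (hDa hma))
  have hOL : O q M ≤ Lgrp Fr K p q := le_sup_of_le_left (le_sup_of_le_left le_sup_left)
  have hXaL := Fr.core_le_Lgrp K (p := p) (q := q) F.z2 haV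
  have hXbL := Fr.core_le_Lgrp K (p := p) (q := q) F.t2 hbV
  refine ⟨hmO.trans_le hOL, hmXa.trans_le hXaL, ?_⟩
  set Zp := Z p M with hZp
  set X := O q (Wv p M b) with hX
  have hXq : IsPGroup q X := Cfsg.Lib.OddLocal.FittingParts.isPGroup _
  have hXn : Wv p M b ≤ normalizer (X : Set G) := Cfsg.Lib.OddLocal.PiCoreOf.le_normalizer' _ _
  have hXW : X ≤ Wv p M b := Cfsg.Lib.OddLocal.PiCoreOf.le _ _
  have hZo := (Fr.GInv_Z K p).1
  have hcop : (Nat.card Zp).Coprime (Nat.card X) :=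
    Cfsg.Lib.OddLocal.FittingParts.coprime hpq
      ((Cfsg.Lib.OddLocal.FittingParts.isPGroup M).to_le inf_le_left) hXq
  have hfixX := Fr.fixed_le K (p := p) hp0 h2 hXq (hFb.trans hXn)
  have hgen := K.gen_fixed F h2 hXq (hV.trans_le (hWbV.trans (Cfsg.Lib.OddLocal.PiCoreOf.normalizer_le _ _)))
    (Z_comm Fr p) hZo hcop (hZb.trans hXn)
  -- the first part
  have hC1 : X ⊓ centralizer ((Zp ⊓ Dg a : Subgroup G) : Set G) ≤ O q M ⊔ O q (Wv p M a) := by
    refine Fr.le_sup_core K hp0 hpq h2 F hV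
      (le_OC inf_le_right (odd_of_isPGroup h2 (hXq.to_le inf_le_left))) (hXq.to_le inf_le_left) ?_
      ((inf_le_inf_right _ inf_le_left).trans hfixX)
    refine Cfsg.Lib.Coprime.le_normalizer_inf (hZb.trans hXn) (le_trans ?_ le_normalizer)
    exact fun x hx => mem_centralizer_iff.2 fun w hw => Z_comm Fr p w hw.1 x hx
  -- the second part
  let Zi : Subgroup G :=
    { carrier := {x | x ∈ Zp ∧ a * x * a⁻¹ = x⁻¹}
      one_mem' := ⟨one_mem _, by simp⟩
      mul_mem' := fun {x y} hx hy => ⟨mul_mem hx.1 hy.1, by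
        rw [← conj_mul, hx.2, hy.2, Z_comm Fr p _ (inv_mem hx.1) _ (inv_mem hy.1), mul_inv_rev]⟩
      inv_mem' := fun {x} hx => ⟨inv_mem hx.1, by rw [← conj_inv, hx.2]⟩ }
  have hZiZ : Zi ≤ Zp := fun x hx => hx.1
  have hbI : Zp ⊓ Dg b ≤ Zi := fun x hx => ⟨hx.1, K.inv_fst F.swap hx.2⟩
  have hcI : Zp ⊓ Dg c ≤ Zi := fun x hx => ⟨hx.1, K.inv_fst F.rot.rot hx.2⟩
  have hZiV : Vg a b ≤ normalizer (Zi : Set G) := by
    have hZV : Vg a b ≤ normalizer (Zp : Set G) := hV.trans_le (Fr.Vg_norm (Fr.GInv_Z K p).2)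
    intro v hv
    have hva : v * a = a * v := by
      rcases F.mem_iff.1 hv with rfl | rfl | rfl | rfl
      · simp
      · rfl
      · exact F.comm.symm
      · exact F.rot.rot.comm
    refine Cfsg.Lib.Coprime.mem_normalizer_of_conj_mem (fun x hx => ⟨(mem_normalizer_iff.1 (hZV hv) x).1 hx.1, ?_⟩)
      (fun x hx => ⟨by have := (mem_normalizer_iff.1 (inv_mem (hZV hv)) x).1 hx.1; rwa [inv_inv] at this, ?_⟩)
    · rw [conj_conj, ← hva, ← conj_conj, hx.2]; group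
    · have hva' : a * v⁻¹ = v⁻¹ * a := ((show Commute v a from hva).symm.inv_right).eq
      rw [show v⁻¹ * x * v = v⁻¹ * x * v⁻¹⁻¹ by group, conj_conj, hva', ← conj_conj, hx.2]; group
  have hZisup : Zi ≤ (Zp ⊓ Dg b) ⊔ (Zp ⊓ Dg c) := by
    refine K.le_of_comps F (odd_of_le hZo hZiZ) hZiV ?_ (fun x hx => mem_sup_left ⟨hx.1.1, hx.2⟩)
      fun x hx => mem_sup_right ⟨hx.1.1, hx.2⟩
    intro x hx
    have h1 := conj_fix_iff.2 ((K.mem_Dg F.z2).1 hx.2).1
    rw [hx.1.2] at h1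
    rw [eq_one_of_sq_of_odd (mul_eq_one_iff_eq_inv.2 h1.symm) ((K.mem_Dg F.z2).1 hx.2).2]
    exact one_mem _
  set U := OC (Zi : Set G) with hU
  have hUWb : U ≤ Wv p M b := OC_anti hbI
  have hUc : U ≤ centralizer ((Zp ⊓ Dg c : Subgroup G) : Set G) := (GenDihedral.OC_le _).trans (centralizer_le hcI)
  set C2 := X ⊓ centralizer ((Zp ⊓ Dg c : Subgroup G) : Set G) with hC2
  have hC2q : IsPGroup q C2 := hXq.to_le inf_le_left
  have hC2U : C2 ≤ U := by
    refine le_OC (le_centralizer_iff.1 (hZisup.trans (sup_le ?_ ?_))) (odd_of_isPGroup h2 hC2q)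
    · exact le_centralizer_iff.1 ((inf_le_left.trans hXW).trans (GenDihedral.OC_le _))
    · exact le_centralizer_iff.1 inf_le_right
  have hC2O : C2 ≤ O q U := by
    refine Cfsg.Lib.OddLocal.FittingParts.le_of_isPGroup hC2U ?_ hC2q
    exact Cfsg.Lib.Coprime.le_normalizer_inf (hUWb.trans hXn) (hUc.trans le_normalizer)
  have hZU : Zp ≤ U := le_OC (fun x hx => mem_centralizer_iff.2 fun w hw => Z_comm Fr p w hw.1 x hx) hZo
  have hFU : Cfsg.fittingOf M ≤ U := le_OC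
    ((le_centralizer_iff.1 (Z_le_centralizer_fitting Fr p)).trans (centralizer_le hZiZ))
    (odd_of_le Fr.odd (fitting_le_M Fr))
  have hUq : IsPGroup q (O q U) := Cfsg.Lib.OddLocal.FittingParts.isPGroup U
  have hUn : U ≤ normalizer (O q U : Set G) := Cfsg.Lib.OddLocal.PiCoreOf.le_normalizer' _ U
  have hUL : O q U ≤ Lgrp Fr K p q :=
    (Fr.le_sup_core K hp0 hpq h2 F.swap (F.swap_Vg.trans hV)
      ((Cfsg.Lib.OddLocal.PiCoreOf.le _ U).trans hUWb) hUq (hZU.trans hUn)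
      (Fr.fixed_le K hp0 h2 hUq (hFU.trans hUn))).trans (sup_le hOL hXbL)
  have hmZi : m ∈ normalizer (Zi : Set G) := by
    have hmZ := M_le_normalizer_Z Fr p hm
    have hma' : m * a = a * m := ((K.mem_Dg F.z2).1 hma).1
    refine Cfsg.Lib.Coprime.mem_normalizer_of_conj_mem (fun x hx => ⟨(mem_normalizer_iff.1 hmZ x).1 hx.1, ?_⟩)
      (fun x hx => ⟨by have := (mem_normalizer_iff.1 (inv_mem hmZ) x).1 hx.1; rwa [inv_inv] at this, ?_⟩)
    · rw [conj_conj, ← hma', ← conj_conj, hx.2]; group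
    · have hva' : a * m⁻¹ = m⁻¹ * a := ((show Commute m a from hma').symm.inv_right).eq
      rw [show m⁻¹ * x * m = m⁻¹ * x * m⁻¹⁻¹ by group, conj_conj, hva', ← conj_conj, hx.2]; group
  have hmU : conjMap m (O q U) = O q U := Cfsg.Lib.Coprime.conjMap_eq_self
    (Cfsg.Lib.OddLocal.PiCoreOf.normalizer_le _ U (normalizer_le_OC Zi hmZi))
  refine (Cfsg.Lib.Coprime.conjMap_mono (hgen.trans (sup_le_sup hC1 hC2O))).trans ?_
  rw [Cfsg.Lib.Coprime.conjMap_sup, Cfsg.Lib.Coprime.conjMap_sup, hmO, hmXa, hmU]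
  exact sup_le (sup_le hOL hXaL) hUL

theorem M_le_normalizer_Lgrp (hp0 : O p M ≠ ⊥) (hpq : p ≠ q) (h2 : q ≠ 2) :
    M ≤ normalizer (Lgrp Fr K p q : Set G) := by
  have F := Fr.four
  have hne : ∀ (a b c : G), IsFour a b c → Vg a b = Vg z t →
      Lgrp Fr K p q = O q M ⊔ O q (Wv p M a) ⊔ O q (Wv p M b) ⊔ O q (Wv p M c) →
      ∀ m ∈ M ⊓ Dg a, m ∈ normalizer (Lgrp Fr K p q : Set G) := by
    intro a b c Fa hV e m hm
    obtain ⟨h0, ha, hb⟩ := Fr.conj_step K (q := q) hp0 hpq h2 Fa hV hm.1 hm.2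
    obtain ⟨-, -, hc⟩ := Fr.conj_step K (q := q) hp0 hpq h2 Fa.rot.rot.swap (by
      rw [Fa.rot.rot.swap_Vg, Fa.rot.rot_Vg, Fa.rot_Vg, hV]) hm.1 hm.2
    refine Cfsg.Lib.Coprime.conjMap_eq_self_iff.1 (Cfsg.Lib.Coprime.eq_of_le_of_card_eq ?_
      (Cfsg.Lib.Coprime.card_conjMap _ _))
    conv_lhs => rw [e]
    simp only [Cfsg.Lib.Coprime.conjMap_sup]
    exact sup_le (sup_le (sup_le h0 ha) hb) hc
  refine K.le_of_comps F Fr.odd Fr.normM (hne z t s F rfl rfl) (hne t s z F.rot F.rot_Vg ?_)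
    (hne s z t F.rot.rot (F.rot.rot_Vg.trans F.rot_Vg) ?_)
  · show O q M ⊔ _ ⊔ _ ⊔ _ = _
    simp only [sup_assoc, sup_comm (O q (Wv p M z)), sup_left_comm (O q (Wv p M z))]
  · show O q M ⊔ _ ⊔ _ ⊔ _ = _
    simp only [sup_assoc, sup_comm (O q (Wv p M s)), sup_left_comm (O q (Wv p M s))]

/-- For `q ≠ p` the cores lie in the core of `M`. -/
theorem core_le (hp0 : O p M ≠ ⊥) (hpq : p ≠ q) {a b c : G} (F : IsFour a b c) (hV : Vg a b = Vg z t) :
    O q (Wv p M a) ≤ O q M := by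
  by_cases hne : O q (Wv p M a) = ⊥
  · rw [hne]; exact bot_le
  obtain ⟨h2, hD, hB⟩ := Fr.small K hp0 F hV hne
  set P := Pm q z t s with hP
  have hΓP := Fr.Gam_le_normalizer_Pm K h2 hD hB
  let L : Subgroup G :=
    { carrier := {x | x ∈ P ∧ ∀ m ∈ M, m * x * m⁻¹ ∈ P}
      one_mem' := ⟨one_mem P, fun m _ => by simp⟩
      mul_mem' := fun {x y} hx hy => ⟨mul_mem hx.1 hy.1, fun m hm => by
        rw [← conj_mul]; exact mul_mem (hx.2 m hm) (hy.2 m hm)⟩
      inv_mem' := fun {x} hx => ⟨inv_mem hx.1, fun m hm => by rw [← conj_inv]; exact inv_mem (hx.2 m hm)⟩ }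
  have hLP : L ≤ P := fun x hx => hx.1
  have hML : M ≤ normalizer (L : Set G) := by
    intro g hg
    refine Cfsg.Lib.Coprime.mem_normalizer_of_conj_mem
      (fun x hx => ⟨hx.2 g hg, fun m hm => ?_⟩) (fun x hx => ⟨?_, fun m hm => ?_⟩)
    · rw [conj_conj]; exact hx.2 _ (mul_mem hm hg)
    · simpa using hx.2 g⁻¹ (inv_mem hg)
    · rw [show g⁻¹ * x * g = g⁻¹ * x * g⁻¹⁻¹ by group, conj_conj]; exact hx.2 _ (mul_mem hm (inv_mem hg))
  have hΓL : Gam z T ≤ normalizer (L : Set G) := by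
    intro g hg
    have h1 : ∀ g ∈ Gam z T, ∀ x ∈ L, g * x * g⁻¹ ∈ L := fun g hg x hx =>
      ⟨(mem_normalizer_iff.1 (hΓP hg) x).1 hx.1, fun m hm => by
        have hm' : g⁻¹ * m * g ∈ M := by simpa using (mem_normalizer_iff.1 (inv_mem (Fr.norm hg)) m).1 hm
        have h := (mem_normalizer_iff.1 (hΓP hg) _).1 (hx.2 _ hm')
        rw [show m * (g * x * g⁻¹) * m⁻¹ = g * (g⁻¹ * m * g * x * (g⁻¹ * m * g)⁻¹) * g⁻¹ by group]
        exact h⟩
    exact Cfsg.Lib.Coprime.mem_normalizer_of_conj_mem (h1 g hg) fun x hx => by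
      simpa using h1 g⁻¹ (inv_mem hg) x hx
  have hLM : L ≤ M := Fr.absorb ⟨odd_of_le (odd_of_isPGroup h2 hB) hLP, hΓL⟩ hML
  have hLO : L ≤ O q M := Cfsg.Lib.OddLocal.FittingParts.le_of_isPGroup hLM hML (hB.to_le hLP)
  have hG : Lgrp Fr K p q ≤ P := by
    have hv : ∀ v v' w, IsFour v v' w → Vg v v' = Vg z t → O q (Wv p M v) ≤ P := fun v v' w F' hV' =>
      K.le_Pm Fr.four h2 (Cfsg.Lib.OddLocal.FittingParts.isPGroup _)
        ((Fr.Wv_facts K hp0 F' hV').2.1.trans (Cfsg.Lib.OddLocal.PiCoreOf.normalizer_le _ _))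
    refine sup_le (sup_le (sup_le (K.le_Pm Fr.four h2 (Cfsg.Lib.OddLocal.FittingParts.isPGroup _)
      (Fr.Vg_norm (Fr.GInv_O K q).2)) (hv z t s Fr.four rfl)) (hv t s z Fr.four.rot Fr.four.rot_Vg))
      (hv s z t Fr.four.rot.rot (Fr.four.rot.rot_Vg.trans Fr.four.rot_Vg))
  refine le_trans (fun x hx => ?_) hLO
  have hxL := Fr.core_le_Lgrp K (p := p) (q := q) F.z2 (hV ▸ (Core.Vg_mem F).1) hx
  exact ⟨hG hxL, fun m hm => hG ((mem_normalizer_iff.1 (Fr.M_le_normalizer_Lgrp K hp0 hpq h2 hm) x).1 hxL)⟩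

end Frame

end Cfsg.Lib.GenDihedral
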