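import Cfsg.Agent.GenDihedral.Gen

/-!
In a subgroup of odd order an `r`-element centralising the `r'`-part of the Fitting subgroup lies in the `r`-core.
-/

set_option autoImplicit false
set_option linter.unusedSectionVars false
set_option linter.style.haveILetI false

namespace Cfsg.Lib.GenDihedral

open Subgroup
open Cfsg.Lib.OddLocal.FittingParts (O Z)
open scoped commutatorElement

universe u

variable {G : Type u} [Group G] [Finite G]

/-- The `r'`-part of the Fitting subgroup. -/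
def Fc (r : ℕ) (M : Subgroup G) : Subgroup G := Cfsg.piCoreOf {q | q ≠ r} M ⊓ Cfsg.fittingOf M

theorem le_normalizer_Fc (r : ℕ) (M : Subgroup G) : M ≤ normalizer (Fc r M : Set G) :=
  Cfsg.Lib.Coprime.le_normalizer_inf (Cfsg.Lib.OddLocal.PiCoreOf.le_normalizer' _ M)
    (Cfsg.Lib.OddLocal.FittingParts.le_normalizer_fittingOf M)

theorem O_le_Fc {r q : ℕ} [hq : Fact q.Prime] (h : q ≠ r) (M : Subgroup G) : O q M ≤ Fc r M := by
  refine le_inf (Cfsg.Lib.OddLocal.PiCoreOf.le_piCoreOf (Cfsg.Lib.OddLocal.PiCoreOf.le _ M)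
    (Cfsg.Lib.OddLocal.PiCoreOf.le_normalizer' _ M) ?_) (Cfsg.Lib.OddLocal.FittingParts.le_fittingOf M)
  intro p hp hpd
  have h' := Cfsg.Lib.OddLocal.PiCoreOf.isPi {q} M p hp hpd
  rw [Set.mem_singleton_iff.1 h']
  exact h

theorem fitting_le (r : ℕ) [Fact r.Prime] (M : Subgroup G) : Cfsg.fittingOf M ≤ O r M ⊔ Fc r M := by
  rw [Cfsg.Lib.OddLocal.FittingParts.fittingOf_eq]
  refine iSup_le fun q => ?_
  haveI := Fact.mk q.2
  by_cases h : q.1 = r
  · rw [h]; exact le_sup_left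
  · exact le_sup_of_le_right (O_le_Fc h M)

theorem coprime_Fc {r : ℕ} [hr : Fact r.Prime] {Y : Subgroup G} (hY : IsPGroup r Y) (M : Subgroup G) :
    (Nat.card Y).Coprime (Nat.card (Fc r M)) := by
  obtain ⟨k, hk⟩ := IsPGroup.iff_card.1 hY
  rw [hk]
  refine Nat.Coprime.pow_left k ((Nat.Prime.coprime_iff_not_dvd hr.out).2 fun h => ?_)
  exact Cfsg.Lib.OddLocal.PiCoreOf.isPi {q | q ≠ r} M r hr.out
    (h.trans (card_dvd_of_le inf_le_left)) rfl

theorem le_O_of_centralizes {r : ℕ} [hr : Fact r.Prime] {M : Subgroup G} (hM : ⁅M, M⁆ ≤ Cfsg.fittingOf M)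
    {Y : Subgroup G} (hY : IsPGroup r Y) (hYM : Y ≤ M) (hYn : Fc r M ≤ normalizer (Y : Set G)) :
    Y ≤ O r M := by
  intro x hx
  have hxc : x ∈ centralizer (Fc r M : Set G) :=
    Cfsg.Lib.OddLocal.FittingParts.le_centralizer_of_disjoint (hYM.trans (le_normalizer_Fc r M)) hYn
      (coprime_Fc hY M) hx
  set O' := O r M with hO
  have hOn : M ≤ normalizer (O' : Set G) := Cfsg.Lib.OddLocal.PiCoreOf.le_normalizer' _ M
  have hO'M : O' ≤ M := Cfsg.Lib.OddLocal.PiCoreOf.le _ M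
  have hzx : zpowers x ≤ normalizer (O' : Set G) := zpowers_le.2 (hOn (hYM hx))
  set X := O' ⊔ zpowers x with hX
  have hXr : IsPGroup r X := (Cfsg.Lib.OddLocal.FittingParts.isPGroup M).to_sup_of_normal_left'
    (hY.to_le (zpowers_le.2 hx)) hzx
  have hOF : Fc r M ≤ centralizer (O' : Set G) :=
    Cfsg.Lib.OddLocal.FittingParts.le_centralizer_of_disjoint
      ((inf_le_right.trans (Cfsg.Lib.OddLocal.FittingParts.fittingOf_le M)).trans hOn)
      (hO'M.trans (le_normalizer_Fc r M))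
      (coprime_Fc (Cfsg.Lib.OddLocal.FittingParts.isPGroup M) M).symm
  have key : ∀ m ∈ M, m * x * m⁻¹ ∈ X := by
    intro m hm
    have h1 : ⁅m, x⁆ ∈ O' ⊔ Fc r M := fitting_le r M (hM (commutator_mem_commutator hm (hYM hx)))
    obtain ⟨u, hu, f, hf, e⟩ := (Cfsg.Lib.Coprime.mem_sup_of_le_normalizer
      ((inf_le_right.trans (Cfsg.Lib.OddLocal.FittingParts.fittingOf_le M)).trans hOn)).1 h1
    have hfx : Commute f x := mem_centralizer_iff.1 hxc f hf
    have hfu : Commute f u := (mem_centralizer_iff.1 (hOF hf) u hu).symm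
    have hux : u * x ∈ X := mul_mem (mem_sup_left hu) (mem_sup_right (mem_zpowers x))
    have e' : m * x * m⁻¹ = u * x * f := by
      rw [show m * x * m⁻¹ = ⁅m, x⁆ * x by simp [commutatorElement_def], ← e, mul_assoc, hfx.eq, ← mul_assoc]
    obtain ⟨k, hk⟩ := hY ⟨x, hx⟩
    have hk' : x ^ r ^ k = 1 := congrArg Subtype.val hk
    have h2 : (u * x) ^ r ^ k * f ^ r ^ k = 1 := by
      rw [← (show Commute (u * x) f from (hfu.mul_right hfx).symm).mul_pow, ← e', conj_pow, hk']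
      group
    have h3 : f ^ r ^ k = 1 := Cfsg.Lib.Coprime.eq_one_of_coprime (coprime_Fc hXr M)
      (by rw [eq_inv_of_mul_eq_one_right h2]; exact inv_mem (pow_mem hux _)) (pow_mem hf _)
    have h4 : f = 1 := by
      obtain ⟨j, -, hj⟩ := (Nat.dvd_prime_pow hr.out).1 (orderOf_dvd_of_pow_eq_one h3)
      refine Cfsg.Lib.Coprime.eq_one_of_coprime (coprime_Fc (r := r)
        (IsPGroup.of_card (G := zpowers f) (n := j) (by rw [Nat.card_zpowers, hj])) M) (mem_zpowers f) hf
    rw [e', h4, mul_one]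
    exact hux
  have hXM : X ≤ M := sup_le hO'M (zpowers_le.2 (hYM hx))
  have hMX : M ≤ normalizer (X : Set G) := by
    intro m hm
    refine Cfsg.Lib.Coprime.conjMap_eq_self_iff.1 (Cfsg.Lib.Coprime.eq_of_le_of_card_eq ?_
      (Cfsg.Lib.Coprime.card_conjMap _ _))
    rw [hX, Cfsg.Lib.Coprime.conjMap_sup, Cfsg.Lib.Coprime.conjMap_eq_self (hOn hm), zpowers_eq_closure,
      Cfsg.Lib.Coprime.conjMap, MonoidHom.map_closure, Set.image_singleton, ← zpowers_eq_closure x]
    exact sup_le le_sup_left ((closure_le _).2 (Set.singleton_subset_iff.2 (key m hm)))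
  exact Cfsg.Lib.OddLocal.FittingParts.le_of_isPGroup hXM hMX hXr (mem_sup_right (mem_zpowers x))

end Cfsg.Lib.GenDihedral
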