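import Cfsg.Agent.GenDihedral.Cores

/-!
The centraliser of `z` normalises the Fitting subgroup of the maximal invariant subgroup of odd order.
-/

set_option autoImplicit false
set_option linter.unusedSectionVars false
set_option linter.style.haveILetI false

namespace Cfsg.Lib.GenDihedral

open Subgroup
open Cfsg.Lib.OddLocal.FittingParts (O Z)
open scoped commutatorElement

universe u

variable {G : Type u} [Group G] [Finite G]

theorem le_normalizer_of_commutator_le {W X : Subgroup G} (h : ⁅W, W⁆ ≤ X) (hX : X ≤ W) :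
    W ≤ normalizer (X : Set G) := by
  intro w hw
  refine Cfsg.Lib.Coprime.mem_normalizer_of_conj_mem (fun x hx => ?_) (fun x hx => ?_)
  · rw [show w * x * w⁻¹ = ⁅w, x⁆ * x by simp [commutatorElement_def]]
    exact mul_mem (h (commutator_mem_commutator hw (hX hx))) hx
  · rw [show w⁻¹ * x * w = ⁅w⁻¹, x⁆ * x by simp [commutatorElement_def]]
    exact mul_mem (h (commutator_mem_commutator (inv_mem hw) (hX hx))) hx

theorem fitting_le_of_cores {W X : Subgroup G} (h : ∀ q : ℕ, q.Prime → O q W ≤ X) : Cfsg.fittingOf W ≤ X := by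
  rw [Cfsg.Lib.OddLocal.FittingParts.fittingOf_eq]
  exact iSup_le fun q => h q.1 q.2

theorem fitting_eq_of_single {r : ℕ} {W : Subgroup G} (h : ∀ q : ℕ, q.Prime → q ≠ r → O q W = ⊥) :
    Cfsg.fittingOf W ≤ O r W :=
  fitting_le_of_cores fun q hq => by
    by_cases hqr : q = r
    · rw [hqr]
    · rw [h q hq hqr]; exact bot_le

namespace Frame

variable {z t s : G} {A T M : Subgroup G} (Fr : Frame z t s T M) (K : Core z A)
include Fr K

theorem V_norm_cent {X : Subgroup G} (hX : Vg z t ≤ normalizer (X : Set G)) {a b c : G} (F : IsFour a b c)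
    (hV : Vg a b = Vg z t) :
    Vg z t ≤ normalizer (OC ((X ⊓ Dg a : Subgroup G) : Set G) : Set G) := by
  refine le_trans (Cfsg.Lib.Coprime.le_normalizer_inf hX ?_) (normalizer_le_OC _)
  rw [← hV]
  refine F.le_normalizer_iff.2 ⟨mem_normalizer_closure fun x hx => ?_, mem_normalizer_closure fun x hx => ?_⟩
  · rw [conj_fix_iff.2 hx.1]; exact subset_closure hx
  · rw [K.inv_fst F (subset_closure hx)]; exact inv_mem (subset_closure hx)

/-- When the Fitting subgroup is an `r`-group it is the join of the primary components. -/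
theorem Pm_le (r : ℕ) [hr : Fact r.Prime] (hr0 : O r M ≠ ⊥)
    (hone : ∀ q : ℕ, q.Prime → q ≠ r → O q M = ⊥) : r ≠ 2 ∧ IsPGroup r (Pm r z t s) ∧ Pm r z t s ≤ O r M := by
  have hO := Fr.GInv_O K r
  have hOp : IsPGroup r (O r M) := Cfsg.Lib.OddLocal.FittingParts.isPGroup M
  have h2 : r ≠ 2 := by
    rintro rfl
    obtain ⟨n, hn⟩ := IsPGroup.iff_card.1 hOp
    have ho := hO.1
    rw [hn] at ho
    rcases n with _ | n
    · exact hr0 (eq_bot_of_card_eq _ (by rw [hn, pow_zero]))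
    · exact absurd ho (by simp [Nat.odd_pow_iff])
  have hZ0 := Z_ne_bot Fr hr0
  have hZp : IsPGroup r (Z r M) := hOp.to_le inf_le_left
  obtain ⟨⟨y, hy, hyz, hy1⟩, ⟨d, hd, hdt, hd1⟩, -⟩ := Fr.exists_comp K (Fr.GInv_Z K r) hZ0
  have hyD : y ∈ Dr r z := Core.mem_Dr_of hZp hy hyz
  have hDne : Dr r z ≠ ⊥ := fun e => hy1 (mem_bot.1 (e ▸ hyD))
  have hB : IsPGroup r (Pm r z t s) := K.big_of_comm Fr.four h2 hyD hy1 hdt hd1 (Z_comm Fr r y hy d hd)
  refine ⟨h2, hB, ?_⟩
  set P := Pm r z t s with hP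
  have hΓP := Fr.Gam_le_normalizer_Pm K h2 hDne hB
  have hPo := odd_of_isPGroup h2 hB
  have hOP : O r M ≤ P := K.le_Pm Fr.four h2 hOp (Fr.Vg_norm hO.2)
  set C := P ⊓ centralizer (P : Set G) with hC
  have hCG : GInv z T C := ⟨odd_of_le hPo inf_le_left, hΓP.trans (normalizer_le_centre P)⟩
  have hC0 : C ≠ ⊥ := by
    obtain ⟨w, -, hw1, hwP, hPw⟩ := K.exists_central Fr.four h2 hDne hB
    intro e
    refine hw1 (mem_bot.1 (e ▸ (⟨hwP, mem_centralizer_iff.2 fun x hx => ?_⟩ : w ∈ C)))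
    exact mem_cent.1 (hPw hx)
  have hfit : Cfsg.fittingOf M ≤ O r M := fitting_eq_of_single hone
  have hCM : C ≤ M := by
    refine le_trans (le_OC ?_ hCG.1) (Fr.OC_le K (Fr.GInv_Z K r) hZ0 (M_le_normalizer_Z Fr r))
    exact inf_le_right.trans (centralizer_le (inf_le_left.trans hOP))
  haveI : Group.IsSolvable M := solvable_of_odd Fr.odd
  have hCZ : C ≤ Z r M := by
    intro x hx
    have h := Cfsg.Lib.OddLocal.FittingParts.centralizer_fittingOf_le (X := M)
      ⟨hCM hx, centralizer_le (hfit.trans hOP) hx.2⟩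
    exact ⟨hfit h, centralizer_le hOP hx.2⟩
  have hcore : ∀ q : ℕ, q.Prime → q ≠ r → ∀ a b c, IsFour a b c → Vg a b = Vg z t →
      O q (Wv r M a) = ⊥ := by
    intro q hq hqr a b c F hV
    haveI := Fact.mk hq
    exact le_bot_iff.1 ((Fr.core_le K (p := r) hr0 (Ne.symm hqr) F hV).trans (hone q hq hqr).le)
  have hW1 : ∀ a b c, IsFour a b c → Vg a b = Vg z t → ∀ m ∈ M ⊓ Dg a, m ∈ normalizer (P : Set G) := by
    intro a b c F hV m hm
    set W := OC ((C ⊓ Dg a : Subgroup G) : Set G) with hW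
    obtain ⟨w, hwC, hwa, hw1⟩ := Fr.comp_ne K hCG hC0 F hV
    have hWo : Odd (Nat.card W) :=
      odd_of_le (K.odd_OC F.z2 hwa hw1) (OC_anti (Set.singleton_subset_iff.2 ⟨hwC, hwa⟩))
    have hWV := Fr.V_norm_cent K ((K.le_normalizer_Pm Fr.four).trans (normalizer_le_centre P)) F hV
    have hPW : P ≤ W := le_OC (le_centralizer_iff.1 (inf_le_left.trans inf_le_right)) hPo
    have hanti : Wv r M a ≤ W := OC_anti fun x hx => ⟨hCZ hx.1, hx.2⟩
    have hq : ∀ q : ℕ, q.Prime → q ≠ r → O q W = ⊥ := by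
      intro q hq hqr
      haveI := Fact.mk hq
      set Y := O q W with hY
      have hYq : IsPGroup q Y := Cfsg.Lib.OddLocal.FittingParts.isPGroup W
      have hYW : Y ≤ W := Cfsg.Lib.OddLocal.PiCoreOf.le _ W
      have hYn : W ≤ normalizer (Y : Set G) := Cfsg.Lib.OddLocal.PiCoreOf.le_normalizer' _ W
      have hYa : Y ⊓ Wv r M a ≤ ⊥ := by
        rw [← hcore q hq hqr a b c F hV]
        exact Cfsg.Lib.OddLocal.FittingParts.le_of_isPGroup inf_le_right
          (Cfsg.Lib.Coprime.le_normalizer_inf (hanti.trans hYn) le_normalizer) (hYq.to_le inf_le_left)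
      obtain ⟨-, -, hZa, -, hDa⟩ := Fr.Wv_facts K (p := r) hr0 F hV
      have other : ∀ b' c', IsFour b' a c' → Vg b' a = Vg z t → ∀ y ∈ Y ⊓ Dg b', y = 1 := by
        intro b' c' F' hV' y hy
        obtain ⟨hbo, hbV, hZb, -, hDb⟩ := Fr.Wv_facts K (p := r) hr0 F' hV'
        refine mem_bot.1 (hYa ⟨hy.1, subset_OC (mem_centralizer_iff.2 fun x hx => ?_) (orderOf_odd hWo (hYW hy.1))⟩)
        have h1 : ⁅y, x⁆ ∈ O r (Wv r M b') :=
          (fitting_eq_of_single fun q' hq' hne => hcore q' hq' hne b' a c' F' hV')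
            (K.commutator_le_fitting F' hbo (hV'.trans_le hbV)
              (commutator_mem_commutator (hDb hy.2) (hZb hx.1)))
        have h2' : ⁅y, x⁆ ∈ Y := by
          rw [commutatorElement_def, show y * x * y⁻¹ * x⁻¹ = y * (x * y⁻¹ * x⁻¹) by group]
          exact mul_mem hy.1
            ((mem_normalizer_iff.1 (hYn (hPW (hOP hx.1.1))) _).1 (inv_mem hy.1))
        have h3 : ⁅y, x⁆ = 1 := Cfsg.Lib.Coprime.eq_one_of_coprime
          (Cfsg.Lib.OddLocal.FittingParts.coprime hqr hYq (Cfsg.Lib.OddLocal.FittingParts.isPGroup _)) h2' h1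
        exact (commutatorElement_eq_one_iff_mul_comm.1 h3).symm
      refine le_bot_iff.1 (K.le_of_comps F (odd_of_le hWo hYW)
        (hV.trans_le (hWV.trans (Cfsg.Lib.OddLocal.PiCoreOf.normalizer_le _ W))) ?_ ?_ ?_)
      · exact fun y hy => hYa ⟨hy.1, hDa hy.2⟩
      · exact fun y hy => mem_bot.2 (other b c F.swap (F.swap_Vg.trans hV) y hy)
      · exact fun y hy => mem_bot.2 (other c b F.rot.rot (F.rot.rot_Vg.trans (F.rot_Vg.trans hV)) y hy)
    have hder : ⁅W, W⁆ ≤ P := by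
      refine (K.commutator_le_fitting F hWo (hV.trans_le hWV)).trans ((fitting_eq_of_single hq).trans ?_)
      exact K.le_Pm Fr.four h2 (Cfsg.Lib.OddLocal.FittingParts.isPGroup W)
        (hWV.trans (Cfsg.Lib.OddLocal.PiCoreOf.normalizer_le _ W))
    refine le_normalizer_of_commutator_le hder hPW (subset_OC (mem_centralizer_iff.2 fun x hx => ?_)
      (orderOf_odd Fr.odd hm.1))
    exact K.Dg_comm F.z2 hx.2 hm.2
  have hF := Fr.four
  have hMP : M ≤ normalizer (P : Set G) := K.le_of_comps hF Fr.odd Fr.normM (hW1 z t s hF rfl)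
    (hW1 t s z hF.rot hF.rot_Vg) (hW1 s z t hF.rot.rot (hF.rot.rot_Vg.trans hF.rot_Vg))
  exact Cfsg.Lib.OddLocal.FittingParts.le_of_isPGroup (Fr.absorb ⟨hPo, hΓP⟩ hMP) hMP hB

/-- The centraliser of `z` normalises the Fitting subgroup. -/
theorem cent_le_normalizer_fitting (hM0 : M ≠ ⊥)
    (hTmax : ∀ X : Subgroup G, IsPGroup 2 X → T ≤ X → X ≤ centralizer ({z} : Set G) → X ≤ T) :
    Cfsg.fittingOf M ≠ ⊥ ∧ centralizer ({z} : Set G) ≤ normalizer (Cfsg.fittingOf M : Set G) := by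
  haveI : Group.IsSolvable M := solvable_of_odd Fr.odd
  have hF0 : Cfsg.fittingOf M ≠ ⊥ := by
    haveI : Nontrivial M := (nontrivial_iff_ne_bot M).2 hM0
    intro e
    refine Cfsg.Lib.Coprime.fitting_ne_bot (G := M) (map_injective M.subtype_injective ?_)
    rw [Subgroup.map_bot]; exact e
  refine ⟨hF0, ?_⟩
  set F := Cfsg.fittingOf M with hFdef
  have hFn : normalizer (M : Set G) ≤ normalizer (F : Set G) := by
    intro g hg
    rw [hFdef, Cfsg.Lib.OddLocal.FittingParts.fittingOf_eq]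
    refine Cfsg.Lib.Coprime.conjMap_eq_self_iff.1 ?_
    show Subgroup.map _ _ = _
    rw [Subgroup.map_iSup]
    exact iSup_congr fun q =>
      Cfsg.Lib.Coprime.conjMap_eq_self (Cfsg.Lib.OddLocal.PiCoreOf.normalizer_le _ M hg)
  set W := OC ((F ⊓ centralizer (F : Set G) ⊓ Dg z : Subgroup G) : Set G) with hW
  obtain ⟨p₀, hp₀, hp₀0⟩ : ∃ p : ℕ, p.Prime ∧ O p M ≠ ⊥ := by
    by_contra h
    push Not at h
    exact hF0 (le_bot_iff.1 (fitting_le_of_cores fun q hq => (h q hq).le))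
  haveI := Fact.mk hp₀
  have hanti : ∀ p : ℕ, ∀ [Fact p.Prime], W ≤ Wv p M z := fun p _ =>
    OC_anti fun x hx => ⟨⟨Z_le_fitting Fr p hx.1, Z_le_centralizer_fitting Fr p hx.1⟩, hx.2⟩
  have hWo : Odd (Nat.card W) := odd_of_le (Fr.Wv_facts K (p := p₀) hp₀0 Fr.four rfl).1 (hanti p₀)
  have hWV := Fr.V_norm_cent K ((Fr.Vg_norm (Fr.norm.trans hFn)).trans (normalizer_le_centre F)) Fr.four rfl
  have hFW : F ≤ W := le_OC (le_centralizer_iff.1 (inf_le_left.trans inf_le_right))
    (odd_of_le Fr.odd (fitting_le_M Fr))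
  have hDW : Dg z ≤ W := le_OC (fun x hx => mem_centralizer_iff.2 fun w hw => K.Dg_comm Fr.four.z2 hw.2 hx)
    (K.odd_Dg Fr.four.z2)
  have hcore : ∀ q : ℕ, q.Prime → O q W ≤ F := by
    intro q hq
    haveI := Fact.mk hq
    refine le_trans ?_ (Cfsg.Lib.OddLocal.FittingParts.le_fittingOf (q := q) M)
    by_cases hne : O q W = ⊥
    · rw [hne]; exact bot_le
    have h2 : q ≠ 2 := by
      rintro rfl
      obtain ⟨n, hn⟩ := IsPGroup.iff_card.1 (Cfsg.Lib.OddLocal.FittingParts.isPGroup (q := 2) W)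
      have ho := odd_of_le hWo (Cfsg.Lib.OddLocal.PiCoreOf.le {2} W)
      rw [hn] at ho
      rcases n with _ | n
      · exact hne (eq_bot_of_card_eq _ (by rw [hn, pow_zero]))
      · exact absurd ho (by simp [Nat.odd_pow_iff])
    have hYq : IsPGroup q (O q W) := Cfsg.Lib.OddLocal.FittingParts.isPGroup W
    by_cases hp : ∃ p : ℕ, p.Prime ∧ p ≠ q ∧ O p M ≠ ⊥
    · obtain ⟨p, hp, hpq, hp0⟩ := hp
      haveI := Fact.mk hp
      have hYF : F ≤ normalizer (O q W : Set G) :=
        hFW.trans (Cfsg.Lib.OddLocal.PiCoreOf.le_normalizer' _ W)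
      refine (Fr.le_sup_core K hp0 hpq h2 Fr.four rfl
        ((Cfsg.Lib.OddLocal.PiCoreOf.le _ W).trans (hanti p)) hYq ((Z_le_fitting Fr p).trans hYF)
        (Fr.fixed_le K hp0 h2 hYq hYF)).trans (sup_le le_rfl (Fr.core_le K hp0 hpq Fr.four rfl))
    · push Not at hp
      have hq0 : O q M ≠ ⊥ := fun e => hp₀0 (by
        by_cases h : p₀ = q
        · rw [h]; exact e
        · exact hp p₀ hp₀ h)
      obtain ⟨-, hB, hPO⟩ := Fr.Pm_le K q hq0 fun p hp' hne => hp p hp' hne
      exact (K.le_Pm Fr.four h2 hYq (hWV.trans (Cfsg.Lib.OddLocal.PiCoreOf.normalizer_le _ W))).trans hPO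
  have hWF : W ≤ normalizer (F : Set G) :=
    le_normalizer_of_commutator_le ((K.commutator_le_fitting Fr.four hWo hWV).trans (fitting_le_of_cores hcore)) hFW
  have hTF : T ≤ normalizer (F : Set G) := (T_le_Gam z T).trans (Fr.norm.trans hFn)
  intro x hx
  set S := T ⊔ Dg z with hS
  have hSN : S ≤ normalizer (F : Set G) := sup_le hTF (hDW.trans hWF)
  obtain ⟨B, hB⟩ := K.exists_hyp Fr.four.z2
  have hmem : ∀ a ∈ B, a ∈ S := by
    intro a ha
    obtain ⟨k, m, hm, hkm⟩ := Nat.exists_eq_two_pow_mul_odd (orderOf_pos a).ne'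
    have h1 : a ^ 2 ^ k ∈ S := by
      refine mem_sup_right (subset_Dg (mem_cent.1 (hB.le (pow_mem ha _))) ?_)
      rw [orderOf_pow' a (by positivity), hkm, Nat.gcd_eq_right (Dvd.intro m rfl),
        Nat.mul_div_cancel_left m (by positivity)]
      exact hm
    have h2 : a ^ m ∈ S := by
      refine mem_sup_left ?_
      have hp : IsPGroup 2 (zpowers (a ^ m)) := by
        refine IsPGroup.of_card (n := k) ?_
        rw [Nat.card_zpowers, orderOf_pow' a hm.pos.ne', hkm, Nat.gcd_eq_right (Dvd.intro_left _ rfl),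
          Nat.mul_div_cancel _ hm.pos]
      have hn : T ≤ normalizer (zpowers (a ^ m) : Set G) := fun u hu => by
        rw [zpowers_eq_closure]
        refine mem_normalizer_closure fun y hy => ?_
        rw [Set.mem_singleton_iff.1 hy]
        by_cases huB : u ∈ B
        · rw [conj_fix_iff.2 (hB.comm _ (pow_mem ha _) u huB)]
          exact subset_closure rfl
        · rw [hB.inverts (Fr.le hu) huB (pow_mem ha _)]
          exact inv_mem (subset_closure rfl)
      exact hTmax _ (Fr.two.to_sup_of_normal_right' hp hn) le_sup_left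
        (sup_le Fr.le (zpowers_le.2 (hB.le (pow_mem ha _)))) (mem_sup_right (mem_zpowers _))
    have hg : (2 ^ k).gcd m = 1 := (Nat.coprime_two_left.2 hm).pow_left k
    have e : a = (a ^ 2 ^ k) ^ ((2 ^ k).gcdA m) * (a ^ m) ^ ((2 ^ k).gcdB m) := by
      rw [← zpow_natCast, ← zpow_natCast, ← zpow_mul, ← zpow_mul, ← zpow_add, ← Nat.gcd_eq_gcd_ab, hg,
        Nat.cast_one, zpow_one]
    rw [e]
    exact mul_mem (zpow_mem h1 _) (zpow_mem h2 _)
  by_cases hxB : x ∈ B
  · exact hSN (hmem x hxB)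
  · have hxt := hmem _ (hB.mul_mem_A hx (mem_cent.2 Fr.four.comm.symm) hxB (hB.not_mem_A Fr.four.t2 Fr.four.ne_zt.symm))
    have := mul_mem (hSN hxt) (inv_mem (hTF Fr.tT))
    rwa [mul_inv_cancel_right] at this

end Frame

end Cfsg.Lib.GenDihedral
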