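import Cfsg.Agent.FpfFour.Basic

/-!
A four-group acting without fixed points on a group of odd order: the factorisation by the three fixed
subgroups, their commutativity, and the commutativity of a group acting faithfully and irreducibly.
-/

set_option autoImplicit false
set_option linter.unusedSectionVars false
set_option linter.style.haveILetI false

namespace Cfsg.Lib.GenDihedral

universe u v

variable {H : Type u} [Group H]

/-- A four-group of automorphisms without fixed points of a group of odd order. -/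
structure Fours (t₁ t₂ t₃ : MulAut H) : Prop where
  odd : Odd (Nat.card H)
  i₁ : ∀ h, t₁ (t₁ h) = h
  i₂ : ∀ h, t₂ (t₂ h) = h
  i₃ : ∀ h, t₃ (t₃ h) = h
  m₁₂ : ∀ h, t₁ (t₂ h) = t₃ h
  m₂₁ : ∀ h, t₂ (t₁ h) = t₃ h
  fix : ∀ h, t₁ h = h → t₂ h = h → h = 1

/-- The square root in a group of odd order. -/
noncomputable def rt (x : H) : H := x ^ ((orderOf x + 1) / 2)

theorem odd_orderOf (ho : Odd (Nat.card H)) (x : H) : Odd (orderOf x) :=
  ho.of_dvd_nat (orderOf_dvd_natCard x)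

theorem rt_mul_rt (ho : Odd (Nat.card H)) (x : H) : rt x * rt x = x := by
  obtain ⟨k, hk⟩ := odd_orderOf ho x
  rw [rt, ← pow_add, show (orderOf x + 1) / 2 + (orderOf x + 1) / 2 = orderOf x + 1 by omega,
    pow_succ, pow_orderOf_eq_one, one_mul]

theorem rt_of_sq (ho : Odd (Nat.card H)) (x : H) : rt (x * x) = x := by
  obtain ⟨k, hk⟩ := odd_orderOf ho x
  have h1 : orderOf (x * x) = orderOf x := by
    rw [← pow_two]
    exact Nat.Coprime.orderOf_pow (by rw [hk]; simp)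
  rw [rt, h1, hk, show (2 * k + 1 + 1) / 2 = k + 1 by omega, ← pow_two, ← pow_mul,
    show 2 * (k + 1) = orderOf x + 1 by omega, pow_succ, pow_orderOf_eq_one, one_mul]

theorem sq_inj (ho : Odd (Nat.card H)) {x y : H} (h : x * x = y * y) : x = y := by
  rw [← rt_of_sq ho x, h, rt_of_sq ho y]

theorem map_rt (t : MulAut H) (x : H) : t (rt x) = rt (t x) := by
  rw [rt, rt, map_pow, MulEquiv.orderOf_eq]

theorem rt_inv (x : H) : rt x⁻¹ = (rt x)⁻¹ := by rw [rt, rt, orderOf_inv, inv_pow]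

variable {t₁ t₂ t₃ : MulAut H}

namespace Fours

variable (F : Fours t₁ t₂ t₃)
include F

theorem rot : Fours t₂ t₃ t₁ := by
  refine ⟨F.odd, F.i₂, F.i₃, F.i₁, fun h => ?_, fun h => ?_, fun h h2 h3 => F.fix h ?_ h2⟩
  · rw [← F.m₂₁, F.i₂]
  · rw [← F.m₁₂, F.i₂]
  · rw [← F.m₁₂, h2] at h3
    exact h3

theorem swap : Fours t₂ t₁ t₃ := ⟨F.odd, F.i₂, F.i₁, F.i₃, F.m₂₁, F.m₁₂, fun h h2 h1 => F.fix h h1 h2⟩

theorem m₁₃ (h : H) : t₁ (t₃ h) = t₂ h := by rw [← F.m₁₂, F.i₁]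

/-- The other involutions invert what one of them fixes. -/
theorem inv₂ {x : H} (hx : t₁ x = x) : t₂ x = x⁻¹ := by
  set i := rt ((t₂ x)⁻¹ * x) with hi
  have hi2 : t₂ i = i⁻¹ := by rw [hi, map_rt, map_mul, map_inv, F.i₂, ← rt_inv, mul_inv_rev, inv_inv]
  have hii : i * i = (t₂ x)⁻¹ * x := rt_mul_rt F.odd _
  have hi1 : t₁ i = i := by rw [hi, map_rt, map_mul, map_inv, hx, F.m₁₂, ← F.m₂₁, hx]
  have h2 : t₂ (x * i⁻¹) = x * i⁻¹ := by
    rw [map_mul, map_inv, hi2, inv_inv, eq_mul_inv_iff_mul_eq, mul_assoc, hii, mul_inv_cancel_left]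
  rw [mul_inv_eq_one.1 (F.fix _ (by rw [map_mul, map_inv, hx, hi1]) h2)]
  exact hi2

theorem inv₃ {x : H} (hx : t₁ x = x) : t₃ x = x⁻¹ := by rw [← F.m₂₁, hx, F.inv₂ hx]

/-- The fixed subgroups are abelian. -/
theorem comm_fix {x y : H} (hx : t₁ x = x) (hy : t₁ y = y) : x * y = y * x := by
  have h := F.inv₂ (show t₁ (x * y) = x * y by rw [map_mul, hx, hy])
  rw [map_mul, F.inv₂ hx, F.inv₂ hy, mul_inv_rev] at h
  have h' := congrArg (·⁻¹) h
  simp only [mul_inv_rev, inv_inv] at h'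
  exact h'.symm

/-- The factorisation. -/
theorem exists_abc' (h : H) : ∃ a b c : H, t₁ a = a ∧ t₂ b = b ∧ t₃ c = c ∧ h = a * (b * c * b) ∧
    ∀ S : Subgroup H, (∀ x ∈ S, t₁ x ∈ S) → (∀ x ∈ S, t₂ x ∈ S) → h ∈ S → a ∈ S ∧ b ∈ S ∧ c ∈ S := by
  set i := rt ((t₁ h)⁻¹ * h) with hi
  have hi1 : t₁ i = i⁻¹ := by rw [hi, map_rt, map_mul, map_inv, F.i₁, ← rt_inv, mul_inv_rev, inv_inv]
  have hii : i * i = (t₁ h)⁻¹ * h := rt_mul_rt F.odd _
  set u := rt (t₂ i * i⁻¹) with hu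
  have hu2 : t₂ u = u⁻¹ := by rw [hu, map_rt, map_mul, map_inv, F.i₂, ← rt_inv, mul_inv_rev, inv_inv]
  have huu : u * u = t₂ i * i⁻¹ := rt_mul_rt F.odd _
  have hw : t₂ (u * i) = u * i := by
    rw [map_mul, hu2, inv_mul_eq_iff_eq_mul, ← mul_assoc, huu, inv_mul_cancel_right]
  have hb : t₂ (rt (u * i)) = rt (u * i) := by rw [map_rt, hw]
  set b := rt (u * i)
  have hbb : b * b = u * i := rt_mul_rt F.odd _
  have hb1 : t₁ b = b⁻¹ := F.swap.inv₂ hb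
  have hti : t₂ i = b * b * i⁻¹ * (b * b) := by
    rw [hbb, show u * i * i⁻¹ * (u * i) = (u * u) * i by group, huu, inv_mul_cancel_right]
  refine ⟨h * i⁻¹, b, b⁻¹ * i * b⁻¹, ?_, hb, ?_, by group, fun S h1 h2 hS => ?_⟩
  · rw [map_mul, map_inv, hi1, inv_inv, eq_mul_inv_iff_mul_eq, mul_assoc, hii, mul_inv_cancel_left]
  · rw [← F.m₁₂, map_mul t₂, map_mul t₂, map_inv, hb, hti,
      show b⁻¹ * (b * b * i⁻¹ * (b * b)) * b⁻¹ = b * i⁻¹ * b by group, map_mul, map_mul, map_inv, hb1, hi1,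
      inv_inv]
  · have hiS : i ∈ S := pow_mem (S.mul_mem (S.inv_mem (h1 h hS)) hS) _
    have huS : u ∈ S := pow_mem (S.mul_mem (h2 i hiS) (S.inv_mem hiS)) _
    have hbS : b ∈ S := pow_mem (S.mul_mem huS hiS) _
    exact ⟨S.mul_mem hS (S.inv_mem hiS), hbS, S.mul_mem (S.mul_mem (S.inv_mem hbS) hiS) (S.inv_mem hbS)⟩

theorem exists_abc (h : H) : ∃ a b c : H, t₁ a = a ∧ t₂ b = b ∧ t₃ c = c ∧ h = a * (b * c * b) := by
  obtain ⟨a, b, c, ha, hb, hc, e, -⟩ := F.exists_abc' h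
  exact ⟨a, b, c, ha, hb, hc, e⟩

theorem t₁_bcb {b c : H} (hb : t₂ b = b) (hc : t₃ c = c) : t₁ (b * c * b) = (b * c * b)⁻¹ := by
  rw [map_mul, map_mul, F.swap.inv₂ hb, F.rot.rot.inv₂ hc]
  group

theorem abc_unique {a b c a' b' c' : H} (ha : t₁ a = a) (hb : t₂ b = b) (hc : t₃ c = c) (ha' : t₁ a' = a')
    (hb' : t₂ b' = b') (hc' : t₃ c' = c') (h : a * (b * c * b) = a' * (b' * c' * b')) :
    a = a' ∧ b = b' ∧ c = c' := by
  have h1 := congrArg (fun x => (t₁ x)⁻¹ * x) h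
  simp only [map_mul t₁ a, map_mul t₁ a', ha, ha', F.t₁_bcb hb hc, F.t₁_bcb hb' hc', mul_inv_rev, inv_inv] at h1
  rw [show b * c * b * a⁻¹ * (a * (b * c * b)) = b * c * b * (b * c * b) by group,
    show b' * c' * b' * a'⁻¹ * (a' * (b' * c' * b')) = b' * c' * b' * (b' * c' * b') by group] at h1
  have h2 := sq_inj F.odd h1
  rw [h2] at h
  refine ⟨mul_right_cancel h, ?_⟩
  have hd : t₂ (b'⁻¹ * b) = b'⁻¹ * b := by rw [map_mul, map_inv, hb, hb']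
  have hd1 : t₁ (b'⁻¹ * b) = (b'⁻¹ * b)⁻¹ := F.swap.inv₂ hd
  have hd3 : t₃ (b'⁻¹ * b) = (b'⁻¹ * b)⁻¹ := by rw [← F.m₁₂, hd, hd1]
  have he : b'⁻¹ * b * c * (b'⁻¹ * b) = c' := by
    have e1 : b'⁻¹ * b = b * b'⁻¹ := F.rot.comm_fix (by rw [map_inv, hb']) hb
    calc b'⁻¹ * b * c * (b'⁻¹ * b) = b'⁻¹ * b * c * (b * b'⁻¹) := by rw [← e1]
      _ = b'⁻¹ * (b * c * b) * b'⁻¹ := by group
      _ = c' := by rw [h2]; group
  set d := b'⁻¹ * b
  have he3 := congrArg t₃ he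
  rw [map_mul, map_mul, hd3, hc, hc'] at he3
  have hcd : c⁻¹ * (d * d) * c = (d * d)⁻¹ := by
    calc c⁻¹ * (d * d) * c = c⁻¹ * d * (d * c * d) * d⁻¹ := by group
      _ = c⁻¹ * d * (d⁻¹ * c * d⁻¹) * d⁻¹ := by rw [he, ← he3]
      _ = (d * d)⁻¹ := by group
  have hd2 : d * d = 1 := by
    -- an element conjugate to its inverse in a group of odd order
    obtain ⟨j, hj⟩ := odd_orderOf F.odd c
    have key : ∀ n : ℕ, c⁻¹ ^ n * (d * d) * c ^ n = if Even n then d * d else (d * d)⁻¹ := by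
      intro n
      induction n with
      | zero => simp
      | succ n ih =>
        rw [pow_succ' c⁻¹, pow_succ, show c⁻¹ * c⁻¹ ^ n * (d * d) * (c ^ n * c) =
          c⁻¹ * (c⁻¹ ^ n * (d * d) * c ^ n) * c by group, ih]
        by_cases hn : Even n
        · rw [if_pos hn, hcd, if_neg (by simp [Nat.even_add_one, hn])]
        · rw [if_neg hn, if_pos (Nat.even_add_one.2 hn),
            show c⁻¹ * (d * d)⁻¹ * c = (c⁻¹ * (d * d) * c)⁻¹ by group, hcd, inv_inv]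
    have h3 := key (orderOf c)
    rw [inv_pow, pow_orderOf_eq_one, inv_one, one_mul, mul_one,
      if_neg (Nat.not_even_iff_odd.2 (odd_orderOf F.odd c))] at h3
    have h4 : d * d = (1 : H) * 1 → d = 1 := fun e => sq_inj F.odd e
    have h5 : d * d * (d * d) = 1 * 1 := by
      nth_rewrite 2 [h3]
      rw [mul_inv_cancel, one_mul]
    exact sq_inj F.odd h5
  have hd1' : d = 1 := sq_inj F.odd (by rw [hd2, one_mul])
  refine ⟨(inv_mul_eq_one.1 hd1').symm, ?_⟩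
  rw [← he, hd1', one_mul, mul_one]

/-- The order is the product of the orders of the fixed sets. -/
theorem card_eq : Nat.card H =
    Nat.card {a : H // t₁ a = a} * (Nat.card {b : H // t₂ b = b} * Nat.card {c : H // t₃ c = c}) := by
  rw [← Nat.card_prod, ← Nat.card_prod]
  refine (Nat.card_eq_of_bijective
    (fun p : {a : H // t₁ a = a} × {b : H // t₂ b = b} × {c : H // t₃ c = c} =>
      (p.1 : H) * (p.2.1 * p.2.2 * p.2.1)) ⟨?_, ?_⟩).symm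
  · rintro ⟨⟨a, ha⟩, ⟨b, hb⟩, ⟨c, hc⟩⟩ ⟨⟨a', ha'⟩, ⟨b', hb'⟩, ⟨c', hc'⟩⟩ e
    obtain ⟨e1, e2, e3⟩ := F.abc_unique ha hb hc ha' hb' hc' e
    simp [e1, e2, e3]
  · intro h
    obtain ⟨a, b, c, ha, hb, hc, e⟩ := F.exists_abc h
    exact ⟨⟨⟨a, ha⟩, ⟨b, hb⟩, ⟨c, hc⟩⟩, e.symm⟩

/-- Generation by the three fixed subgroups. -/
theorem mem_of_fix (S : Subgroup H) (h1 : ∀ x, t₁ x = x → x ∈ S) (h2 : ∀ x, t₂ x = x → x ∈ S)
    (h3 : ∀ x, t₃ x = x → x ∈ S) (h : H) : h ∈ S := by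
  obtain ⟨a, b, c, ha, hb, hc, rfl⟩ := F.exists_abc h
  exact S.mul_mem (h1 a ha) (S.mul_mem (S.mul_mem (h2 b hb) (h3 c hc)) (h2 b hb))

end Fours

/-! ### Faithful irreducible action -/

/-- A compatible pair of four-groups. -/
structure FoursAct {V : Type v} [CommGroup V] (ρ : H →* MulAut V) (t₁ t₂ t₃ : MulAut H)
    (s₁ s₂ s₃ : MulAut V) : Prop where
  onH : Fours t₁ t₂ t₃
  onV : Fours s₁ s₂ s₃
  c₁ : ∀ h v, s₁ (ρ h v) = ρ (t₁ h) (s₁ v)
  c₂ : ∀ h v, s₂ (ρ h v) = ρ (t₂ h) (s₂ v)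
  c₃ : ∀ h v, s₃ (ρ h v) = ρ (t₃ h) (s₃ v)

namespace FoursAct

variable {V : Type v} [CommGroup V] {ρ : H →* MulAut V} {s₁ s₂ s₃ : MulAut V}
  (X : FoursAct ρ t₁ t₂ t₃ s₁ s₂ s₃)
include X

theorem rot : FoursAct ρ t₂ t₃ t₁ s₂ s₃ s₁ := ⟨X.onH.rot, X.onV.rot, X.c₂, X.c₃, X.c₁⟩

theorem swap : FoursAct ρ t₂ t₁ t₃ s₂ s₁ s₃ := ⟨X.onH.swap, X.onV.swap, X.c₂, X.c₁, X.c₃⟩

/-- An element fixed by `t₁` centralises what `s₁` fixes. -/
theorem fix_fix {a : H} (ha : t₁ a = a) {v : V} (hv : s₁ v = v) : ρ a v = v := by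
  have h1 : s₁ (ρ a v) = ρ a v := by rw [X.c₁, ha, hv]
  have h2 := X.onV.inv₂ h1
  rw [X.c₂, X.onV.inv₂ hv, X.onH.inv₂ ha, map_inv, inv_inj] at h2
  have h3 : ρ a (ρ a v) = v := by
    rw [← h2]
    rw [← MulAut.mul_apply, ← map_mul, mul_inv_cancel, map_one, MulAut.one_apply]
  have hodd := odd_orderOf X.onH.odd a
  obtain ⟨k, hk⟩ := hodd
  have h4 : ∀ n : ℕ, ρ (a ^ (2 * n)) v = v := by
    intro n
    induction n with
    | zero => simp
    | succ n ih =>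
      rw [show 2 * (n + 1) = 2 * n + 1 + 1 by ring, pow_succ, pow_succ, mul_assoc, map_mul, map_mul,
        MulAut.mul_apply, MulAut.mul_apply, h3, ih]
  have h5 : ρ a v = v := by
    have := h4 (k + 1)
    rwa [show 2 * (k + 1) = orderOf a + 1 by omega, pow_succ, pow_orderOf_eq_one, one_mul] at this
  exact h5

end FoursAct

end Cfsg.Lib.GenDihedral
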