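import Cfsg.Agent.GenDihedral.Fit

/-!
A maximal subgroup of odd order among those normalised by the two-group and the rotations.
-/

set_option autoImplicit false
set_option linter.unusedSectionVars false
set_option linter.style.haveILetI false

namespace Cfsg.Lib.GenDihedral

open Subgroup
open Cfsg.Lib.OddLocal.FittingParts (O Z)

universe u

variable {G : Type u} [Group G] [Finite G]

/-- The two-group with the normalisers of its four-groups through `z`. -/
def Gam (z : G) (T : Subgroup G) : Subgroup G :=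
  T ⊔ closure {g | ∃ t s, IsFour z t s ∧ t ∈ T ∧ g ∈ normalizer (Vg z t : Set G)}

theorem T_le_Gam (z : G) (T : Subgroup G) : T ≤ Gam z T := le_sup_left

theorem rot_mem_Gam {z t s g : G} {T : Subgroup G} (F : IsFour z t s) (ht : t ∈ T) (hg : IsRot g z t s) :
    g ∈ Gam z T :=
  mem_sup_right (subset_closure ⟨t, s, F, ht, Core.IsRot.mem_normalizer F hg⟩)

/-- Odd order and normalised by `Gam`. -/
abbrev GInv (z : G) (T X : Subgroup G) : Prop := Odd (Nat.card X) ∧ Gam z T ≤ normalizer (X : Set G)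

/-- A two-group centralising `z`, a four-group in it, and a maximal invariant subgroup of odd order. -/
structure Frame (z t s : G) (T M : Subgroup G) : Prop where
  four : IsFour z t s
  two : IsPGroup 2 T
  zT : z ∈ T
  tT : t ∈ T
  le : T ≤ centralizer ({z} : Set G)
  max : Maximal (GInv z T) M

namespace Frame

variable {z t s : G} {A T M : Subgroup G} (Fr : Frame z t s T M)
include Fr

theorem sT : s ∈ T := Fr.four.zt ▸ mul_mem Fr.zT Fr.tT

theorem Vg_le : Vg z t ≤ T :=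
  (closure_le _).2 (by rintro x (rfl | hx); exacts [Fr.zT, Set.mem_singleton_iff.1 hx ▸ Fr.tT])

theorem Vg_norm {X : Subgroup G} (hX : Gam z T ≤ normalizer (X : Set G)) :
    Vg z t ≤ normalizer (X : Set G) :=
  Fr.Vg_le.trans ((T_le_Gam z T).trans hX)

theorem odd : Odd (Nat.card M) := Fr.max.1.1

theorem norm : Gam z T ≤ normalizer (M : Set G) := Fr.max.1.2

theorem normM : Vg z t ≤ normalizer (M : Set G) := Fr.Vg_norm Fr.norm

/-- The other four-group with the same `z`. -/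
theorem flip : Frame z s t T M :=
  ⟨Fr.four.rot.rot.swap, Fr.two, Fr.zT, Fr.sT, Fr.le, Fr.max⟩

theorem absorb {X : Subgroup G} (hX : GInv z T X) (hMX : M ≤ normalizer (X : Set G)) : X ≤ M := by
  have h : GInv z T (X ⊔ M) := by
    refine ⟨((hX.1).mul Fr.odd).of_dvd_nat
      (Dvd.intro _ (Cfsg.Lib.Coprime.card_sup_mul_card_inf hMX)), ?_⟩
    exact Cfsg.Lib.Coprime.le_normalizer_sup hX.2 Fr.norm
  exact le_sup_left.trans (Fr.max.le_of_ge h le_sup_right)

variable (K : Core z A)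
include K

theorem exists_comp {X : Subgroup G} (hX : GInv z T X) (hne : X ≠ ⊥) :
    (∃ y ∈ X, y ∈ Dg z ∧ y ≠ 1) ∧ (∃ y ∈ X, y ∈ Dg t ∧ y ≠ 1) ∧ ∃ y ∈ X, y ∈ Dg s ∧ y ≠ 1 := by
  obtain ⟨g, hg⟩ := K.exists_rot Fr.four
  have hgX := hX.2 (rot_mem_Gam Fr.four Fr.tT hg)
  have hV := Fr.Vg_norm hX.2
  refine ⟨K.exists_mem_fst Fr.four hX.1 hV hg hgX hne,
    K.exists_mem_fst Fr.four.rot hX.1 (Fr.four.rot_Vg.trans_le hV) hg.rot hgX hne,
    K.exists_mem_fst Fr.four.rot.rot hX.1 ?_ hg.rot.rot hgX hne⟩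
  rw [Fr.four.rot.rot_Vg, Fr.four.rot_Vg]
  exact hV

/-- The odd part of the centraliser of an invariant subgroup is invariant. -/
theorem OC_le {X : Subgroup G} (hX : GInv z T X) (hne : X ≠ ⊥) (hMX : M ≤ normalizer (X : Set G)) :
    OC (X : Set G) ≤ M := by
  obtain ⟨⟨y, hyX, hyz, hy1⟩, -, -⟩ := Fr.exists_comp K hX hne
  exact Fr.absorb ⟨odd_of_le (K.odd_OC Fr.four.z2 hyz hy1) (OC_anti (Set.singleton_subset_iff.2 hyX)),
    hX.2.trans (normalizer_le_OC X)⟩ (hMX.trans (normalizer_le_OC X))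

theorem comm_fitting : ⁅M, M⁆ ≤ Cfsg.fittingOf M := K.commutator_le_fitting Fr.four Fr.odd Fr.normM

theorem GInv_O (r : ℕ) : GInv z T (O r M) :=
  ⟨odd_of_le Fr.odd (Cfsg.Lib.OddLocal.PiCoreOf.le _ M),
    Fr.norm.trans (Cfsg.Lib.OddLocal.PiCoreOf.normalizer_le _ M)⟩

theorem GInv_Z (r : ℕ) : GInv z T (Z r M) :=
  ⟨odd_of_le (Fr.GInv_O K r).1 inf_le_left, (Fr.GInv_O K r).2.trans (normalizer_le_centre _)⟩

omit K in
theorem M_le_normalizer_Z (r : ℕ) : M ≤ normalizer (Z r M : Set G) :=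
  (Cfsg.Lib.OddLocal.PiCoreOf.le_normalizer' _ M).trans (normalizer_le_centre _)

omit K in
theorem Z_ne_bot {r : ℕ} [Fact r.Prime] (h : O r M ≠ ⊥) : Z r M ≠ ⊥ := by
  have hp := Cfsg.Lib.OddLocal.FittingParts.isPGroup (q := r) M
  haveI : Nontrivial (O r M) := (nontrivial_iff_ne_bot _).2 h
  haveI := hp.center_nontrivial
  obtain ⟨c, hc⟩ := exists_ne (1 : center (O r M))
  intro e
  refine hc (Subtype.ext (Subtype.ext ?_))
  have : ((c : O r M) : G) ∈ Z r M :=
    ⟨(c : O r M).2, mem_centralizer_iff.2 fun x hx => congrArg Subtype.val (mem_center_iff.1 c.2 ⟨x, hx⟩)⟩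
  rw [e, mem_bot] at this
  exact this

omit K in
theorem Z_comm (r : ℕ) : ∀ a ∈ Z r M, ∀ b ∈ Z r M, a * b = b * a :=
  fun a ha b hb => (mem_centralizer_iff.1 ha.2 b hb.1).symm

omit K in
theorem Z_le_centralizer_fitting (r : ℕ) [Fact r.Prime] :
    Z r M ≤ centralizer (Cfsg.fittingOf M : Set G) := by
  refine Cfsg.Lib.OddLocal.FittingParts.le_centralizer_fittingOf fun q hq => ?_
  haveI := Fact.mk hq
  by_cases h : r = q
  · subst h; exact inf_le_right
  · exact inf_le_left.trans (Cfsg.Lib.OddLocal.FittingParts.commute h)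

omit K in
theorem Z_le_fitting (r : ℕ) [Fact r.Prime] : Z r M ≤ Cfsg.fittingOf M :=
  inf_le_left.trans (Cfsg.Lib.OddLocal.FittingParts.le_fittingOf M)

omit K in
theorem fitting_le_M : Cfsg.fittingOf M ≤ M := Cfsg.Lib.OddLocal.FittingParts.fittingOf_le M

/-- `Gam` normalises an `r`-join. -/
theorem Gam_le_normalizer_Pm {r : ℕ} [Fact r.Prime] (h2 : r ≠ 2) (hne : Dr r z ≠ ⊥)
    (hB : IsPGroup r (Pm r z t s)) : Gam z T ≤ normalizer (Pm r z t s : Set G) := by
  refine sup_le (K.two_le_normalizer_Pm Fr.four h2 hne hB Fr.two Fr.zT Fr.tT Fr.le) ((closure_le _).2 ?_)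
  rintro g ⟨t', s', F', ht', hg⟩
  rw [← (K.Pm_indep Fr.four h2 hne hB F' Fr.two Fr.zT Fr.tT ht' Fr.le).2]
  exact K.normalizer_Pm F' hg

end Frame

end Cfsg.Lib.GenDihedral
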