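import Cfsg.Agent.GenDihedral.Join
import Cfsg.Agent.PGroups.Basic

/-!
An invariant `r`-group is generated by what the `z`-part and the `s`-part of an abelian coprime group fix.
-/

set_option autoImplicit false
set_option linter.unusedSectionVars false
set_option linter.style.haveILetI false

namespace Cfsg.Lib.GenDihedral

open Subgroup
open scoped commutatorElement

universe u

variable {G : Type u} [Group G] [Finite G]

theorem comm_mul_left' (a b y : G) : ⁅a * b, y⁆ = a * ⁅b, y⁆ * a⁻¹ * ⁅a, y⁆ := by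
  simp only [commutatorElement_def]; group

theorem comm_inv_left' (a y : G) : ⁅a⁻¹, y⁆ = a⁻¹ * ⁅a, y⁆⁻¹ * a := by
  simp only [commutatorElement_def]; group

theorem eq_of_sup_commutator {r : ℕ} [Fact r.Prime] {X S : Subgroup G} (hX : IsPGroup r X) (hSX : S ≤ X)
    (h : X ≤ S ⊔ ⁅X, X⁆) : S = X := by
  refine le_antisymm hSX (subgroupOf_eq_top.1 (frattini_nongenerating (eq_top_iff.2 fun x _ => ?_)))
  have hle : S ⊔ ⁅X, X⁆ ≤ (S.subgroupOf X ⊔ frattini X).map X.subtype := by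
    refine sup_le (fun s hs => ⟨⟨s, hSX hs⟩, mem_sup_left hs, rfl⟩) ?_
    have e : (commutator X).map X.subtype = ⁅X, X⁆ := by
      rw [commutator_def, map_commutator, ← MonoidHom.range_eq_map, range_subtype]
    rw [← e]
    exact map_mono ((Cfsg.Lib.PGroups.commutator_le_frattini hX).trans le_sup_right)
  obtain ⟨y, hy, e⟩ := hle (h x.2)
  rwa [← X.subtype_injective e]

namespace Core

variable {z₀ : G} {A : Subgroup G} (K : Core z₀ A) {r : ℕ} [hr : Fact r.Prime] {z t s : G} (F : IsFour z t s)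
include K F

theorem gen_fixed (h2 : r ≠ 2) {X Z : Subgroup G} (hX : IsPGroup r X) (hXV : Vg z t ≤ normalizer (X : Set G))
    (hZc : ∀ a ∈ Z, ∀ b ∈ Z, a * b = b * a) (hZo : Odd (Nat.card Z)) (hcop : (Nat.card Z).Coprime (Nat.card X))
    (hZX : Z ≤ normalizer (X : Set G)) :
    X ≤ (X ⊓ centralizer ((Z ⊓ Dg z : Subgroup G) : Set G)) ⊔ (X ⊓ centralizer ((Z ⊓ Dg s : Subgroup G) : Set G)) := by
  set Zz := Z ⊓ Dg z with hZzdef
  set Zs := Z ⊓ Dg s with hZsdef
  set X' := ⁅X, X⁆ with hX'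
  have hX'X : X' ≤ X := commutator_le_self X
  have hXn : X ≤ normalizer (X' : Set G) :=
    Cfsg.Lib.Coprime.le_normalizer_commutator_left X X
  have hnX' : normalizer (X : Set G) ≤ normalizer (X' : Set G) := by
    intro g hg
    rw [← Cfsg.Lib.Coprime.conjMap_eq_self_iff, Cfsg.Lib.Coprime.conjMap, hX', map_commutator,
      show X.map (MulAut.conj g).toMonoidHom = X from Cfsg.Lib.Coprime.conjMap_eq_self hg]
  have hconj : ∀ g ∈ normalizer (X : Set G), ∀ c ∈ X', g * c * g⁻¹ ∈ X' :=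
    fun g hg c hc => (mem_normalizer_iff.1 (hnX' hg) c).1 hc
  -- what the first part fixes modulo the derived subgroup
  let M : Subgroup G :=
    { carrier := {x | x ∈ X ∧ ∀ b ∈ Zz, ⁅x, b⁆ ∈ X'}
      one_mem' := ⟨one_mem X, fun b _ => by simp⟩
      mul_mem' := fun {x y} hx hy => ⟨mul_mem hx.1 hy.1, fun b hb => by
        rw [comm_mul_left']
        exact mul_mem (hconj x (le_normalizer hx.1) _ (hy.2 b hb)) (hx.2 b hb)⟩
      inv_mem' := fun {x} hx => ⟨inv_mem hx.1, fun b hb => by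
        rw [comm_inv_left']
        have := hconj x⁻¹ (le_normalizer (inv_mem hx.1)) _ (inv_mem (hx.2 b hb))
        rwa [inv_inv] at this⟩ }
  have hX'M : X' ≤ M := fun c hc => ⟨hX'X hc, fun b hb => by
    rw [commutatorElement_def, show c * b * c⁻¹ * b⁻¹ = c * (b * c⁻¹ * b⁻¹) by group]
    exact mul_mem hc (hconj b (hZX hb.1) _ (inv_mem hc))⟩
  have hMn : ∀ g ∈ X, ∀ x ∈ M, g * x * g⁻¹ ∈ M := fun g hg x hx => by
    rw [show g * x * g⁻¹ = ⁅g, x⁆ * x by simp [commutatorElement_def]]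
    exact mul_mem (hX'M (commutator_mem_commutator hg hx.1)) hx
  have hMa : ∀ a ∈ Z, ∀ x ∈ M, a * x * a⁻¹ ∈ M := fun a ha x hx =>
    ⟨(mem_normalizer_iff.1 (hZX ha) x).1 hx.1, fun b hb => by
      have e : ⁅a * x * a⁻¹, b⁆ = a * ⁅x, b⁆ * a⁻¹ := by
        simp only [commutatorElement_def, mul_inv_rev, inv_inv]
        calc a * x * a⁻¹ * b * (a * (x⁻¹ * a⁻¹)) * b⁻¹
            = a * x * (a⁻¹ * b) * a * x⁻¹ * (a⁻¹ * b⁻¹) := by group
          _ = a * x * (b * a⁻¹) * a * x⁻¹ * (b⁻¹ * a⁻¹) := by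
            rw [hZc _ (inv_mem ha) _ hb.1, hZc _ (inv_mem ha) _ (inv_mem hb.1)]
          _ = a * (x * b * x⁻¹ * b⁻¹) * a⁻¹ := by group
      rw [e]
      exact hconj a (hZX ha) _ (hx.2 b hb)⟩
  have hzM : X ⊓ Dg z ≤ M := fun x hx => ⟨hx.1, fun b hb => by
    rw [commutatorElement_eq_one_iff_mul_comm.2 (K.Dg_comm F.z2 hx.2 hb.2)]
    exact one_mem X'⟩
  have hXo := odd_of_isPGroup h2 hX
  have hzX : z ∈ normalizer (X : Set G) := hXV (Vg_mem F).1
  -- the crucial case
  have key : ∀ y ∈ X ⊓ Dg t, ∀ a ∈ Zs, ⁅y, a⁆ ∈ M := by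
    intro y hy a' ha'
    obtain ⟨k, hk⟩ := orderOf_odd hZo ha'.1
    obtain ⟨a, haZ, haa⟩ : ∃ a ∈ Zs, (a * a)⁻¹ = a' := ⟨(a' ^ (k + 1))⁻¹, inv_mem (pow_mem ha' _), by
      rw [← mul_inv_rev, inv_inv, ← pow_add, show k + 1 + (k + 1) = orderOf a' + 1 by omega, pow_succ,
        pow_orderOf_eq_one, one_mul]⟩
    set w := a⁻¹ * y⁻¹ * a with hw
    have hza : z * a * z⁻¹ = a⁻¹ := K.inv_fst F.rot.rot haZ.2
    have hzy : z * y * z⁻¹ = y⁻¹ := K.inv_fst F.swap hy.2
    have hy' : a * y * a⁻¹ ∈ X := (mem_normalizer_iff.1 (hZX haZ.1) y).1 hy.1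
    have hw' : w ∈ X := by
      have := (mem_normalizer_iff.1 (hZX (inv_mem haZ.1)) y⁻¹).1 (inv_mem hy.1)
      rwa [inv_inv] at this
    have he : z * (a * y * a⁻¹ * w) * z⁻¹ * (a * y * a⁻¹ * w)⁻¹ ∈ X' := by
      have e1 : z * (a * y * a⁻¹ * w) * z⁻¹ = w * (a * y * a⁻¹) := by
        rw [hw]
        calc z * (a * y * a⁻¹ * (a⁻¹ * y⁻¹ * a)) * z⁻¹
            = (z * a * z⁻¹) * (z * y * z⁻¹) * (z * a * z⁻¹)⁻¹ *
              ((z * a * z⁻¹)⁻¹ * (z * y * z⁻¹)⁻¹ * (z * a * z⁻¹)) := by group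
          _ = _ := by rw [hza, hzy]; group
      rw [e1, show w * (a * y * a⁻¹) * (a * y * a⁻¹ * w)⁻¹ = ⁅w, a * y * a⁻¹⁆ by
        simp only [commutatorElement_def]; group]
      exact commutator_mem_commutator hw' hy'
    have heM : a * y * a⁻¹ * w ∈ M :=
      sup_le hzM hX'M (K.mem_sup_of_modFix F hXo hXV hX'X hXn (mul_mem hy' hw') he)
    have := hMa a⁻¹ (inv_mem haZ.1) _ heM
    rw [hw, inv_inv, show a⁻¹ * (a * y * a⁻¹ * (a⁻¹ * y⁻¹ * a)) * a = ⁅y, (a * a)⁻¹⁆ by
      simp [commutatorElement_def, mul_assoc], haa] at this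
    exact this
  have hcomm : ⁅X, Zs⁆ ≤ M := by
    let S : Subgroup G :=
      { carrier := {x | x ∈ X ∧ ∀ a ∈ Zs, ⁅x, a⁆ ∈ M}
        one_mem' := ⟨one_mem X, fun b _ => by simp⟩
        mul_mem' := fun {x y} hx hy => ⟨mul_mem hx.1 hy.1, fun b hb => by
          rw [comm_mul_left']
          exact mul_mem (hMn x hx.1 _ (hy.2 b hb)) (hx.2 b hb)⟩
        inv_mem' := fun {x} hx => ⟨inv_mem hx.1, fun b hb => by
          rw [comm_inv_left']
          have := hMn x⁻¹ (inv_mem hx.1) _ (inv_mem (hx.2 b hb))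
          rwa [inv_inv] at this⟩ }
    have hXS : X ≤ S := by
      refine K.le_of_comps F hXo hXV ?_ ?_ ?_
      · intro x hx
        refine ⟨hx.1, fun a ha => ?_⟩
        have hxa : ⁅x, a⁆ ∈ X := by
          rw [commutatorElement_def, show x * a * x⁻¹ * a⁻¹ = x * (a * x⁻¹ * a⁻¹) by group]
          exact mul_mem hx.1 ((mem_normalizer_iff.1 (hZX ha.1) _).1 (inv_mem hx.1))
        refine ⟨hxa, fun b hb => ?_⟩
        have h1 : Commute x b := K.Dg_comm F.z2 hx.2 hb.2
        have h2 : Commute a b := hZc a ha.1 b hb.1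
        have h3 : Commute ⁅x, a⁆ b := by
          rw [commutatorElement_def]
          exact ((h1.mul_left h2).mul_left h1.inv_left).mul_left h2.inv_left
        rw [commutatorElement_eq_one_iff_mul_comm.2 h3.eq]
        exact one_mem X'
      · exact fun y hy => ⟨hy.1, key y hy⟩
      · intro x hx
        refine ⟨hx.1, fun a ha => ?_⟩
        rw [commutatorElement_eq_one_iff_mul_comm.2 (K.Dg_comm F.s2 hx.2 ha.2)]
        exact one_mem M
    exact commutator_le.2 fun x hx a ha => (hXS hx).2 a ha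
  have hZzX : Zz ≤ normalizer (X : Set G) := inf_le_left.trans hZX
  have hZsX : Zs ≤ normalizer (X : Set G) := inf_le_left.trans hZX
  have hXs := Cfsg.Lib.Coprime.commutator_sup_centralizer hZsX (hcop.coprime_dvd_left (card_dvd_of_le inf_le_left))
    (Or.inl (solvable_of_odd (odd_of_le hZo inf_le_left)))
  have hM : (M ⊓ centralizer (Zz : Set G)) ⊔ X' = M :=
    Cfsg.Lib.Coprime.le_centralizer_sup (hZzX.trans hnX')
      ((hcop.coprime_dvd_left (card_dvd_of_le inf_le_left)).coprime_dvd_right (card_dvd_of_le hX'X))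
      (Or.inl (solvable_of_odd (odd_of_le hZo inf_le_left))) hX'M fun k hk b hb => by
        have := (inv_mem hk).2 b hb
        rwa [commutatorElement_def, inv_inv] at this
  refine (eq_of_sup_commutator hX (sup_le inf_le_left inf_le_left) ?_).ge
  conv_lhs => rw [← hXs]
  refine sup_le (hcomm.trans (hM.ge.trans (sup_le ?_ le_sup_right))) (le_sup_of_le_left le_sup_right)
  exact le_sup_of_le_left (le_sup_of_le_left (inf_le_inf_right _ fun x hx => hx.1))

end Core

end Cfsg.Lib.GenDihedral
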