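import Cfsg.Agent.GenDihedral.Rot

/-!
The join of the primary components does not depend on the four-group inside a two-group centralising `z`.
-/

set_option autoImplicit false
set_option linter.unusedSectionVars false
set_option linter.style.haveILetI false

namespace Cfsg.Lib.GenDihedral

open Subgroup

universe u

variable {G : Type u} [Group G] [Finite G]

theorem normalizer_le_centre (P : Subgroup G) :
    normalizer (P : Set G) ≤ normalizer ((P ⊓ centralizer (P : Set G) : Subgroup G) : Set G) := by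
  intro g hg
  refine Cfsg.Lib.Coprime.mem_normalizer_of_conj_mem ?_ ?_
  · intro x hx
    refine ⟨(mem_normalizer_iff.1 hg x).1 hx.1, mem_centralizer_iff.2 fun p hp => ?_⟩
    have h := mem_centralizer_iff.1 hx.2 (g⁻¹ * p * g) (by simpa using (mem_normalizer_iff.1 (inv_mem hg) p).1 hp)
    have h' := congrArg (MulAut.conj g) h
    simpa [MulAut.conj_apply, mul_assoc] using h'
  · intro x hx
    refine ⟨by simpa using (mem_normalizer_iff.1 (inv_mem hg) x).1 hx.1, mem_centralizer_iff.2 fun p hp => ?_⟩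
    have h := mem_centralizer_iff.1 hx.2 _ ((mem_normalizer_iff.1 hg p).1 hp)
    have h' := congrArg (MulAut.conj g⁻¹) h
    simpa [MulAut.conj_apply, mul_assoc] using h'

namespace Core

variable {z₀ : G} {A : Subgroup G} (K : Core z₀ A) {r : ℕ} [hr : Fact r.Prime] {z t s : G} (F : IsFour z t s)
include K

theorem Dr_ne_bot {v : G} (hv : orderOf v = 2) (h : Dr r z₀ ≠ ⊥) : Dr r v ≠ ⊥ := fun e => by
  have h' := K.card_Dr (r := r) hv
  rw [e, card_bot] at h'
  exact h (eq_bot_of_card_eq _ h'.symm)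

include F

/-- An invariant subgroup fixed by a rotation meets each component non-trivially unless it is trivial. -/
theorem exists_mem_fst {X : Subgroup G} (ho : Odd (Nat.card X)) (hV : Vg z t ≤ normalizer (X : Set G))
    {g : G} (hg : IsRot g z t s) (hgX : g ∈ normalizer (X : Set G)) (hX : X ≠ ⊥) :
    ∃ y ∈ X, y ∈ Dg z ∧ y ≠ 1 := by
  by_contra h
  push Not at h
  have back : ∀ u w : G, g * u * g⁻¹ = w → (∀ y ∈ X, y ∈ Dg u → y = 1) → ∀ y ∈ X, y ∈ Dg w → y = 1 := by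
    intro u w e hu y hy hyw
    have h1 := hu (g⁻¹ * y * g) (by simpa using (mem_normalizer_iff.1 (inv_mem hgX) y).1 hy) (by
      have h2 := conj_Dg g⁻¹ w hyw
      rwa [conj_inv' e, inv_inv] at h2)
    rw [show y = g * (g⁻¹ * y * g) * g⁻¹ by group, h1]
    group
  have ht := back z t hg.1 h
  have hs := back t s hg.2.1 ht
  exact hX (le_bot_iff.1 (K.le_of_comps F ho hV (fun x hx => mem_bot.2 (h x hx.1 hx.2))
    (fun x hx => mem_bot.2 (ht x hx.1 hx.2)) (fun x hx => mem_bot.2 (hs x hx.1 hx.2))))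

theorem exists_central (h2 : r ≠ 2) (hne : Dr r z₀ ≠ ⊥) (hB : IsPGroup r (Pm r z t s)) :
    ∃ y ∈ Dg z, y ≠ 1 ∧ y ∈ Pm r z t s ∧ Pm r z t s ≤ centralizer {y} := by
  set P := Pm r z t s with hP
  haveI : Nontrivial P := by
    refine (nontrivial_iff_ne_bot P).2 fun e => K.Dr_ne_bot F.z2 hne (le_bot_iff.1 ?_)
    rw [← e]; exact le_sup_of_le_left le_sup_left
  haveI := hB.center_nontrivial
  obtain ⟨g, hg⟩ := K.exists_rot F
  have hX : P ⊓ centralizer (P : Set G) ≠ ⊥ := by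
    obtain ⟨c, hc⟩ := exists_ne (1 : center P)
    intro e
    refine hc (Subtype.ext (Subtype.ext ?_))
    have : ((c : P) : G) ∈ P ⊓ centralizer (P : Set G) :=
      ⟨(c : P).2, mem_centralizer_iff.2 fun x hx => congrArg Subtype.val (mem_center_iff.1 c.2 ⟨x, hx⟩)⟩
    rw [e, mem_bot] at this
    exact this
  obtain ⟨y, hy, hyz, hy1⟩ := K.exists_mem_fst F (odd_of_le (odd_of_isPGroup h2 hB) inf_le_left)
    ((K.le_normalizer_Pm F).trans (normalizer_le_centre P)) hg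
    (normalizer_le_centre P (K.normalizer_Pm F (IsRot.mem_normalizer F hg))) hX
  exact ⟨y, hyz, hy1, hy.1, fun x hx => mem_cent.2 (mem_centralizer_iff.1 hy.2 x hx)⟩

theorem Pm_indep (h2 : r ≠ 2) (hne : Dr r z₀ ≠ ⊥) (hB : IsPGroup r (Pm r z t s)) {t' s' : G}
    (F' : IsFour z t' s') {T : Subgroup G} (hT : IsPGroup 2 T) (hzT : z ∈ T) (htT : t ∈ T) (ht'T : t' ∈ T)
    (hTz : T ≤ centralizer ({z} : Set G)) :
    IsPGroup r (Pm r z t' s') ∧ Pm r z t' s' = Pm r z t s := by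
  haveI : Fact (Nat.Prime 2) := ⟨Nat.prime_two⟩
  obtain ⟨B, hBz⟩ := K.exists_hyp F.z2
  obtain ⟨y, hyz, hy1, hyP, hPy⟩ := K.exists_central F h2 hne hB
  set W := OC ({y} : Set G) with hW
  have hWo := K.odd_OC F.z2 hyz hy1
  have hTW : T ≤ normalizer (W : Set G) := fun x hx => normalizer_inv_le y x (by
    by_cases hxB : x ∈ B
    · exact Or.inl (conj_fix_iff.2 (hBz.comm y (hBz.Dg_le hyz) x hxB))
    · exact Or.inr (hBz.inverts (hTz hx) hxB (hBz.Dg_le hyz)))
  have hcop : (Nat.card T).Coprime (Nat.card W) := by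
    obtain ⟨n, hn⟩ := IsPGroup.iff_card.1 hT
    exact hn ▸ Nat.Coprime.pow_left n (Nat.coprime_two_left.2 hWo)
  obtain ⟨Q, hQ⟩ := Cfsg.Lib.Coprime.exists_invariant_sylow hTW hcop (Or.inr (solvable_of_odd hWo)) r
  set S := (Q : Subgroup W).map W.subtype with hS
  have hVT : Vg z t ≤ T := (closure_le _).2 (by rintro x (rfl | hx); exacts [hzT, Set.mem_singleton_iff.1 hx ▸ htT])
  have hV'T : Vg z t' ≤ T := (closure_le _).2 (by
    rintro x (rfl | hx); exacts [hzT, Set.mem_singleton_iff.1 hx ▸ ht'T])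
  obtain ⟨S₀, hS₀W, hS₀, -, -, hmax, -⟩ := K.exists_sylow F hWo (hVT.trans hTW) r
  have hSS₀ : S ≤ S₀ := hmax S (map_subtype_le _) (Q.2.map _) (hVT.trans hQ)
  have hS₀S : S₀ ≤ S := by
    intro x hx
    have h := Q.3 (hS₀.of_equiv (subgroupOfEquivOfLe hS₀W).symm) fun q hq => mem_subgroupOf.2 (hSS₀ ⟨q, hq, rfl⟩)
    exact ⟨⟨x, hS₀W hx⟩, h.le (mem_subgroupOf.2 hx), rfl⟩
  have hPS : Pm r z t s ≤ S :=
    (hmax _ (le_OC hPy (odd_of_isPGroup h2 hB)) hB (K.le_normalizer_Pm F)).trans hS₀S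
  have hzS : Dr r z ≤ S := (le_sup_of_le_left le_sup_left).trans hPS
  have hB' : IsPGroup r (Pm r z t' s') := K.big_of_two F' h2 ⟨Q.2.map _, hV'T.trans hQ⟩ hzS fun hle => by
    refine K.Dr_ne_bot F.t2 hne (le_bot_iff.1 fun x hx => mem_bot.2 ?_)
    have hxz := Dr_le_Dg r z (hle (hPS (mem_sup_left (mem_sup_right hx))))
    exact K.eq_one_of_four F ((K.mem_Dg F.z2).1 hxz).2 ((K.mem_Dg F.z2).1 hxz).1
      ((K.mem_Dg F.t2).1 (Dr_le_Dg r t hx)).1
  refine ⟨hB', (Cfsg.Lib.Coprime.eq_of_le_of_card_eq (hPS.trans (K.le_Pm F' h2 (Q.2.map _) (hV'T.trans hQ))) ?_).symm⟩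
  rw [K.card_Pm F h2 hB, K.card_Pm F' h2 hB']

/-- The two-group normalises the join. -/
theorem two_le_normalizer_Pm (h2 : r ≠ 2) (hne : Dr r z₀ ≠ ⊥) (hB : IsPGroup r (Pm r z t s)) {T : Subgroup G}
    (hT : IsPGroup 2 T) (hzT : z ∈ T) (htT : t ∈ T) (hTz : T ≤ centralizer ({z} : Set G)) :
    T ≤ normalizer (Pm r z t s : Set G) := by
  intro x hx
  have hxz : x * z * x⁻¹ = z := conj_fix_iff.2 (mem_cent.1 (hTz hx)).symm
  have ho : ∀ v, orderOf v = 2 → orderOf (x * v * x⁻¹) = 2 := fun v hv => by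
    rw [← MulAut.conj_apply, MulEquiv.orderOf_eq, hv]
  have F' : IsFour z (x * t * x⁻¹) (x * s * x⁻¹) :=
    ⟨F.z2, ho t F.t2, ho s F.s2,
      by nth_rewrite 1 [← hxz]; rw [conj_mul, F.zt],
      by nth_rewrite 1 [← hxz]; rw [conj_mul, F.tz]⟩
  obtain ⟨-, e⟩ := K.Pm_indep F h2 hne hB F' hT hzT htT (mul_mem (mul_mem hx htT) (inv_mem hx)) hTz
  refine Cfsg.Lib.Coprime.conjMap_eq_self_iff.1 (Cfsg.Lib.Coprime.eq_of_le_of_card_eq ?_
    (Cfsg.Lib.Coprime.card_conjMap _ _))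
  have key : ∀ v w, x * v * x⁻¹ = w → Cfsg.Lib.Coprime.conjMap x (Dr r v) ≤ Dr r w := by
    intro v w e y hy
    obtain ⟨a, ha, rfl⟩ := hy
    exact e ▸ conj_Dr r x v ha
  conv_rhs => rw [← e]
  simp only [Pm, Cfsg.Lib.Coprime.conjMap_sup]
  exact sup_le_sup (sup_le_sup (key z z hxz) (key t _ rfl)) (key s _ rfl)

end Core

end Cfsg.Lib.GenDihedral
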