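import Cfsg.Agent.GenDihedral.Primary

/-!
In the normaliser of an `r`-group containing a whole primary component, the invariant `r`-subgroups lie in one.
-/

set_option autoImplicit false
set_option linter.unusedSectionVars false
set_option linter.style.haveILetI false

namespace Cfsg.Lib.GenDihedral

open Subgroup

universe u

variable {G : Type u} [Group G] [Finite G]

/-- The odd core of a subgroup. -/
def ocore (N : Subgroup G) : Subgroup G := (Cfsg.pPrimeCore 2 N).map N.subtype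

theorem ocore_le (N : Subgroup G) : ocore N ≤ N := map_subtype_le _

theorem odd_ocore (N : Subgroup G) : Odd (Nat.card (ocore N)) := by
  rw [ocore, Subgroup.card_map_of_injective N.subtype_injective]
  exact Cfsg.Lib.ZStarApps.odd_card_pPrimeCore

theorem le_normalizer_ocore (N : Subgroup G) : N ≤ normalizer (ocore N : Set G) := by
  intro g hg
  refine Subgroup.le_normalizer_map N.subtype ⟨⟨g, hg⟩, ?_, rfl⟩
  haveI : (Cfsg.pPrimeCore 2 N).Normal := Cfsg.Lib.Components.pPrimeCore_normal' 2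
  rw [normalizer_eq_top]
  exact mem_top _

theorem le_ocore {N X : Subgroup G} (hXN : X ≤ N) (hn : N ≤ normalizer (X : Set G)) (ho : Odd (Nat.card X)) :
    X ≤ ocore N := by
  haveI : (X.subgroupOf N).Normal := normal_subgroupOf_of_le_normalizer hn
  intro x hx
  refine ⟨⟨x, hXN hx⟩, Cfsg.Lib.Components.le_pPrimeCore (N := X.subgroupOf N) ?_ hx, rfl⟩
  rw [Nat.card_congr (subgroupOfEquivOfLe hXN).toEquiv]
  exact Nat.coprime_two_right.2 ho

/-- The order of the part of the odd core centralised by `v`. -/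
noncomputable def oc (N : Subgroup G) (v : G) : ℕ := Nat.card (ocore N ⊓ Dg v : Subgroup G)

theorem oc_conj {N : Subgroup G} {g : G} (hg : g ∈ N) (v : G) : oc N (g * v * g⁻¹) = oc N v :=
  card_Dg_conj g v _ _ fun x => ((mem_normalizer_iff.1 (le_normalizer_ocore N hg)) x).symm

/-- `v` is isolated in `N`. -/
def Isol (N : Subgroup G) (v : G) : Prop :=
  ∀ g ∈ N, g * v * g⁻¹ * v = v * (g * v * g⁻¹) → g * v * g⁻¹ = v

namespace Core

variable {z₀ : G} {A : Subgroup G} (K : Core z₀ A) {z t s : G} (F : IsFour z t s) {N : Subgroup G}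
include K F

theorem card_ocore (hVN : Vg z t ≤ N) : Nat.card (ocore N) = oc N z * (oc N t * oc N s) :=
  K.card_comps F (odd_ocore N) (hVN.trans (le_normalizer_ocore N))

/-- A square root of `z` interchanges `t` and `s`. -/
theorem oc_eq_of_root {a : G} (ha : a ∈ N) (haz : a * a = z) : oc N s = oc N t := by
  obtain ⟨B, hB⟩ := K.exists_hyp F.z2
  have haC : a ∈ centralizer ({z} : Set G) := mem_cent.2 (by rw [← haz, mul_assoc])
  have haB : a ∈ B := by
    by_contra h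
    have h1 := hB.out a haC h
    rw [haz] at h1
    exact absurd F.z2 (by rw [h1, orderOf_one]; omega)
  have h := hB.inverts (mem_cent.2 F.comm.symm) (hB.not_mem_A F.t2 F.ne_zt.symm) haB
  have e : a * t * a⁻¹ = s := by
    rw [← h, show a * t * (t * a * t⁻¹) = a * (t * t) * a * t⁻¹ by group, mul_self_of_two F.t2, mul_one, haz,
      inv_of_two F.t2, F.zt]
  rw [← e, oc_conj ha]

theorem oc_eq_of_root_all (hVN : Vg z t ≤ N) (hns : ¬ Isol N z) {a : G} (ha : a ∈ N) (haz : a * a = z) :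
    oc N t = oc N z ∧ oc N s = oc N z := by
  have h1 := K.oc_eq_of_root F ha haz
  unfold Isol at hns
  push Not at hns
  obtain ⟨g, hg, F', hV'⟩ := K.exists_other F (hVN (F.mem_iff.2 (Or.inr (Or.inl rfl)))) hns
  have h2 := K.oc_eq_of_root F' ha haz
  rw [oc_conj hg] at h2
  have e1 := K.card_ocore F hVN
  rw [K.card_ocore F' hV', oc_conj hg, h2, h1] at e1
  have h3 : oc N t = oc N z := (Nat.mul_self_inj.1 (Nat.eq_of_mul_eq_mul_left Nat.card_pos e1)).symm
  exact ⟨h3, h1.trans h3⟩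

/-- A two-group centralising `z` without a square root of `z`. -/
theorem two_group_le {T : Subgroup G} (hT : IsPGroup 2 T) (htT : t ∈ T) (hTz : T ≤ centralizer ({z} : Set G))
    (hno : ∀ a ∈ T, a * a ≠ z) : T ≤ Vg z t := by
  obtain ⟨B, hB⟩ := K.exists_hyp F.z2
  have key : ∀ x ∈ T, x ∈ B → x = 1 ∨ x = z := by
    intro x hx hxB
    obtain ⟨k, hk⟩ := IsPGroup.iff_orderOf.1 hT ⟨x, hx⟩
    rw [Subgroup.orderOf_mk] at hk
    rcases Nat.lt_or_ge k 2 with h | h
    · interval_cases k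
      · exact Or.inl (orderOf_eq_one_iff.1 (by simpa using hk))
      · exact Or.inr (hB.uniq x hxB (by simpa using hk))
    · exfalso
      refine hno (x ^ 2 ^ (k - 2)) (pow_mem hx _) ?_
      rw [← pow_add, ← two_mul, ← pow_succ']
      refine hB.uniq _ (pow_mem hxB _) ?_
      rw [orderOf_pow' x (by positivity), hk, Nat.gcd_eq_right (Nat.pow_dvd_pow 2 (by omega)),
        Nat.pow_div (by omega) two_pos, show k - (k - 2 + 1) = 1 by omega, pow_one]
  intro x hx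
  by_cases hxB : x ∈ B
  · rcases key x hx hxB with h | h
    · exact F.mem_iff.2 (Or.inl h)
    · exact F.mem_iff.2 (Or.inr (Or.inl h))
  · have hxt : x * t ∈ B := hB.mul_mem_A (hTz hx) (mem_cent.2 F.comm.symm) hxB (hB.not_mem_A F.t2 F.ne_zt.symm)
    rcases key _ (mul_mem hx htT) hxt with h | h
    · exact F.mem_iff.2 (Or.inr (Or.inr (Or.inl (by rw [eq_inv_of_mul_eq_one_left h, inv_of_two F.t2]))))
    · exact F.mem_iff.2 (Or.inr (Or.inr (Or.inr (by rw [← F.zt, ← h, mul_assoc, mul_self_of_two F.t2, mul_one]))))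

/-- Without square roots the four-group is a whole Sylow subgroup. -/
theorem four_maximal (hno : ∀ a ∈ N, a * a ≠ z ∧ a * a ≠ t ∧ a * a ≠ s) {T : Subgroup G} (hT : IsPGroup 2 T)
    (hVT : Vg z t ≤ T) (hTN : T ≤ N) : T ≤ Vg z t := by
  haveI : Fact (Nat.Prime 2) := ⟨Nat.prime_two⟩
  have hzT : z ∈ T := hVT (F.mem_iff.2 (Or.inr (Or.inl rfl)))
  have htT : t ∈ T := hVT (F.mem_iff.2 (Or.inr (Or.inr (Or.inl rfl))))
  have hsT : s ∈ T := hVT (F.mem_iff.2 (Or.inr (Or.inr (Or.inr rfl))))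
  haveI : Nontrivial T := ⟨⟨⟨z, hzT⟩, 1, fun e => by
    have := congrArg Subtype.val e
    simp only [OneMemClass.coe_one] at this
    exact absurd (this ▸ F.z2) (by simp)⟩⟩
  haveI := hT.center_nontrivial
  obtain ⟨w, hw⟩ := exists_prime_orderOf_dvd_card' (G := center T) 2 (by
    rcases (hT.to_subgroup (center T)).card_eq_or_dvd with h | h
    · exact absurd h Finite.one_lt_card.ne'
    · exact h)
  have hw2 : orderOf ((w : T) : G) = 2 := by rw [orderOf_coe, orderOf_coe, hw]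
  have hwc : ∀ x ∈ T, x * ((w : T) : G) = (w : T) * x := fun x hx =>
    congrArg Subtype.val (mem_center_iff.1 w.2 ⟨x, hx⟩)
  obtain ⟨B, hB⟩ := K.exists_hyp F.z2
  have hcases := hB.cent_four F.t2 F.ne_zt.symm F.comm.symm (hwc z hzT).symm (hwc t htT).symm
  have hTc : T ≤ centralizer ({((w : T) : G)} : Set G) := fun x hx => mem_cent.2 (hwc x hx)
  rcases hcases with h | h | h | h
  · rw [h, orderOf_one] at hw2; omega
  · exact K.two_group_le F hT htT (h ▸ hTc) fun a ha => (hno a (hTN ha)).1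
  · rw [← F.rot_Vg]
    exact K.two_group_le F.rot hT hsT (h ▸ hTc) fun a ha => (hno a (hTN ha)).2.1
  · rw [← F.rot_Vg, ← F.rot.rot_Vg]
    rw [F.zt] at h
    exact K.two_group_le F.rot.rot hT hzT (h ▸ hTc) fun a ha => (hno a (hTN ha)).2.2

theorem oc_eq_other (hVN : Vg z t ≤ N) (hno : ∀ a ∈ N, a * a ≠ z ∧ a * a ≠ t ∧ a * a ≠ s)
    (hns : ¬ Isol N z) : oc N t = oc N z ∨ oc N s = oc N z := by
  haveI : Fact (Nat.Prime 2) := ⟨Nat.prime_two⟩
  have hzN : z ∈ N := hVN (F.mem_iff.2 (Or.inr (Or.inl rfl)))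
  unfold Isol at hns
  push Not at hns
  obtain ⟨g, hg, F', hV'⟩ := K.exists_other F hzN hns
  obtain ⟨P, hP⟩ := (F.isPGroup.of_equiv (subgroupOfEquivOfLe hVN).symm).exists_le_sylow
  obtain ⟨Q, hQ⟩ := (F'.isPGroup.of_equiv (subgroupOfEquivOfLe hV').symm).exists_le_sylow
  obtain ⟨h, hh⟩ := MulAction.exists_smul_eq N Q P
  have hPV : (P : Subgroup N).map N.subtype ≤ Vg z t :=
    K.four_maximal F hno (P.2.map _) (fun x hx => ⟨⟨x, hVN hx⟩, hP hx, rfl⟩) (map_subtype_le _)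
  have hmem : ∀ x ∈ Vg z (g * z * g⁻¹), (h : G) * x * (h : G)⁻¹ ∈ Vg z t := by
    intro x hx
    refine hPV ⟨h * ⟨x, hV' hx⟩ * h⁻¹, ?_, rfl⟩
    rw [← hh]
    exact Subgroup.mem_pointwise_smul_iff_inv_smul_mem.2 (by simpa [MulAut.smul_def, mul_assoc] using hQ hx)
  have hne1 : ∀ x : G, orderOf x = 2 → (h : G) * x * (h : G)⁻¹ ≠ 1 := fun x hx e => by
    rw [conj_eq_one_iff.1 e, orderOf_one] at hx; omega
  have h1 := hmem z (F'.mem_iff.2 (Or.inr (Or.inl rfl)))
  have h2 := hmem _ (F'.mem_iff.2 (Or.inr (Or.inr (Or.inl rfl))))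
  have o1 : oc N ((h : G) * z * (h : G)⁻¹) = oc N z := oc_conj h.2 z
  have o2 : oc N ((h : G) * (g * z * g⁻¹) * (h : G)⁻¹) = oc N z := (oc_conj h.2 _).trans (oc_conj hg z)
  rcases F.mem_iff.1 h1 with e | e | e | e
  · exact absurd e (hne1 z F.z2)
  · rcases F.mem_iff.1 h2 with e' | e' | e' | e'
    · exact absurd e' (hne1 _ F'.t2)
    · have := e.trans e'.symm
      exact absurd (by simpa using this) F'.ne_zt
    · exact Or.inl (e' ▸ o2)
    · exact Or.inr (e' ▸ o2)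
  · exact Or.inl (e ▸ o1)
  · exact Or.inr (e ▸ o1)

/-- Without isolated involutions the three orders agree. -/
theorem oc_eq (hVN : Vg z t ≤ N) (hz : ¬ Isol N z) (ht : ¬ Isol N t) (hs : ¬ Isol N s) :
    oc N t = oc N z ∧ oc N s = oc N z := by
  have hVN1 : Vg t s ≤ N := F.rot_Vg.trans_le hVN
  have hVN2 : Vg s z ≤ N := F.rot.rot_Vg.trans_le hVN1
  by_cases hr : ∃ a ∈ N, a * a = z ∨ a * a = t ∨ a * a = s
  · obtain ⟨a, ha, h | h | h⟩ := hr
    · exact K.oc_eq_of_root_all F hVN hz ha h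
    · obtain ⟨h1, h2⟩ := K.oc_eq_of_root_all F.rot hVN1 ht ha h
      exact ⟨h2.symm, h1.trans h2.symm⟩
    · obtain ⟨h1, h2⟩ := K.oc_eq_of_root_all F.rot.rot hVN2 hs ha h
      exact ⟨h2.trans h1.symm, h1.symm⟩
  · push Not at hr
    have a := K.oc_eq_other F hVN hr hz
    have b := K.oc_eq_other F.rot hVN1 (fun x hx => ⟨(hr x hx).2.1, (hr x hx).2.2, (hr x hx).1⟩) ht
    have c := K.oc_eq_other F.rot.rot hVN2 (fun x hx => ⟨(hr x hx).2.2, (hr x hx).1, (hr x hx).2.1⟩) hs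
    omega

/-- An isolated involution. -/
theorem comps_of_isol (hVN : Vg z t ≤ N) (hz : Isol N z) :
    N ⊓ Dg t ≤ ocore N ∧ N ⊓ Dg s ≤ ocore N := by
  have hzN : z ∈ N := hVN (F.mem_iff.2 (Or.inr (Or.inl rfl)))
  have hiso : Cfsg.IsIsolatedInvolution (⟨z, hzN⟩ : N) :=
    ⟨(Subgroup.orderOf_mk z hzN).trans F.z2,
      fun g hc => Subtype.ext (hz g g.2 (congrArg Subtype.val hc.eq).symm)⟩
  have key : ∀ x ∈ N, z * x * z⁻¹ = x⁻¹ → Odd (orderOf x) → x ∈ ocore N := by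
    intro x hx hinv ho
    have h := Cfsg.Lib.ZStarApps.zstarProp hiso ⟨x, hx⟩
    refine mem_of_sq ho (inv_mem_iff.1 ⟨_, h, ?_⟩)
    show z * x * z⁻¹ * x⁻¹ = (x * x)⁻¹
    rw [hinv, mul_inv_rev]
  refine ⟨fun x hx => key x hx.1 (K.inv_snd F.rot hx.2) ((K.mem_Dg F.t2).1 hx.2).2,
    fun x hx => key x hx.1 (K.inv_fst F.rot.rot hx.2) ((K.mem_Dg F.s2).1 hx.2).2⟩

theorem odd_W (hVN : Vg z t ≤ N) : Odd (Nat.card (ocore N ⊔ (N ⊓ Dg z) : Subgroup G)) ∧
    Vg z t ≤ normalizer ((ocore N ⊔ (N ⊓ Dg z) : Subgroup G) : Set G) := by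
  refine ⟨?_, Cfsg.Lib.Coprime.le_normalizer_sup (hVN.trans (le_normalizer_ocore N))
    (Cfsg.Lib.Coprime.le_normalizer_inf (hVN.trans le_normalizer) ?_)⟩
  · have h := Cfsg.Lib.Coprime.card_sup_mul_card_inf
      (inf_le_left.trans (le_normalizer_ocore N) : N ⊓ Dg z ≤ normalizer (ocore N : Set G))
    exact ((odd_ocore N).mul (odd_of_le (K.odd_Dg F.z2) inf_le_right)).of_dvd_nat (Dvd.intro _ h)
  · refine F.le_normalizer_iff.2 ⟨mem_normalizer_closure fun x hx => ?_, mem_normalizer_closure fun x hx => ?_⟩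
    · rw [conj_fix_iff.2 hx.1]; exact subset_closure hx
    · rw [K.inv_fst F (subset_closure hx)]; exact inv_mem (subset_closure hx)

/-- In the normaliser of an `r`-group containing `Dr r z` the invariant `r`-subgroups lie in a common one. -/
theorem exists_common {r : ℕ} [Fact r.Prime] (h2 : r ≠ 2) (hVN : Vg z t ≤ N) {I : Subgroup G} (hIN : I ≤ N)
    (hNI : N ≤ normalizer (I : Set G)) (hI : IsPGroup r I) (hzI : Dr r z ≤ I) :
    ∃ S : Subgroup G, IsPGroup r S ∧ Vg z t ≤ normalizer (S : Set G) ∧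
      ∀ R : Subgroup G, R ≤ N → IsPGroup r R → Vg z t ≤ normalizer (R : Set G) → R ≤ S := by
  suffices h : ∃ W : Subgroup G, Odd (Nat.card W) ∧ Vg z t ≤ normalizer (W : Set G) ∧
      N ⊓ Dr r z ≤ W ∧ N ⊓ Dr r t ≤ W ∧ N ⊓ Dr r s ≤ W by
    obtain ⟨W, hWo, hWV, h1, h2', h3⟩ := h
    obtain ⟨S, -, hS, hSV, -, hmax, -⟩ := K.exists_sylow F hWo hWV r
    refine ⟨S, hS, hSV, fun R hRN hR hRV => hmax R (K.le_of_comps F (odd_of_isPGroup h2 hR) hRV ?_ ?_ ?_) hR hRV⟩
    · exact fun x hx => h1 ⟨hRN hx.1, mem_Dr_of hR hx.1 hx.2⟩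
    · exact fun x hx => h2' ⟨hRN hx.1, mem_Dr_of hR hx.1 hx.2⟩
    · exact fun x hx => h3 ⟨hRN hx.1, mem_Dr_of hR hx.1 hx.2⟩
  have hVN1 : Vg t s ≤ N := F.rot_Vg.trans_le hVN
  have hVN2 : Vg s z ≤ N := F.rot.rot_Vg.trans_le hVN1
  by_cases hz : Isol N z
  · obtain ⟨a, b⟩ := K.comps_of_isol F hVN hz
    obtain ⟨c, d⟩ := K.odd_W F hVN
    exact ⟨_, c, d, le_sup_of_le_right (inf_le_inf_left _ (Dr_le_Dg r z)),
      le_sup_of_le_left ((inf_le_inf_left _ (Dr_le_Dg r t)).trans a),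
      le_sup_of_le_left ((inf_le_inf_left _ (Dr_le_Dg r s)).trans b)⟩
  by_cases ht : Isol N t
  · obtain ⟨a, b⟩ := K.comps_of_isol F.rot hVN1 ht
    obtain ⟨c, d⟩ := K.odd_W F.rot hVN1
    rw [F.rot_Vg] at d
    exact ⟨_, c, d, le_sup_of_le_left ((inf_le_inf_left _ (Dr_le_Dg r z)).trans b),
      le_sup_of_le_right (inf_le_inf_left _ (Dr_le_Dg r t)),
      le_sup_of_le_left ((inf_le_inf_left _ (Dr_le_Dg r s)).trans a)⟩
  by_cases hs : Isol N s
  · obtain ⟨a, b⟩ := K.comps_of_isol F.rot.rot hVN2 hs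
    obtain ⟨c, d⟩ := K.odd_W F.rot.rot hVN2
    rw [F.rot.rot_Vg, F.rot_Vg] at d
    exact ⟨_, c, d, le_sup_of_le_left ((inf_le_inf_left _ (Dr_le_Dg r z)).trans a),
      le_sup_of_le_left ((inf_le_inf_left _ (Dr_le_Dg r t)).trans b),
      le_sup_of_le_right (inf_le_inf_left _ (Dr_le_Dg r s))⟩
  obtain ⟨et, es⟩ := K.oc_eq F hVN hz ht hs
  have hIO : I ≤ ocore N := le_ocore hIN hNI (odd_of_isPGroup h2 hI)
  have hdvd : Nat.card (Dr r z) ∣ oc N z := card_dvd_of_le (le_inf (hzI.trans hIO) (Dr_le_Dg r z))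
  have hcard : ∀ v, orderOf v = 2 → Nat.card (Dr r v) = Nat.card (Dr r z₀) := fun v hv => by
    obtain ⟨g, rfl⟩ := K.one_class hv
    exact card_Dr_conj r g z₀
  have hle : ∀ v, orderOf v = 2 → oc N v = oc N z → Dr r v ≤ ocore N := fun v hv he =>
    (K.Dr_le_of_card hv inf_le_right (by
      show Nat.card (Dr r v) ∣ oc N v
      rw [hcard v hv, he, ← hcard z F.z2]; exact hdvd)).trans inf_le_left
  exact ⟨ocore N, odd_ocore N, hVN.trans (le_normalizer_ocore N), inf_le_right.trans (hle z F.z2 rfl),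
    inf_le_right.trans (hle t F.t2 et), inf_le_right.trans (hle s F.s2 es)⟩

end Core

end Cfsg.Lib.GenDihedral
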