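import Cfsg.Agent.GenDihedral.Fours

/-!
A solvable group of odd order with a four-group acting without fixed points has nilpotent derived subgroup.
-/

set_option autoImplicit false
set_option linter.unusedSectionVars false
set_option linter.style.haveILetI false

namespace Cfsg.Lib.GenDihedral

open Subgroup

universe u v

variable {H : Type u} [Group H] [Finite H]

/-- An elementary abelian normal subgroup, invariant under and minimal for two automorphisms. -/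
theorem exists_minimal_two [Nontrivial H] [Group.IsSolvable H] (t t' : MulAut H) :
    ∃ (A : Subgroup H) (q : ℕ), q.Prime ∧ A ≠ ⊥ ∧ A.Normal ∧
      (∀ a ∈ A, t a ∈ A) ∧ (∀ a ∈ A, t' a ∈ A) ∧ (∀ a ∈ A, ∀ b ∈ A, a * b = b * a) ∧ (∀ a ∈ A, a ^ q = 1) ∧
      (∀ B : Subgroup H, B ≤ A → B ≠ ⊥ → B.Normal → (∀ b ∈ B, t b ∈ B) → (∀ b ∈ B, t' b ∈ B) → B = A) := by
  obtain ⟨A, hA, ⟨hAn, hAt, hAt'⟩, hmin⟩ := Cfsg.Lib.FpfFour.exists_minimal_sub
    (fun A : Subgroup H => A.Normal ∧ (∀ a ∈ A, t a ∈ A) ∧ ∀ a ∈ A, t' a ∈ A)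
    ⟨inferInstance, fun a _ => mem_top _, fun a _ => mem_top _⟩
  haveI := hAn
  have hab : ∀ a ∈ A, ∀ b ∈ A, a * b = b * a := by
    have hbot : ⁅A, A⁆ = ⊥ := by
      by_contra hne
      have hle : ⁅A, A⁆ ≤ A := commutator_le_self A
      have hmap : ∀ t : MulAut H, (∀ a ∈ A, t a ∈ A) → ∀ x ∈ ⁅A, A⁆, t x ∈ ⁅A, A⁆ := fun t hAt x hx => by
        have h1 : (⁅A, A⁆).map t.toMonoidHom ≤ ⁅A, A⁆ := by
          rw [map_commutator]
          exact commutator_mono (map_le_iff_le_comap.mpr hAt) (map_le_iff_le_comap.mpr hAt)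
        exact h1 ⟨x, hx, rfl⟩
      have heq : ⁅A, A⁆ = A := hmin _ hle hne ⟨inferInstance, hmap t hAt, hmap t' hAt'⟩
      haveI : Group.IsSolvable A := inferInstance
      obtain ⟨n, hn⟩ := Group.IsSolvable.solvable (G := A)
      have : ∀ m, (derivedSeries A m).map A.subtype = A := fun m => by
        induction m with
        | zero => rw [derivedSeries_zero, ← MonoidHom.range_eq_map, range_subtype]
        | succ m ih => rw [derivedSeries_succ, map_commutator, ih, heq]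
      exact hA (by rw [← this n, hn, Subgroup.map_bot])
    intro a ha b hb
    exact commutatorElement_eq_one_iff_mul_comm.mp
      (mem_bot.mp (hbot ▸ commutator_mem_commutator ha hb))
  obtain ⟨q, hq, hqd⟩ := Nat.exists_prime_and_dvd ((one_lt_card_iff_ne_bot A).mpr hA).ne'
  haveI := Fact.mk hq
  obtain ⟨a, ha⟩ := exists_prime_orderOf_dvd_card' (G := A) q hqd
  let B : Subgroup H :=
    { carrier := {x | x ∈ A ∧ x ^ q = 1}
      one_mem' := ⟨one_mem A, one_pow q⟩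
      mul_mem' := fun {x y} hx hy => ⟨mul_mem hx.1 hy.1, by
        rw [(show Commute x y from hab x hx.1 y hy.1).mul_pow, hx.2, hy.2, one_mul]⟩
      inv_mem' := fun {x} hx => ⟨inv_mem hx.1, by rw [inv_pow, hx.2, inv_one]⟩ }
  have hBA : B = A := hmin B (fun x hx => hx.1)
    (fun hB => by
      have : (a : H) ∈ B := ⟨a.2, by rw [← ha, ← Subgroup.orderOf_coe, pow_orderOf_eq_one]⟩
      rw [hB, mem_bot, OneMemClass.coe_eq_one] at this
      exact hq.one_lt.ne (by rw [← ha, this, orderOf_one]))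
    ⟨⟨fun x hx g => ⟨hAn.conj_mem x hx.1 g, by rw [conj_pow, hx.2, mul_one, mul_inv_cancel]⟩⟩,
      fun x hx => ⟨hAt x hx.1, by rw [← map_pow, hx.2, map_one]⟩,
      fun x hx => ⟨hAt' x hx.1, by rw [← map_pow, hx.2, map_one]⟩⟩
  exact ⟨A, q, hq, hA, hAn, hAt, hAt', hab, fun x hx => (hBA.ge hx).2,
    fun C h1 h2 h3 h4 h5 => hmin C h1 h2 ⟨h3, h4, h5⟩⟩

theorem odd_fix {V : Type v} (f : V → V) {v : V} (h : f (f v) = v) {n : ℕ} (hn : Odd n) (hf : f^[n] v = v) :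
    f v = v := by
  obtain ⟨k, rfl⟩ := hn
  have h2 : ∀ j, f^[2 * j] v = v := by
    intro j
    induction j with
    | zero => rfl
    | succ j ih => rw [show 2 * (j + 1) = 2 + 2 * j by ring, Function.iterate_add_apply, ih]; exact h
  rwa [show 2 * k + 1 = 1 + 2 * k by ring, Function.iterate_add_apply, h2, Function.iterate_one] at hf

theorem act_pow {V : Type v} [Group V] (ρ : H →* MulAut V) (a : H) (n : ℕ) (v : V) :
    ρ (a ^ n) v = (⇑(ρ a))^[n] v := by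
  induction n with
  | zero => simp
  | succ n ih => rw [pow_succ', map_mul, MulAut.mul_apply, ih, Function.iterate_succ_apply']

/-- An element whose square fixes `v` fixes it, in odd order. -/
theorem fix_of_sq {V : Type v} [Group V] (ρ : H →* MulAut V) (ho : Odd (Nat.card H)) {a : H} {v : V}
    (h : ρ (a * a) v = v) : ρ a v = v := by
  refine odd_fix (⇑(ρ a)) ?_ (odd_orderOf ho a) ?_
  · rwa [← MulAut.mul_apply, ← map_mul]
  · rw [← act_pow, pow_orderOf_eq_one, map_one, MulAut.one_apply]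

/-- What the elements of `A` fixed by `t` or `t'` fix. -/
def MFix {V : Type v} [CommGroup V] (ρ : H →* MulAut V) (A : Subgroup H) (t t' : MulAut H) : Subgroup V where
  carrier := {v | ∀ a ∈ A, t a = a ∨ t' a = a → ρ a v = v}
  one_mem' := fun a _ _ => map_one _
  mul_mem' := fun {v w} hv hw a ha ht => by rw [map_mul, hv a ha ht, hw a ha ht]
  inv_mem' := fun {v} hv a ha ht => by rw [map_inv, hv a ha ht]

namespace FoursAct

variable {t₁ t₂ t₃ : MulAut H} {V : Type v} [CommGroup V] [Finite V] {ρ : H →* MulAut V}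
  {s₁ s₂ s₃ : MulAut V} (X : FoursAct ρ t₁ t₂ t₃ s₁ s₂ s₃)
include X

section

variable (A : Subgroup H) (hAn : A.Normal) (hA1 : ∀ a ∈ A, t₁ a ∈ A) (hA2 : ∀ a ∈ A, t₂ a ∈ A)
  (hab : ∀ a ∈ A, ∀ b ∈ A, a * b = b * a)
include hAn hA1 hA2 hab

/-- An element of `A` inverted by `t₂` centralises the commutators with one fixed by `t₂`. -/
theorem fix_comm {a b : H} (ha : a ∈ A) (hat : t₂ a = a) (hb : b ∈ A) (hbt : t₂ b = b⁻¹) (v : V) :
    ρ b (v⁻¹ * ρ a v) = v⁻¹ * ρ a v := by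
  have hinv : ∀ u : V, s₂ (u⁻¹ * ρ a u) = (u⁻¹ * ρ a u)⁻¹ := fun u => by
    have h := X.rot.fix_fix hat (v := u * s₂ u) (by rw [map_mul, X.onV.i₂, mul_comm])
    rw [map_mul] at h
    rw [map_mul, map_inv, X.c₂, hat, eq_inv_iff_mul_eq_one,
      show (s₂ u)⁻¹ * ρ a (s₂ u) * (u⁻¹ * ρ a u) = (u * s₂ u)⁻¹ * (ρ a u * ρ a (s₂ u)) by
        rw [mul_inv_rev]; ac_rfl, h, inv_mul_cancel]
  have e1 : ρ b (v⁻¹ * ρ a v) = (ρ b v)⁻¹ * ρ a (ρ b v) := by
    rw [map_mul, map_inv, ← MulAut.mul_apply, ← map_mul, hab b hb a ha, map_mul ρ, MulAut.mul_apply]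
  set w := v⁻¹ * ρ a v with hw
  have h1 : s₂ (ρ b w) = (ρ b w)⁻¹ := by rw [e1]; exact hinv (ρ b v)
  rw [X.c₂, hbt, hinv v, ← hw, map_inv (ρ b⁻¹), inv_inj] at h1
  refine fix_of_sq ρ X.onH.odd ?_
  rw [map_mul ρ, MulAut.mul_apply]
  nth_rewrite 1 [← h1]
  rw [← MulAut.mul_apply, ← map_mul, mul_inv_cancel, map_one, MulAut.one_apply]

omit hAn hA1 hA2 hab in
theorem mfix_invariant₂ (hA2 : ∀ a ∈ A, t₂ a ∈ A) : ∀ w ∈ MFix ρ A t₁ t₃, s₂ w ∈ MFix ρ A t₁ t₃ := by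
  intro w hw a ha ht
  have := X.c₂ (t₂ a) w
  rw [hw (t₂ a) (hA2 a ha) ?_, X.onH.i₂] at this
  · exact this.symm
  · refine ht.imp (fun e => ?_) fun e => ?_
    · rw [X.onH.m₁₂, ← X.onH.m₂₁, e]
    · rw [X.onH.rot.m₂₁, ← X.onH.rot.m₁₂, e]

omit hAn hab in
theorem mfix_invariant₁ : ∀ w ∈ MFix ρ A t₁ t₃, s₁ w ∈ MFix ρ A t₁ t₃ := by
  intro w hw a ha ht
  have := X.c₁ (t₁ a) w
  rw [hw (t₁ a) (hA1 a ha) ?_, X.onH.i₁] at this
  · exact this.symm
  · refine ht.imp (fun e => by rw [e, e]) fun e => ?_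
    rw [X.onH.rot.rot.m₁₂, ← X.onH.rot.rot.m₂₁, e]

theorem mfix_step {p : ℕ} [hp : Fact p.Prime] (hVp : IsPGroup p V) {q : ℕ} (hq : q.Prime) (hqp : q ≠ p)
    (hAq : ∀ a ∈ A, a ^ q = 1) {k : H} (hk : t₁ k = k) {v : V} (hv : v ∈ MFix ρ A t₁ t₃) :
    ρ k v ∈ MFix ρ A t₁ t₃ := by
  set M := MFix ρ A t₁ t₃
  intro b hb ht
  have hcm : k⁻¹ * b * k ∈ A := by simpa using hAn.conj_mem b hb k⁻¹
  suffices h : ρ (k⁻¹ * b * k) v = v by
    have := congrArg (ρ k) h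
    rw [← MulAut.mul_apply, ← map_mul, show k * (k⁻¹ * b * k) = b * k by group, map_mul, MulAut.mul_apply] at this
    exact this
  rcases ht with ht | ht
  · exact hv _ hcm (Or.inl (by rw [map_mul, map_mul, map_inv, hk, ht]))
  obtain ⟨a₁, a₂, a₃, h1, h2, h3, e, hS⟩ := X.onH.exists_abc' (k⁻¹ * b * k)
  obtain ⟨m1, m2, m3⟩ := hS A hA1 hA2 hcm
  have ha1 : a₁ = 1 := by
    have hbi : t₁ (k⁻¹ * b * k) = (k⁻¹ * b * k)⁻¹ := by
      rw [map_mul, map_mul, map_inv, hk, X.onH.rot.rot.inv₂ ht]; group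
    rw [e, map_mul, h1, X.onH.t₁_bcb h2 h3, hab a₁ m1 _ (A.inv_mem (A.mul_mem (A.mul_mem m2 m3) m2)),
      mul_inv_rev a₁, mul_right_inj] at hbi
    exact sq_inj X.onH.odd (by nth_rewrite 2 [hbi]; rw [mul_inv_cancel, one_mul])
  rw [ha1, one_mul] at e
  -- the fixed part of `M`
  have hone : ∀ u ∈ M, s₁ u = u → ρ a₂ u = u := by
    intro u hu hs
    have h := X.fix_fix hk hs
    have h' : ρ k⁻¹ u = u := X.fix_fix (by rw [map_inv, hk]) hs
    have hbu : ρ (k⁻¹ * b * k) u = u := by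
      rw [map_mul ρ, map_mul ρ, MulAut.mul_apply, MulAut.mul_apply, h, hu b hb (Or.inr ht), h']
    rw [e, hab a₂ m2 a₃ m3, mul_assoc, map_mul ρ, MulAut.mul_apply] at hbu
    refine fix_of_sq ρ X.onH.odd ?_
    have h3u : ρ a₃ u = u := hu a₃ m3 (Or.inr h3)
    exact (ρ a₃).injective (hbu.trans h3u.symm)
  have hallM : ∀ u ∈ M, ρ a₂ u = u := by
    intro u hu
    set u₁ := rt (u * s₁ u) with hu₁
    have hu₁M : u₁ ∈ M := pow_mem (M.mul_mem hu (mfix_invariant₁ X A hA1 hA2 u hu)) _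
    have hu₁s : s₁ u₁ = u₁ := by rw [hu₁, map_rt, map_mul, X.onV.i₁, mul_comm]
    have hsq : u₁ * u₁ = u * s₁ u := rt_mul_rt X.onV.odd _
    set u₃ := rt (u * (s₁ u)⁻¹) with hu₃
    have hu₃M : u₃ ∈ M := pow_mem (M.mul_mem hu (M.inv_mem (mfix_invariant₁ X A hA1 hA2 u hu))) _
    have hu₃s : s₁ u₃ = u₃⁻¹ := by
      rw [hu₃, map_rt, map_mul, map_inv, X.onV.i₁, ← rt_inv, mul_inv_rev, inv_inv]
    have hsq3 : u₃ * u₃ = u * (s₁ u)⁻¹ := rt_mul_rt X.onV.odd _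
    -- the commutator is fixed
    have hd : s₁ (ρ a₂ u₃ * (ρ a₂⁻¹ u₃)⁻¹) = ρ a₂ u₃ * (ρ a₂⁻¹ u₃)⁻¹ := by
      rw [map_mul s₁, map_inv s₁, X.c₁, X.c₁, map_inv t₁, X.onH.swap.inv₂ h2, inv_inv, hu₃s,
        map_inv (ρ a₂⁻¹), map_inv (ρ a₂), inv_inv, mul_comm]
    have hmemM : ∀ c ∈ A, ∀ w ∈ M, ρ c w ∈ M := fun c hc w hw d hd ht => by
      rw [← MulAut.mul_apply, ← map_mul, hab d hd c hc, map_mul, MulAut.mul_apply, hw d hd ht]
    have hfx := hone _ (M.mul_mem (hmemM a₂ m2 _ hu₃M) (M.inv_mem (hmemM _ (A.inv_mem m2) _ hu₃M))) hd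
    set d := ρ a₂ u₃ * (ρ a₂⁻¹ u₃)⁻¹
    have hstep : ρ (a₂ * a₂) u₃ = u₃ * d := by
      have h0 : ρ a₂ u₃ = ρ a₂⁻¹ u₃ * d := by rw [mul_comm _ d]; exact (inv_mul_cancel_right _ _).symm
      rw [map_mul, MulAut.mul_apply, h0, map_mul, hfx, ← MulAut.mul_apply, ← map_mul, mul_inv_cancel, map_one,
        MulAut.one_apply]
    have hn : ∀ n : ℕ, ρ ((a₂ * a₂) ^ n) u₃ = u₃ * d ^ n := by
      intro n
      induction n with
      | zero => simp
      | succ n ih =>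
        rw [pow_succ', map_mul, MulAut.mul_apply, ih, map_mul, map_pow, hstep, map_mul ρ, MulAut.mul_apply, hfx,
          hfx, pow_succ', mul_assoc]
    have hdq : d ^ q = 1 := by
      have h4 := hn q
      rw [← pow_two, ← pow_mul, mul_comm, pow_mul, hAq a₂ m2, one_pow, map_one, MulAut.one_apply] at h4
      exact left_eq_mul.1 h4
    have hd1 : d = 1 := by
      obtain ⟨k, hk⟩ := hVp d
      exact orderOf_eq_one_iff.1 (Nat.eq_one_of_dvd_coprimes
        (Nat.Coprime.pow_left k ((Nat.coprime_primes hp.out hq).2 (Ne.symm hqp)))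
        (orderOf_dvd_of_pow_eq_one hk) (orderOf_dvd_of_pow_eq_one hdq))
    have h3f : ρ a₂ u₃ = u₃ := fix_of_sq ρ X.onH.odd (by rw [hstep, hd1, mul_one])
    refine sq_inj X.onV.odd ?_
    have hu2 : u * u = (u₁ * u₁) * (u₃ * u₃) := by rw [hsq, hsq3, mul_mul_mul_comm, mul_inv_cancel, mul_one]
    rw [← map_mul, hu2, map_mul, map_mul, map_mul, hone u₁ hu₁M hu₁s, h3f]
  rw [e, map_mul ρ, map_mul ρ, MulAut.mul_apply, MulAut.mul_apply, hallM v hv, hv a₃ m3 (Or.inr h3), hallM v hv]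

/-- In the irreducible case with some nontrivial element of `A` fixed by `t₂` the group is commutative. -/
theorem comm_of_two [Group.IsSolvable H] {p : ℕ} [hp : Fact p.Prime] (hVp : IsPGroup p V)
    (hρ : Function.Injective ρ) {q : ℕ} (hq : q.Prime) (hqp : q ≠ p) (hAq : ∀ a ∈ A, a ^ q = 1)
    (hfix : ∀ v, (∀ x ∈ A, ρ x v = v) → v = 1)
    (hirr : ∀ W : Subgroup V, (∀ h, ∀ w ∈ W, ρ h w ∈ W) → (∀ w ∈ W, s₁ w ∈ W) → (∀ w ∈ W, s₂ w ∈ W) →
      W = ⊥ ∨ W = ⊤)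
    {a₀ : H} (ha₀ : a₀ ∈ A) (ha₀t : t₂ a₀ = a₀) (ha₀1 : a₀ ≠ 1) (x y : H) : x * y = y * x := by
  -- what is fixed by the two other components
  set M := MFix ρ A t₁ t₃ with hM
  have hA3 : ∀ a ∈ A, t₃ a ∈ A := fun a ha => X.onH.m₁₂ a ▸ hA1 _ (hA2 a ha)
  have hM1 : ∀ w ∈ M, s₁ w ∈ M := X.mfix_invariant₁ A hA1 hA2
  have hM2 : ∀ w ∈ M, s₂ w ∈ M := X.mfix_invariant₂ A hA2
  -- on `M` the second involution inverts
  have hinv : ∀ v ∈ M, s₂ v = v⁻¹ := by
    intro v hv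
    refine eq_inv_of_mul_eq_one_left (hfix _ fun a ha => ?_)
    obtain ⟨a₁, a₂, a₃, h1, h2, h3, e, hS⟩ := X.onH.exists_abc' a
    obtain ⟨m1, m2, m3⟩ := hS A hA1 hA2 ha
    have hu : s₂ v * v ∈ M := M.mul_mem (hM2 v hv) hv
    have hu2 : ρ a₂ (s₂ v * v) = s₂ v * v := X.rot.fix_fix h2 (by rw [map_mul, X.onV.i₂, mul_comm])
    rw [e, map_mul ρ, map_mul ρ, map_mul ρ, MulAut.mul_apply, MulAut.mul_apply, MulAut.mul_apply, hu2,
      hu a₃ m3 (Or.inr h3), hu2, hu a₁ m1 (Or.inl h1)]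
  have hMne : M ≠ ⊥ := by
    intro e
    refine ha₀1 (hρ (MulEquiv.ext fun v => ?_))
    rw [map_one, MulAut.one_apply]
    have hmem : v⁻¹ * ρ a₀ v ∈ M := fun b hb ht => X.fix_comm A hAn hA1 hA2 hab ha₀ ha₀t hb (by
      rcases ht with ht | ht
      · exact X.onH.inv₂ ht
      · exact X.onH.rot.rot.inv₃ ht) v
    rw [e, Subgroup.mem_bot, inv_mul_eq_one] at hmem
    exact hmem.symm
  -- invariance
  have hk1 : ∀ k, t₁ k = k → ∀ v ∈ M, ρ k v ∈ M := fun k hk v hv =>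
    X.mfix_step A hAn hA1 hA2 hab hVp hq hqp hAq hk hv
  have hk3 : ∀ k, t₃ k = k → ∀ v ∈ M, ρ k v ∈ M := fun k hk v hv b hb ht =>
    X.rot.swap.mfix_step A hAn hA3 hA2 hab hVp hq hqp hAq hk (fun a ha h => hv a ha h.symm) b hb ht.symm
  have hk2 : ∀ k, t₂ k = k → ∀ v ∈ M, ρ k v ∈ M := by
    intro k hk v hv b hb ht
    have hcm : k⁻¹ * b * k ∈ A := by simpa using hAn.conj_mem b hb k⁻¹
    suffices h : ρ (k⁻¹ * b * k) v = v by
      have := congrArg (ρ k) h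
      rw [← MulAut.mul_apply, ← map_mul, show k * (k⁻¹ * b * k) = b * k by group, map_mul, MulAut.mul_apply] at this
      exact this
    have hbi : t₂ (k⁻¹ * b * k) = (k⁻¹ * b * k)⁻¹ := by
      have : t₂ b = b⁻¹ := by
        rcases ht with ht | ht
        · exact X.onH.inv₂ ht
        · exact X.onH.rot.rot.inv₃ ht
      rw [map_mul, map_mul, map_inv, hk, this]; group
    obtain ⟨a₂, a₃, a₁, h2, h3, h1, e, hS⟩ := X.onH.rot.exists_abc' (k⁻¹ * b * k)
    obtain ⟨m2, m3, m1⟩ := hS A hA2 hA3 hcm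
    rw [e, map_mul, h2, X.onH.rot.t₁_bcb h3 h1, hab a₂ m2 _ (A.inv_mem (A.mul_mem (A.mul_mem m3 m1) m3)),
      mul_inv_rev a₂, mul_right_inj] at hbi
    have ha2 : a₂ = 1 := sq_inj X.onH.odd (by nth_rewrite 2 [hbi]; rw [mul_inv_cancel, one_mul])
    rw [e, ha2, one_mul, map_mul ρ, map_mul ρ, MulAut.mul_apply, MulAut.mul_apply, hv a₃ m3 (Or.inr h3),
      hv a₁ m1 (Or.inl h1), hv a₃ m3 (Or.inr h3)]
  -- the group preserves `M`
  have hMall : ∀ k, ∀ v ∈ M, ρ k v ∈ M := by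
    let S : Subgroup H :=
      { carrier := {k | ∀ v ∈ M, ρ k v ∈ M}
        one_mem' := fun v hv => by simpa using hv
        mul_mem' := fun {c d} hc hd v hv => by rw [map_mul, MulAut.mul_apply]; exact hc _ (hd v hv)
        inv_mem' := fun {c} hc v hv => by
          obtain ⟨⟨w, hw⟩, e⟩ := (Finite.surjective_of_injective (f := fun w : M => (⟨ρ c w, hc w w.2⟩ : M))
            fun a b e => Subtype.ext ((ρ c).injective (congrArg Subtype.val e))) ⟨v, hv⟩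
          have e' : ρ c w = v := congrArg Subtype.val e
          rw [← e', ← MulAut.mul_apply, ← map_mul, inv_mul_cancel, map_one, MulAut.one_apply]
          exact hw }
    exact fun k => X.onH.mem_of_fix S hk1 hk2 hk3 k
  have htop : M = ⊤ := (hirr M hMall hM1 hM2).resolve_left hMne
  have ht2 : ∀ h, t₂ h = h := fun h => hρ (MulEquiv.ext fun v => by
    have h1 := X.c₂ h (s₂ v)
    rw [X.onV.i₂, hinv v (htop ▸ mem_top v), map_inv, hinv _ (htop ▸ mem_top _), inv_inv] at h1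
    exact h1.symm)
  exact X.onH.rot.comm_fix (ht2 x) (ht2 y)

end

/-- A solvable group acting faithfully and irreducibly is commutative. -/
theorem comm_of_irr [Group.IsSolvable H] {p : ℕ} [hp : Fact p.Prime] (hVp : IsPGroup p V) [Nontrivial V]
    (hρ : Function.Injective ρ)
    (hirr : ∀ W : Subgroup V, (∀ h, ∀ w ∈ W, ρ h w ∈ W) → (∀ w ∈ W, s₁ w ∈ W) → (∀ w ∈ W, s₂ w ∈ W) →
      W = ⊥ ∨ W = ⊤) (x y : H) : x * y = y * x := by
  rcases subsingleton_or_nontrivial H with hS | hN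
  · exact Subsingleton.elim _ _
  obtain ⟨A, q, hq, hA, hAn, hA1, hA2, hab, hAq, -⟩ := exists_minimal_two t₁ t₂
  haveI := hAn
  haveI := Fact.mk hq
  let W : Subgroup V :=
    { carrier := {v | ∀ x ∈ A, ρ x v = v}
      one_mem' := fun x _ => map_one _
      mul_mem' := fun {v w} hv hw x hx => by rw [map_mul, hv x hx, hw x hx]
      inv_mem' := fun {v} hv x hx => by rw [map_inv, hv x hx] }
  have hWs : ∀ (s : MulAut V) (t : MulAut H), (∀ h v, s (ρ h v) = ρ (t h) (s v)) → (∀ h, t (t h) = h) →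
      (∀ a ∈ A, t a ∈ A) → ∀ w ∈ W, s w ∈ W := fun s t hc hi hA w hw x hx => by
    have := congrArg s (hw _ (hA x hx))
    rwa [hc, hi] at this
  have hfix : ∀ v, (∀ x ∈ A, ρ x v = v) → v = 1 := by
    intro v hv
    rcases hirr W (fun h w hw x hx => by
        have := congrArg (ρ h) (hw (h⁻¹ * x * h) (by simpa using hAn.conj_mem x hx h⁻¹))
        rwa [← MulAut.mul_apply, ← map_mul, show h * (h⁻¹ * x * h) = x * h by group, map_mul,
          MulAut.mul_apply] at this)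
      (hWs s₁ t₁ X.c₁ X.onH.i₁ hA1) (hWs s₂ t₂ X.c₂ X.onH.i₂ hA2) with h | h
    · exact Subgroup.mem_bot.1 (h ▸ (hv : v ∈ W))
    · obtain ⟨a, ha, ha1⟩ := A.bot_or_exists_ne_one.resolve_left hA
      refine absurd (hρ (MulEquiv.ext fun w => ?_)) ha1
      rw [map_one, MulAut.one_apply]
      exact (h.ge (mem_top w) : w ∈ W) a ha
  have hqp : q ≠ p := by
    rintro rfl
    have hAp : IsPGroup q A := fun x => ⟨1, Subtype.ext (by simpa using hAq x x.2)⟩
    letI : MulAction A V := MulAction.compHom V (ρ.comp A.subtype)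
    obtain ⟨v, hv, hne⟩ := hAp.exists_fixed_point_of_prime_dvd_card_of_fixed_point V
      (by
        rcases hVp.card_eq_or_dvd with h | h
        · exact absurd h (Finite.one_lt_card (α := V)).ne'
        · exact h)
      (a := 1) (fun x => map_one (ρ (x : H)))
    exact hne (hfix v fun x hx => hv ⟨x, hx⟩).symm
  obtain ⟨a, ha, ha1⟩ := A.bot_or_exists_ne_one.resolve_left hA
  obtain ⟨a₁, a₂, a₃, h1, h2, h3, e, hS⟩ := X.onH.exists_abc' a
  obtain ⟨m1, m2, m3⟩ := hS A hA1 hA2 ha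
  have hA3 : ∀ a ∈ A, t₃ a ∈ A := fun a ha => X.onH.m₁₂ a ▸ hA1 _ (hA2 a ha)
  by_cases e2 : a₂ = 1
  swap
  · exact X.comm_of_two A hAn hA1 hA2 hab hVp hρ hq hqp hAq hfix hirr m2 h2 e2 x y
  by_cases e1 : a₁ = 1
  swap
  · exact X.swap.comm_of_two A hAn hA2 hA1 hab hVp hρ hq hqp hAq hfix
      (fun W h0 h1 h2 => hirr W h0 h2 h1) m1 h1 e1 x y
  have e3 : a₃ ≠ 1 := fun e3 => ha1 (by rw [e, e1, e2, e3]; simp)
  refine X.rot.comm_of_two A hAn hA2 hA3 hab hVp hρ hq hqp hAq hfix (fun W h0 h2' h3' => hirr W h0 (fun w hw => ?_) h2')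
    m3 h3 e3 x y
  rw [← X.onV.rot.m₁₂ w]
  exact h2' _ (h3' w hw)

end FoursAct

namespace Fours

variable {t₁ t₂ t₃ : MulAut H}

omit [Finite H] in
/-- Modulo an invariant normal subgroup there are no fixed points. -/
theorem mem_of_modFix (F : Fours t₁ t₂ t₃) (N : Subgroup H) (h1 : ∀ x ∈ N, t₁ x ∈ N)
    (h2 : ∀ x ∈ N, t₂ x ∈ N) {g : H} (e1 : (t₁ g)⁻¹ * g ∈ N) (e2 : (t₂ g)⁻¹ * g ∈ N) [N.Normal] : g ∈ N := by
  obtain ⟨a, b, c, ha, hb, hc, e⟩ := F.exists_abc g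
  set y := b * c * b with hy
  have hyy : y * y ∈ N := by
    have : (t₁ g)⁻¹ * g = y * y := by
      rw [e, map_mul, ha, F.t₁_bcb hb hc, mul_inv_rev, inv_inv]
      simp only [hy]
      group
    exact this ▸ e1
  have hyN : y ∈ N := by
    have h := N.pow_mem hyy ((orderOf y + 1) / 2)
    obtain ⟨k, hk⟩ := odd_orderOf F.odd y
    rwa [← pow_two, ← pow_mul, show 2 * ((orderOf y + 1) / 2) = orderOf y + 1 by omega, pow_succ,
      pow_orderOf_eq_one, one_mul] at h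
  have haa : a * a ∈ N := by
    have hN : ∀ x, ((x : H) : H ⧸ N) = 1 ↔ x ∈ N := fun x => QuotientGroup.eq_one_iff x
    rw [← hN]
    have h := (hN _).2 e2
    rw [e, map_mul, F.inv₂ ha, mul_inv_rev, inv_inv, QuotientGroup.mk_mul, QuotientGroup.mk_mul,
      QuotientGroup.mk_mul, (hN _).2 hyN, (hN _).2 (N.inv_mem (h2 y hyN)), mul_one, one_mul] at h
    rwa [QuotientGroup.mk_mul]
  have haN : a ∈ N := by
    have h := N.pow_mem haa ((orderOf a + 1) / 2)
    obtain ⟨k, hk⟩ := odd_orderOf F.odd a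
    rwa [← pow_two, ← pow_mul, show 2 * ((orderOf a + 1) / 2) = orderOf a + 1 by omega, pow_succ,
      pow_orderOf_eq_one, one_mul] at h
  exact e ▸ N.mul_mem haN hyN

/-- The induced four-group on a quotient. -/
theorem quot (F : Fours t₁ t₂ t₃) (N : Subgroup H) [N.Normal] (h1 : ∀ x ∈ N, t₁ x ∈ N)
    (h2 : ∀ x ∈ N, t₂ x ∈ N) :
    ∃ u₁ u₂ u₃ : MulAut (H ⧸ N), Fours u₁ u₂ u₃ ∧ (∀ g : H, u₁ g = (t₁ g : H)) ∧
      (∀ g : H, u₂ g = (t₂ g : H)) ∧ ∀ g : H, u₃ g = (t₃ g : H) := by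
  have hmap : ∀ t : MulAut H, (∀ x ∈ N, t x ∈ N) → N.map t.toMonoidHom = N := fun t ht =>
    eq_of_le_of_card_ge (map_le_iff_le_comap.mpr ht)
      (Nat.card_congr (N.equivMapOfInjective _ t.injective).toEquiv).le
  have h3 : ∀ x ∈ N, t₃ x ∈ N := fun x hx => F.m₁₂ x ▸ h1 _ (h2 x hx)
  refine ⟨QuotientGroup.congr N N t₁ (hmap t₁ h1), QuotientGroup.congr N N t₂ (hmap t₂ h2),
    QuotientGroup.congr N N t₃ (hmap t₃ h3), ?_, fun g => rfl, fun g => rfl, fun g => rfl⟩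
  refine ⟨F.odd.of_dvd_nat (card_quotient_dvd_card N), ?_, ?_, ?_, ?_, ?_, ?_⟩
  · intro q; obtain ⟨g, rfl⟩ := QuotientGroup.mk_surjective q
    exact congrArg _ (F.i₁ g)
  · intro q; obtain ⟨g, rfl⟩ := QuotientGroup.mk_surjective q
    exact congrArg _ (F.i₂ g)
  · intro q; obtain ⟨g, rfl⟩ := QuotientGroup.mk_surjective q
    exact congrArg _ (F.i₃ g)
  · intro q; obtain ⟨g, rfl⟩ := QuotientGroup.mk_surjective q
    exact congrArg _ (F.m₁₂ g)
  · intro q; obtain ⟨g, rfl⟩ := QuotientGroup.mk_surjective q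
    exact congrArg _ (F.m₂₁ g)
  · intro q q1 q2; obtain ⟨g, rfl⟩ := QuotientGroup.mk_surjective q
    exact (QuotientGroup.eq_one_iff g).2 (F.mem_of_modFix N h1 h2 (QuotientGroup.eq.1 q1)
      (QuotientGroup.eq.1 q2))

omit [Finite H] in
/-- The induced four-group on an invariant subgroup. -/
theorem restr [Finite H] (F : Fours t₁ t₂ t₃) (N : Subgroup H) (h1 : ∀ x ∈ N, t₁ x ∈ N)
    (h2 : ∀ x ∈ N, t₂ x ∈ N) :
    ∃ u₁ u₂ u₃ : MulAut N, Fours u₁ u₂ u₃ ∧ (∀ g : N, (u₁ g : H) = t₁ g) ∧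
      (∀ g : N, (u₂ g : H) = t₂ g) ∧ ∀ g : N, (u₃ g : H) = t₃ g := by
  let mk : ∀ t : MulAut H, (∀ x ∈ N, t x ∈ N) → MulAut N := fun t ht => MulEquiv.ofBijective
    ((t.toMonoidHom.comp N.subtype).codRestrict N fun v => ht v v.2)
    (Finite.injective_iff_bijective.mp fun a b h => Subtype.ext (t.injective (congrArg Subtype.val h)))
  have h3 : ∀ x ∈ N, t₃ x ∈ N := fun x hx => F.m₁₂ x ▸ h1 _ (h2 x hx)
  exact ⟨mk t₁ h1, mk t₂ h2, mk t₃ h3, ⟨F.odd.of_dvd_nat (card_subgroup_dvd_card N),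
    fun x => Subtype.ext (F.i₁ x), fun x => Subtype.ext (F.i₂ x), fun x => Subtype.ext (F.i₃ x),
    fun x => Subtype.ext (F.m₁₂ x), fun x => Subtype.ext (F.m₂₁ x),
    fun x e1 e2 => Subtype.ext (F.fix x (congrArg Subtype.val e1) (congrArg Subtype.val e2))⟩,
    fun _ => rfl, fun _ => rfl, fun _ => rfl⟩

end Fours

theorem aux (n : ℕ) : ∀ (G : Type u) [Group G] [Finite G] [Group.IsSolvable G] (t₁ t₂ t₃ : MulAut G),
    Fours t₁ t₂ t₃ → Nat.card G = n → Group.IsNilpotent (commutator G) := by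
  induction n using Nat.strong_induction_on with
  | _ n ih =>
  intro G _ _ _ t₁ t₂ t₃ F hn
  rcases subsingleton_or_nontrivial G with hS | hNt
  · haveI : Subsingleton (commutator G) := inferInstance
    infer_instance
  obtain ⟨V, p, hp, hV, hVn, hV1, hV2, hVab, hVp, hVmin⟩ := exists_minimal_two t₁ t₂
  haveI := hVn
  haveI := Fact.mk hp
  obtain ⟨a₁, a₂, a₃, Fq, -, -, -⟩ := F.quot V hV1 hV2
  haveI hnil : Group.IsNilpotent (commutator (G ⧸ V)) := ih _ (by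
    rw [← hn, card_eq_card_quotient_mul_card_subgroup V]
    exact lt_mul_of_one_lt_right Nat.card_pos ((one_lt_card_iff_ne_bot V).mpr hV)) (G ⧸ V) a₁ a₂ a₃ Fq rfl
  haveI : IsMulCommutative V := ⟨⟨fun a b => Subtype.ext (hVab a a.2 b b.2)⟩⟩
  letI : CommGroup V := { (inferInstance : Group V) with mul_comm := mul_comm' }
  haveI : Nontrivial V := (Subgroup.nontrivial_iff_ne_bot V).2 hV
  set U := centralizer (V : Set G) with hU
  have hUt : ∀ t : MulAut G, (∀ g, t (t g) = g) → (∀ x ∈ V, t x ∈ V) → ∀ x ∈ U, t x ∈ U :=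
    fun t hi hVt x hx => mem_centralizer_iff.mpr fun v hv => by
      have := congrArg t (mem_centralizer_iff.mp hx _ (hVt v hv))
      rwa [map_mul, map_mul, hi] at this
  obtain ⟨u₁, u₂, u₃, Fu, hu₁, hu₂, hu₃⟩ := F.quot U (hUt t₁ F.i₁ hV1) (hUt t₂ F.i₂ hV2)
  obtain ⟨s₁, s₂, s₃, Fs, hs₁, hs₂, hs₃⟩ := F.restr V hV1 hV2
  have hker : U ≤ (MulAut.conjNormal : G →* MulAut V).ker := fun x hx =>
    MulEquiv.ext fun v => Subtype.ext (by
      show x * v * x⁻¹ = v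
      rw [← mem_centralizer_iff.mp hx v v.2, mul_inv_cancel_right])
  let ρ : G ⧸ U →* MulAut V := QuotientGroup.lift U MulAut.conjNormal hker
  have hρ : Function.Injective ρ := by
    refine (injective_iff_map_eq_one ρ).mpr fun q hq => ?_
    obtain ⟨g, rfl⟩ := QuotientGroup.mk_surjective q
    refine (QuotientGroup.eq_one_iff g).mpr (mem_centralizer_iff.mpr fun v hv => ?_)
    have h1 : g * v * g⁻¹ = v := congrArg Subtype.val (DFunLike.congr_fun hq (⟨v, hv⟩ : V))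
    exact (mul_inv_eq_iff_eq_mul.mp h1).symm
  have hc : ∀ (t : MulAut G) (u : MulAut (G ⧸ U)) (s : MulAut V), (∀ g : G, u g = (t g : G)) →
      (∀ g : V, (s g : G) = t g) → ∀ q v, s (ρ q v) = ρ (u q) (s v) := fun t u s hu hs q v => by
    obtain ⟨g, rfl⟩ := QuotientGroup.mk_surjective q
    rw [hu]
    refine Subtype.ext ?_
    show (s ⟨g * v * g⁻¹, _⟩ : G) = t g * (s v : G) * (t g)⁻¹
    rw [hs, hs, map_mul, map_mul, map_inv]
  have X : FoursAct ρ u₁ u₂ u₃ s₁ s₂ s₃ :=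
    ⟨Fu, Fs, hc t₁ u₁ s₁ hu₁ hs₁, hc t₂ u₂ s₂ hu₂ hs₂, hc t₃ u₃ s₃ hu₃ hs₃⟩
  have hcomm := X.comm_of_irr (p := p) (fun v => ⟨1, Subtype.ext (by simpa using hVp v v.2)⟩) hρ
    (fun W hW1 hW2 hW3 => by
      by_cases hW : W = ⊥
      · exact Or.inl hW
      right
      have heq : W.map V.subtype = V := hVmin _ (map_subtype_le W)
        (fun h => hW ((map_eq_bot_iff_of_injective _ V.subtype_injective).mp h))
        ⟨fun x hx g => by
          obtain ⟨w, hw, rfl⟩ := hx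
          exact ⟨_, hW1 (g : G ⧸ U) w hw, rfl⟩⟩
        (fun x hx => by
          obtain ⟨w, hw, rfl⟩ := hx
          exact ⟨_, hW2 w hw, hs₁ w⟩)
        (fun x hx => by
          obtain ⟨w, hw, rfl⟩ := hx
          exact ⟨_, hW3 w hw, hs₂ w⟩)
      refine eq_top_iff.mpr fun v _ => ?_
      obtain ⟨w, hw, he⟩ := heq.ge v.2
      rwa [← V.subtype_injective he])
  have hle : commutator G ≤ U := by
    rw [← QuotientGroup.ker_mk' U, commutator_eq_closure, closure_le]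
    rintro _ ⟨x, y, rfl⟩
    rw [SetLike.mem_coe, MonoidHom.mem_ker, map_commutatorElement,
      commutatorElement_eq_one_iff_mul_comm]
    exact hcomm _ _
  let f : commutator G →* commutator (G ⧸ V) :=
    ((QuotientGroup.mk' V).comp (commutator G).subtype).codRestrict _ fun x => by
      have : (commutator G).map (QuotientGroup.mk' V) ≤ commutator (G ⧸ V) := by
        rw [commutator_def, commutator_def, map_commutator]
        exact commutator_mono le_top le_top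
      exact this ⟨x, x.2, rfl⟩
  refine Subgroup.isNilpotent_of_ker_le_center f fun x hx => ?_
  have hxV : (x : G) ∈ V := (QuotientGroup.eq_one_iff _).mp (congrArg Subtype.val hx)
  exact mem_center_iff.mpr fun y => Subtype.ext (mem_centralizer_iff.mp (hle y.2) _ hxV).symm

/-- A solvable group with such a four-group has nilpotent derived subgroup. -/
theorem Fours.isNilpotent_commutator [Group.IsSolvable H] {t₁ t₂ t₃ : MulAut H} (F : Fours t₁ t₂ t₃) :
    Group.IsNilpotent (commutator H) := aux _ H t₁ t₂ t₃ F rfl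

end Cfsg.Lib.GenDihedral
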