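import Cfsg.Agent.GenDihedral.FitNorm
import Cfsg.Agent.GenDihedral.Formula

/-!
The order formula forbids a proper subgroup containing the centraliser of `z` and fusing all involutions.
-/

set_option autoImplicit false
set_option linter.unusedSectionVars false
set_option linter.style.haveILetI false

namespace Cfsg.Lib.GenDihedral

open Subgroup

universe u

variable {G : Type u} [Group G] [Finite G]

theorem IsFour.card {z t s : G} (F : IsFour z t s) : Nat.card (Vg z t) = 4 := by
  have e : (Vg z t : Set G) = {1, z, t, s} := by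
    ext x; simp [F.mem_iff]
  have h1 : ∀ x : G, orderOf x = 2 → (1 : G) ≠ x := fun x hx e => by rw [← e, orderOf_one] at hx; omega
  show Nat.card ((Vg z t : Set G)) = 4
  rw [Nat.card_coe_set_eq, e]
  have hzs : z ≠ s := fun e => h1 t F.t2 (by
    have h := F.zt
    rw [← e, mul_eq_left] at h
    exact h.symm)
  have hts : t ≠ s := fun e => h1 z F.z2 (by
    have h := F.zt
    rw [← e, mul_eq_right] at h
    exact h.symm)
  rw [Set.ncard_insert_of_notMem (by simp [h1 z F.z2, h1 t F.t2, h1 s F.s2]),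
    Set.ncard_insert_of_notMem (by simp [F.ne_zt, hzs]), Set.ncard_insert_of_notMem (by simp [hts]),
    Set.ncard_singleton]

theorem card_centralizer_sub (N : Subgroup G) (S : Set N)
    (h : centralizer ((↑) '' S : Set G) ≤ N) :
    Nat.card (centralizer S) = Nat.card (centralizer ((↑) '' S : Set G)) := by
  refine Nat.card_congr
    { toFun := fun x => ⟨(x : N), mem_centralizer_iff.2 ?_⟩
      invFun := fun x => ⟨⟨x, h x.2⟩, mem_centralizer_iff.2 fun s hs => Subtype.ext
        (mem_centralizer_iff.1 x.2 s ⟨s, hs, rfl⟩)⟩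
      left_inv := fun x => rfl
      right_inv := fun x => rfl }
  rintro _ ⟨s, hs, rfl⟩
  exact congrArg Subtype.val (mem_centralizer_iff.1 x.2 s hs)

namespace Frame

variable {z t s : G} {A T M : Subgroup G} (Fr : Frame z t s T M) (K : Core z A)
include Fr K

theorem cent_pair {N : Subgroup G} (hCN : centralizer ({z} : Set G) ≤ N) (zN tN : N) (hz : (zN : G) = z)
    {u w : G} (F : IsFour z u w) (hu : (tN : G) = u) :
    Nat.card (centralizer ({zN, tN} : Set N)) = 4 := by
  have e : ((↑) '' ({zN, tN} : Set N) : Set G) = {z, u} := by rw [Set.image_pair, hz, hu]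
  have hle : centralizer ({z, u} : Set G) ≤ centralizer ({z} : Set G) := centralizer_le (by simp)
  rw [card_centralizer_sub N _ (e ▸ hle.trans hCN), e]
  have heq : centralizer ({z, u} : Set G) = Vg z u := by
    obtain ⟨B, hB⟩ := K.exists_hyp F.z2
    refine le_antisymm (fun x hx => F.mem_iff.2 ?_) ((closure_le _).2 ?_)
    · rw [← F.zt]
      exact hB.cent_four F.t2 F.ne_zt.symm F.comm.symm (mem_centralizer_iff.1 hx z (by simp)).symm
        (mem_centralizer_iff.1 hx u (by simp)).symm
    · intro x hx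
      refine mem_centralizer_iff.2 fun y hy => ?_
      rcases hx with rfl | hx <;> rcases hy with rfl | hy
      · rfl
      · rw [Set.mem_singleton_iff.1 hy]; exact F.comm.symm
      · rw [Set.mem_singleton_iff.1 hx]; exact F.comm
      · rw [Set.mem_singleton_iff.1 hy, Set.mem_singleton_iff.1 hx]
  rw [heq, F.card]

theorem one_class_in {N : Subgroup G} (hΓN : Gam z T ≤ N) (hT : ∀ X : Subgroup G, IsPGroup 2 X → T ≤ X → X = T)
    (a b : N) (ha : orderOf a = 2) (hb : orderOf b = 2) : IsConj a b := by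
  haveI : Fact (Nat.Prime 2) := ⟨Nat.prime_two⟩
  have hTN : T ≤ N := (T_le_Gam z T).trans hΓN
  have key : ∀ a : N, orderOf a = 2 → IsConj (⟨z, hTN Fr.zT⟩ : N) a := by
    intro a ha
    obtain ⟨P, hP⟩ := (Fr.two.of_equiv (subgroupOfEquivOfLe hTN).symm).exists_le_sylow
    obtain ⟨Q, hQ⟩ := (IsPGroup.of_card (G := zpowers a) (p := 2) (n := 1)
      (by rw [Nat.card_zpowers, ha, pow_one])).exists_le_sylow
    obtain ⟨g, hg⟩ := MulAction.exists_smul_eq N Q P
    have hPT : (P : Subgroup N).map N.subtype = T :=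
      hT _ (P.2.map _) fun x hx => ⟨⟨x, hTN hx⟩, hP hx, rfl⟩
    set u := g * a * g⁻¹ with hu
    have huT : (u : G) ∈ T := by
      rw [← hPT]
      refine ⟨u, ?_, rfl⟩
      rw [← hg]
      exact Subgroup.mem_pointwise_smul_iff_inv_smul_mem.2
        (by simpa [MulAut.smul_def, hu, mul_assoc] using hQ (mem_zpowers a))
    have hu2 : orderOf (u : G) = 2 := by
      rw [orderOf_coe, hu, ← MulAut.conj_apply, MulEquiv.orderOf_eq, ha]
    refine IsConj.trans ?_ (isConj_iff.2 ⟨g, rfl⟩ : IsConj a u).symm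
    by_cases huz : (u : G) = z
    · rw [show u = (⟨z, hTN Fr.zT⟩ : N) from Subtype.ext huz]
    · obtain ⟨B, hB⟩ := K.exists_hyp Fr.four.z2
      have hF := isFour_of_comm Fr.four.z2 hu2 (mem_cent.1 (Fr.le huT)).symm (Ne.symm huz)
      obtain ⟨r, hr⟩ := K.exists_rot hF
      exact isConj_iff.2 ⟨⟨r, hΓN (rot_mem_Gam hF huT hr)⟩, Subtype.ext hr.1⟩
  exact (key a ha).symm.trans (key b hb)

/-- The two cases of the formula. -/
theorem order_cases {N : Subgroup G} (hΓN : Gam z T ≤ N) (hCN : centralizer ({z} : Set G) ≤ N)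
    (hT : ∀ X : Subgroup G, IsPGroup 2 X → T ≤ X → X = T) :
    (Nat.card T = 4 ∧ ∃ S : ℚ, 1 / 2 < S ∧ S ≤ 8 / 3 ∧
      (Nat.card (centralizer ({z} : Set G)) : ℚ) ^ 3 = 2 * (Nat.card N : ℚ) * S) ∨
    (Nat.card T ≠ 4 ∧ 21 * Nat.card (centralizer ({z} : Set G)) ^ 3 ≤ 32 * (2 * Nat.card N) ∧
      32 * (2 * Nat.card N) ≤ 45 * Nat.card (centralizer ({z} : Set G)) ^ 3) := by
  haveI : Fact (Nat.Prime 2) := ⟨Nat.prime_two⟩
  obtain ⟨B, hB⟩ := K.exists_hyp Fr.four.z2
  have hTN : T ≤ N := (T_le_Gam z T).trans hΓN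
  obtain ⟨P, hP⟩ := (Fr.two.of_equiv (subgroupOfEquivOfLe hTN).symm).exists_le_sylow
  have hPmap : (P : Subgroup N).map N.subtype = T := hT _ (P.2.map _) fun x hx => ⟨⟨x, hTN hx⟩, hP hx, rfl⟩
  have hPeq : (P : Subgroup N) = T.subgroupOf N := le_antisymm
    (fun x hx => mem_subgroupOf.2 (hPmap ▸ ⟨x, hx, rfl⟩)) hP
  have hPc : Nat.card (P : Subgroup N) = Nat.card T := by
    rw [hPeq, Nat.card_congr (subgroupOfEquivOfLe hTN).toEquiv]
  set zN : N := ⟨z, hTN Fr.zT⟩ with hzN
  set tN : N := ⟨t, hTN Fr.tT⟩ with htN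
  have hcent : Nat.card (centralizer ({zN} : Set N)) = Nat.card (centralizer ({z} : Set G)) := by
    rw [card_centralizer_sub N _ (by rw [Set.image_singleton]; exact hCN), Set.image_singleton]
  have hone := Fr.one_class_in K hΓN hT
  set T₀ := T ⊓ B with hT₀
  haveI hcyc : IsCyclic T₀ := hB.isCyclic_two (Fr.two.to_le inf_le_left) inf_le_right
  obtain ⟨⟨σ, hσ⟩, hgenσ⟩ := IsCyclic.exists_generator (α := T₀)
  have hz0 : (⟨z, Fr.zT, hB.mem⟩ : T₀) ∈ zpowers (⟨σ, hσ⟩ : T₀) := hgenσ _
  obtain ⟨k, hk⟩ := IsPGroup.iff_orderOf.1 Fr.two ⟨σ, hσ.1⟩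
  rw [Subgroup.orderOf_mk] at hk
  have htB : t ∉ B := hB.not_mem_A Fr.four.t2 Fr.four.ne_zt.symm
  have htC : t ∈ centralizer ({z} : Set G) := Fr.le Fr.tT
  have hdec : ∀ x ∈ T, x ∈ zpowers σ ∨ x * t ∈ zpowers σ := by
    intro x hx
    have hmem : ∀ y ∈ T₀, y ∈ zpowers σ := fun y hy => by
      obtain ⟨i, hi⟩ := mem_zpowers_iff.1 (hgenσ ⟨y, hy⟩)
      exact ⟨i, congrArg Subtype.val hi⟩
    by_cases hxB : x ∈ B
    · exact Or.inl (hmem x ⟨hx, hxB⟩)
    · exact Or.inr (hmem _ ⟨mul_mem hx Fr.tT, hB.mul_mem_A (Fr.le hx) htC hxB htB⟩)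
  have hcardT : Nat.card T = 2 * 2 ^ k := by
    have hle : zpowers σ ≤ T := zpowers_le.2 hσ.1
    have hidx : ((zpowers σ).subgroupOf T).index = 2 := by
      refine index_eq_two_iff.2 ⟨⟨t, Fr.tT⟩, fun x => ?_⟩
      rw [mem_subgroupOf, mem_subgroupOf, Subgroup.coe_mul]
      have hno : ¬ t ∈ zpowers σ := fun h => htB (zpowers_le.2 hσ.2 h)
      rcases hdec x x.2 with h | h
      · exact Or.inr ⟨h, fun h' => hno ((Subgroup.mul_mem_cancel_left _ h).1 h')⟩
      · exact Or.inl ⟨h, fun h' => hno ((Subgroup.mul_mem_cancel_left _ h').1 h)⟩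
    rw [← card_mul_index ((zpowers σ).subgroupOf T), hidx, Nat.card_congr (subgroupOfEquivOfLe hle).toEquiv,
      Nat.card_zpowers, hk, mul_comm]
  have hk1 : 1 ≤ k := by
    by_contra h
    obtain rfl : k = 0 := by omega
    obtain ⟨i, hi⟩ := mem_zpowers_iff.1 hz0
    have hσ1 : σ = 1 := orderOf_eq_one_iff.1 (by simpa using hk)
    have := congrArg Subtype.val hi
    simp only [SubgroupClass.coe_zpow, hσ1, one_zpow] at this
    exact absurd Fr.four.z2 (by rw [← this, orderOf_one]; omega)
  by_cases hk2 : k = 1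
  · subst hk2
    left
    have hT4 : Nat.card T = 4 := by rw [hcardT]; norm_num
    have hTV : T = Vg z t :=
      (Cfsg.Lib.Coprime.eq_of_le_of_card_eq Fr.Vg_le (by rw [hT4, Fr.four.card])).symm
    have hexp : ∀ u ∈ (P : Subgroup N), u * u = 1 := by
      intro u hu
      rw [hPeq, mem_subgroupOf, hTV] at hu
      refine Subtype.ext ?_
      rw [Subgroup.coe_mul, OneMemClass.coe_one]
      rcases Fr.four.mem_iff.1 hu with h | h | h | h <;> rw [h]
      · rw [one_mul]
      exacts [mul_self_of_two Fr.four.z2, mul_self_of_two Fr.four.t2, mul_self_of_two Fr.four.s2]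
    have hC : Nat.card (centralizer ((P : Subgroup N) : Set N)) = 4 := by
      have hPcl : (P : Subgroup N) = closure {zN, tN} := by
        apply Subgroup.map_injective N.subtype_injective
        rw [hPmap, MonoidHom.map_closure, Set.image_pair, hTV]
        rfl
      rw [hPcl, centralizer_closure]
      exact Fr.cent_pair K hCN zN tN rfl Fr.four rfl
    obtain ⟨S, h1, h2, h3⟩ := klein_order P (hPc.trans hT4) hexp hone hC
      (hPeq ▸ (mem_subgroupOf.2 Fr.zT) : zN ∈ (P : Subgroup N))
      ((Subgroup.orderOf_mk z _).trans Fr.four.z2)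
    exact ⟨hT4, S, h1, h2, by rw [← hcent]; exact h3⟩
  · right
    refine ⟨fun h => by
      rw [hcardT] at h
      have h' : 2 ^ 2 ≤ 2 ^ k := Nat.pow_le_pow_right two_pos (by omega)
      omega, ?_⟩
    set σN : N := ⟨σ, hTN hσ.1⟩ with hσN
    have hrelG : t * σ * t⁻¹ = σ⁻¹ := hB.inverts htC htB hσ.2
    have hσk : orderOf σN = 2 ^ k := (Subgroup.orderOf_mk σ _).trans hk
    have hJ : σ ^ 2 ^ (k - 1) = z := by
      refine hB.uniq _ (pow_mem hσ.2 _) ?_
      rw [orderOf_pow' σ (by positivity), hk, Nat.gcd_eq_right (Nat.pow_dvd_pow 2 (Nat.sub_le k 1)),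
        Nat.pow_div (Nat.sub_le k 1) two_pos, show k - (k - 1) = 1 by omega, pow_one]
    have hgen : closure ({σN, tN} : Set N) = (P : Subgroup N) := by
      refine le_antisymm ((closure_le _).2 ?_) fun x hx => ?_
      · rintro x (rfl | hx)
        · rw [hPeq]; exact mem_subgroupOf.2 hσ.1
        · rw [Set.mem_singleton_iff.1 hx, hPeq]; exact mem_subgroupOf.2 Fr.tT
      · rw [hPeq, mem_subgroupOf] at hx
        have hσm : σN ∈ closure ({σN, tN} : Set N) := Subgroup.subset_closure (Or.inl rfl)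
        have htm : tN ∈ closure ({σN, tN} : Set N) := Subgroup.subset_closure (Or.inr rfl)
        rcases hdec x hx with h | h
        · obtain ⟨i, hi⟩ := mem_zpowers_iff.1 h
          rw [show x = σN ^ i from Subtype.ext (by rw [SubgroupClass.coe_zpow]; exact hi.symm)]
          exact zpow_mem hσm _
        · obtain ⟨i, hi⟩ := mem_zpowers_iff.1 h
          rw [show x = σN ^ i * tN⁻¹ from Subtype.ext (by
            rw [Subgroup.coe_mul, SubgroupClass.coe_zpow, Subgroup.coe_inv]
            exact eq_mul_inv_of_mul_eq hi.symm)]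
          exact mul_mem (zpow_mem hσm _) (inv_mem htm)
    have hσtB : σ * t ∉ B := fun h => htB ((Subgroup.mul_mem_cancel_left _ hσ.2).1 h)
    have hσtC : σ * t ∈ centralizer ({z} : Set G) := mul_mem (Fr.le hσ.1) htC
    have hσt2 : orderOf (σ * t) = 2 := orderOf_eq_prime (by rw [pow_two]; exact hB.out _ hσtC hσtB)
      fun e => hσtB (e ▸ one_mem B)
    have hF' := isFour_of_comm Fr.four.z2 hσt2 (mem_cent.1 hσtC).symm fun e => hσtB (e ▸ hB.mem)
    have hD : Nonempty ((P : Subgroup N) ≃* DihedralGroup (2 ^ k)) := by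
      have h1 : orderOf (σN * tN) = 2 := by
        rw [← Subgroup.orderOf_coe, Subgroup.coe_mul]; exact hσt2
      have h2 : orderOf tN = 2 := (Subgroup.orderOf_mk t _).trans Fr.four.t2
      have hne : σN * tN ≠ tN := fun e => by
        rw [mul_eq_right] at e
        rw [e, orderOf_one] at hσk
        exact absurd hσk.symm (Nat.one_lt_pow (by omega) one_lt_two).ne'
      obtain ⟨e⟩ := Cfsg.Lib.InvolCalc.exists_dihedral_equiv h1 h2 hne
      have hcl : closure ({σN * tN, tN} : Set N) = (P : Subgroup N) := by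
        rw [← hgen]
        refine le_antisymm ((closure_le _).2 ?_) ((closure_le _).2 ?_)
        · rintro x (rfl | hx)
          · exact mul_mem (Subgroup.subset_closure (Or.inl rfl)) (Subgroup.subset_closure (Or.inr rfl))
          · exact Subgroup.subset_closure (Or.inr hx)
        · rintro x (rfl | hx)
          · have h := mul_mem (Subgroup.subset_closure (Or.inl rfl) : σN * tN ∈ closure ({σN * tN, tN} : Set N))
              (inv_mem (Subgroup.subset_closure (Or.inr rfl) : tN ∈ closure ({σN * tN, tN} : Set N)))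
            rwa [mul_inv_cancel_right] at h
          · exact Subgroup.subset_closure (Or.inr hx)
      have hord : orderOf (σN * tN * tN) = 2 ^ k := by
        rw [mul_assoc, mul_self_of_two h2, mul_one, hσk]
      rw [hord] at e
      exact ⟨(MulEquiv.subgroupCongr hcl.symm).trans e⟩
    rw [← hcent]
    refine dihedral_order (k + 1) (by omega) P σN tN (hgen ▸ Subgroup.subset_closure (Or.inl rfl))
      (hgen ▸ Subgroup.subset_closure (Or.inr rfl)) (by rw [hPc, hcardT, pow_succ, mul_comm])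
      (by rwa [Nat.add_sub_cancel]) (by rw [Nat.add_sub_cancel]; exact hσk) ((Subgroup.orderOf_mk t _).trans Fr.four.t2)
      (Subtype.ext hrelG) hgen hone (J := zN) ?_ ((Subgroup.orderOf_mk z _).trans Fr.four.z2) ?_
      (Fr.cent_pair K hCN zN tN rfl Fr.four rfl) (Fr.cent_pair K hCN zN (σN * tN) rfl hF' rfl) ?_
    · refine Subtype.ext ?_
      rw [SubmonoidClass.coe_pow, show k + 1 - 2 = k - 1 by omega]
      exact hJ
    · intro x hx
      rw [hPeq, mem_subgroupOf] at hx
      exact mem_cent.2 (Subtype.ext (mem_cent.1 (Fr.le hx)))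
    · rw [← Subgroup.orderOf_coe, Subgroup.coe_mul]; exact hσt2

/-- There is no proper subgroup containing the centraliser and the rotations. -/
theorem eq_top (N : Subgroup G) (hN : Gam z T ≤ N)
    (hCN : centralizer ({z} : Set G) ≤ N) (hT : ∀ X : Subgroup G, IsPGroup 2 X → T ≤ X → X = T)
    (hd : ∃ x ∈ Dg z, x ≠ 1) : N = ⊤ := by
  haveI : Fact (Nat.Prime 2) := ⟨Nat.prime_two⟩
  by_contra hne
  haveI := K.simple
  set c := Nat.card (centralizer ({z} : Set G)) with hc
  have hcard := N.card_mul_index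
  have hNc := Fr.order_cases K hN hCN hT
  have hGc := Fr.order_cases K (N := ⊤) le_top le_top hT
  rw [Subgroup.card_top] at hGc
  have hodd : Odd N.index := K.hyp.oddIdx.of_dvd_nat (index_dvd_of_le hCN)
  have hi1 : N.index ≠ 1 := fun e => hne (index_eq_one.1 e)
  have hi3 : 3 ≤ N.index := by
    have := hodd.pos
    obtain ⟨j, hj⟩ := hodd
    omega
  rcases hNc with ⟨hT4, SN, -, hSN, hcN⟩ | ⟨hT4, hlN, -⟩
  · rcases hGc with ⟨-, SG, hSG, -, hcG⟩ | ⟨h, -⟩
    swap; · exact h hT4
    have hN0 : (0 : ℚ) < Nat.card N := by exact_mod_cast Nat.card_pos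
    have hS : SN = (N.index : ℚ) * SG := by
      have e : (Nat.card G : ℚ) = Nat.card N * N.index := by exact_mod_cast hcard.symm
      rw [e] at hcG
      rw [hcG] at hcN
      have h2 : 2 * (Nat.card N : ℚ) * ((N.index : ℚ) * SG) = 2 * (Nat.card N : ℚ) * SN := by linarith
      exact (mul_left_cancel₀ (by positivity) h2).symm
    have h5 : N.index ≤ 5 := by
      by_contra h
      have h6 : (6 : ℚ) ≤ (N.index : ℚ) := by exact_mod_cast (show 6 ≤ N.index by omega)
      have := mul_le_mul h6 hSG.le (by norm_num) (by positivity)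
      linarith
    obtain ⟨f, hf⟩ := Cfsg.Lib.Small.exists_hom_alternating_index
      (fun h => K.nonsolv (Group.isSolvable_of_comm h)) N hne
    have hdvd := Subgroup.card_dvd_of_injective f hf
    have hidx : N.index = 3 ∨ N.index = 5 := by obtain ⟨j, hj⟩ := hodd; omega
    have hCdvd : Nat.card (centralizer ({z} : Set G)) ∣ Nat.card N := card_dvd_of_le hCN
    have hTdvd : 4 ∣ Nat.card G := hT4 ▸ card_subgroup_dvd_card T
    rcases hidx with e | e
    · rw [e] at hdvd
      have hA : Nat.card (alternatingGroup (Fin 3)) = 3 := by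
        rw [Nat.card_eq_fintype_card, card_alternatingGroup, Fintype.card_fin]; rfl
      rw [hA] at hdvd
      exact absurd (Nat.le_of_dvd (by norm_num) (hTdvd.trans hdvd)) (by omega)
    · rw [e] at hdvd hcard
      have hA : Nat.card (alternatingGroup (Fin 5)) = 60 := by
        rw [Nat.card_eq_fintype_card, card_alternatingGroup, Fintype.card_fin]; rfl
      rw [hA] at hdvd
      obtain ⟨x, hx, hx1⟩ := hd
      have hxC : x ∈ centralizer ({z} : Set G) := mem_cent.2 ((K.mem_Dg Fr.four.z2).1 hx).1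
      have hlt : Nat.card T < Nat.card (centralizer ({z} : Set G)) := by
        refine lt_of_le_of_ne (card_le_of_le Fr.le) fun e => hx1 ?_
        have hxT : x ∈ T := (Cfsg.Lib.Coprime.eq_of_le_of_card_eq Fr.le e).ge hxC
        obtain ⟨j, hj⟩ := IsPGroup.iff_orderOf.1 Fr.two ⟨x, hxT⟩
        rw [Subgroup.orderOf_mk] at hj
        have ho := ((K.mem_Dg Fr.four.z2).1 hx).2
        rw [hj] at ho
        rcases j with _ | j
        · exact orderOf_eq_one_iff.1 (by simpa using hj)
        · exact absurd ho (by simp [Nat.odd_pow_iff])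
      rw [hT4] at hlt
      have hN12 : Nat.card N ∣ 12 := by
        rw [← hcard, show (60 : ℕ) = 12 * 5 from rfl] at hdvd
        exact Nat.dvd_of_mul_dvd_mul_right (by norm_num) hdvd
      have hC12 : Nat.card (centralizer ({z} : Set G)) = Nat.card N := by
        have h4 : 4 ∣ Nat.card (centralizer ({z} : Set G)) := hT4 ▸ card_dvd_of_le Fr.le
        have h1 := Nat.le_of_dvd (by norm_num) (hCdvd.trans hN12)
        have h2 := Nat.le_of_dvd (by norm_num) hN12
        have h3 := hCdvd.trans hN12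
        obtain ⟨q, hq⟩ := hCdvd
        have : q ≤ 2 := by nlinarith
        have hpos : 0 < Nat.card N := Nat.card_pos
        interval_cases q <;> omega
      have hCeq := Cfsg.Lib.Coprime.eq_of_le_of_card_eq hCN hC12
      obtain ⟨r, hr⟩ := K.exists_rot Fr.four
      have hrC : r ∈ centralizer ({z} : Set G) := hCeq ▸ hN (rot_mem_Gam Fr.four Fr.tT hr)
      exact Fr.four.ne_zt ((conj_fix_iff.2 (mem_cent.1 hrC).symm).symm.trans hr.1)
  · rcases hGc with ⟨h, -⟩ | ⟨-, -, hlG⟩
    · exact hT4 h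
    rw [← hc] at hlN hlG
    rw [← hcard] at hlG
    have hc0 : 0 < Nat.card N := Nat.card_pos
    nlinarith

end Frame

end Cfsg.Lib.GenDihedral
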