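import Cfsg.Agent.GenDihedral.Inv
import Cfsg.Agent.InvolCalc.ZStarApps

/-!
The primary components and the invariant subgroups of the local subgroups containing one of them.
-/

set_option autoImplicit false
set_option linter.unusedSectionVars false
set_option linter.style.haveILetI false

namespace Cfsg.Lib.GenDihedral

open Subgroup

universe u

variable {G : Type u} [Group G] [Finite G]

/-- The `r`-part of `Dg v`, as a generated subgroup. -/
def Dr (r : ℕ) (v : G) : Subgroup G := closure {x | x ∈ Dg v ∧ ∃ k, orderOf x = r ^ k}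

theorem Dr_le_Dg (r : ℕ) (v : G) : Dr r v ≤ Dg v := (closure_le _).2 fun _ h => h.1

theorem conj_Dr (r : ℕ) (g v : G) {x : G} (hx : x ∈ Dr r v) : g * x * g⁻¹ ∈ Dr r (g * v * g⁻¹) := by
  induction hx using closure_induction with
  | mem x hx =>
    refine subset_closure ⟨conj_Dg g v hx.1, ?_⟩
    rw [← MulAut.conj_apply, MulEquiv.orderOf_eq]
    exact hx.2
  | one => simp
  | mul a b _ _ ha hb => rw [← conj_mul]; exact mul_mem ha hb
  | inv a _ ha => rw [← conj_inv]; exact inv_mem ha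

theorem card_Dr_conj (r : ℕ) (g v : G) : Nat.card (Dr r (g * v * g⁻¹)) = Nat.card (Dr r v) := by
  refine Nat.card_congr
    { toFun := fun x => ⟨g⁻¹ * x * g, by
        have h := conj_Dr r g⁻¹ _ x.2
        rwa [inv_inv, show g⁻¹ * (g * v * g⁻¹) * g = v by group] at h⟩
      invFun := fun x => ⟨g * x * g⁻¹, conj_Dr r g v x.2⟩
      left_inv := fun x => Subtype.ext (by simp [mul_assoc])
      right_inv := fun x => Subtype.ext (by simp [mul_assoc]) }

theorem card_Dg_conj (g v : G) (X Y : Subgroup G) (hXY : ∀ x, g * x * g⁻¹ ∈ Y ↔ x ∈ X) :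
    Nat.card (Y ⊓ Dg (g * v * g⁻¹) : Subgroup G) = Nat.card (X ⊓ Dg v : Subgroup G) := by
  refine Nat.card_congr
    { toFun := fun x => ⟨g⁻¹ * x * g, (hXY _).1 (by simpa [mul_assoc] using x.2.1), by
        have h := conj_Dg g⁻¹ _ x.2.2
        rwa [inv_inv, show g⁻¹ * (g * v * g⁻¹) * g = v by group] at h⟩
      invFun := fun x => ⟨g * x * g⁻¹, (hXY _).2 x.2.1, conj_Dg g v x.2.2⟩
      left_inv := fun x => Subtype.ext (by simp [mul_assoc])
      right_inv := fun x => Subtype.ext (by simp [mul_assoc]) }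

/-- The join of the three primary components. -/
def Pm (r : ℕ) (z t s : G) : Subgroup G := Dr r z ⊔ Dr r t ⊔ Dr r s

theorem Pm_rot (r : ℕ) (z t s : G) : Pm r t s z = Pm r z t s := by
  rw [Pm, Pm, sup_comm (Dr r t ⊔ Dr r s), sup_assoc]

theorem Pm_swap (r : ℕ) (z t s : G) : Pm r t z s = Pm r z t s := by
  rw [Pm, Pm, sup_comm (Dr r t)]

namespace Core

variable {z₀ : G} {A : Subgroup G} (K : Core z₀ A) {r : ℕ} [hr : Fact r.Prime]
include K

theorem isPGroup_Dr {v : G} (hv : orderOf v = 2) : IsPGroup r (Dr r v) := by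
  rintro ⟨x, hx⟩
  suffices h : ∃ k, x ^ r ^ k = 1 by
    obtain ⟨k, hk⟩ := h; exact ⟨k, Subtype.ext hk⟩
  induction hx using closure_induction with
  | mem x hx =>
    obtain ⟨k, hk⟩ := hx.2
    exact ⟨k, hk ▸ pow_orderOf_eq_one x⟩
  | one => exact ⟨0, one_pow _⟩
  | mul a b ha hb iha ihb =>
    obtain ⟨i, hi⟩ := iha
    obtain ⟨j, hj⟩ := ihb
    refine ⟨i + j, ?_⟩
    rw [(show Commute a b from K.Dg_comm hv (Dr_le_Dg r v ha) (Dr_le_Dg r v hb)).mul_pow, pow_add]
    conv_lhs => arg 1; rw [pow_mul, hi, one_pow]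
    rw [one_mul, mul_comm, pow_mul, hj, one_pow]
  | inv a _ ih =>
    obtain ⟨i, hi⟩ := ih
    exact ⟨i, by rw [inv_pow, hi, inv_one]⟩

omit K in
theorem mem_Dr_of {R : Subgroup G} (hR : IsPGroup r R) {v x : G} (hx : x ∈ R) (hxv : x ∈ Dg v) : x ∈ Dr r v := by
  obtain ⟨k, hk⟩ := IsPGroup.iff_orderOf.1 hR ⟨x, hx⟩
  exact subset_closure ⟨hxv, k, by rwa [Subgroup.orderOf_mk] at hk⟩

theorem Dr_le_of_card {v : G} (hv : orderOf v = 2) {X : Subgroup G} (hX : X ≤ Dg v)
    (h : Nat.card (Dr r v) ∣ Nat.card X) : Dr r v ≤ X := by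
  obtain ⟨k, hk⟩ := IsPGroup.iff_card.1 (K.isPGroup_Dr (r := r) hv)
  obtain ⟨S, hS⟩ := Sylow.exists_subgroup_card_pow_prime r (hk ▸ h)
  have hS' : IsPGroup r (S.map X.subtype) := (IsPGroup.of_card hS).map _
  have hle : S.map X.subtype ≤ Dr r v := fun x hx => mem_Dr_of hS' hx (hX (map_subtype_le _ hx))
  rw [← Cfsg.Lib.Coprime.eq_of_le_of_card_eq hle (by
    rw [Subgroup.card_map_of_injective X.subtype_injective, hS, hk])]
  exact map_subtype_le _

variable {z t s : G} (F : IsFour z t s)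
include F

/-- The four-group normalises the primary components. -/
theorem le_normalizer_Dr : Vg z t ≤ normalizer (Dr r z : Set G) := by
  refine F.le_normalizer_iff.2 ⟨?_, ?_⟩
  · refine mem_normalizer_closure fun x hx => ?_
    rw [conj_fix_iff.2 ((K.mem_Dg F.z2).1 hx.1).1]
    exact subset_closure hx
  · refine mem_normalizer_closure fun x hx => ?_
    rw [K.inv_fst F hx.1]
    exact inv_mem (subset_closure hx)

theorem le_normalizer_Pm : Vg z t ≤ normalizer (Pm r z t s : Set G) := by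
  have h1 := K.le_normalizer_Dr (r := r) F
  have h2 := K.le_normalizer_Dr (r := r) F.rot
  have h3 := K.le_normalizer_Dr (r := r) F.rot.rot
  rw [F.rot_Vg] at h2
  rw [F.rot.rot_Vg, F.rot_Vg] at h3
  exact Cfsg.Lib.Coprime.le_normalizer_sup (Cfsg.Lib.Coprime.le_normalizer_sup h1 h2) h3

/-- Every invariant `r`-subgroup lies in the join. -/
theorem le_Pm (h2 : r ≠ 2) {R : Subgroup G} (hR : IsPGroup r R) (hRV : Vg z t ≤ normalizer (R : Set G)) :
    R ≤ Pm r z t s := by
  refine K.le_of_comps F (odd_of_isPGroup h2 hR) hRV ?_ ?_ ?_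
  · exact fun x hx => mem_sup_left (mem_sup_left (mem_Dr_of hR hx.1 hx.2))
  · exact fun x hx => mem_sup_left (mem_sup_right (mem_Dr_of hR hx.1 hx.2))
  · exact fun x hx => mem_sup_right (mem_Dr_of hR hx.1 hx.2)

/-- Conjugation permuting the involutions carries the join into the other. -/
theorem normalizer_Pm {g : G} (hg : g ∈ normalizer (Vg z t : Set G)) :
    g ∈ normalizer (Pm r z t s : Set G) := by
  have hmem : ∀ v ∈ ({z, t, s} : Set G), g * v * g⁻¹ ∈ ({z, t, s} : Set G) := by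
    intro v hv
    have hvV : v ∈ Vg z t := F.mem_iff.2 (Or.inr (by simpa using hv))
    rcases F.mem_iff.1 ((mem_normalizer_iff.1 hg v).1 hvV) with h | h
    · have : v = 1 := by simpa using conj_eq_one_iff.1 h
      rcases hv with rfl | rfl | rfl
      · exact absurd (this ▸ F.z2) (by simp)
      · exact absurd (this ▸ F.t2) (by simp)
      · exact absurd (this ▸ F.s2) (by simp)
    · simpa using h
  have key : ∀ v ∈ ({z, t, s} : Set G), ∀ x ∈ Dr r v, g * x * g⁻¹ ∈ Pm r z t s := by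
    intro v hv x hx
    have h := conj_Dr r g v hx
    rcases hmem v hv with e | e | e
    · rw [e] at h; exact mem_sup_left (mem_sup_left h)
    · rw [e] at h; exact mem_sup_left (mem_sup_right h)
    · rw [Set.mem_singleton_iff.1 e] at h; exact mem_sup_right h
  refine Cfsg.Lib.Coprime.conjMap_eq_self_iff.1 (Cfsg.Lib.Coprime.eq_of_le_of_card_eq ?_
    (Cfsg.Lib.Coprime.card_conjMap _ _))
  simp only [Pm, Cfsg.Lib.Coprime.conjMap_sup]
  refine sup_le (sup_le ?_ ?_) ?_
  all_goals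
    intro y hy
    obtain ⟨x, hx, rfl⟩ := hy
    first
    | exact key z (by simp) x hx
    | exact key t (by simp) x hx
    | exact key s (by simp) x hx

/-- A conjugating element of `N` commuting situation gives another four-group. -/
theorem exists_other {N : Subgroup G} (hzN : z ∈ N)
    (hn : ∃ g ∈ N, g * z * g⁻¹ * z = z * (g * z * g⁻¹) ∧ g * z * g⁻¹ ≠ z) :
    ∃ g ∈ N, IsFour z (g * z * g⁻¹) (z * (g * z * g⁻¹)) ∧
      Vg z (g * z * g⁻¹) ≤ N := by
  obtain ⟨g, hg, hc, hne⟩ := hn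
  have ho : orderOf (g * z * g⁻¹) = 2 := by rw [← MulAut.conj_apply, MulEquiv.orderOf_eq, F.z2]
  refine ⟨g, hg, isFour_of_comm F.z2 ho hc.symm hne.symm, (closure_le _).2 ?_⟩
  rintro x (rfl | hx)
  · exact hzN
  · rw [Set.mem_singleton_iff.1 hx]; exact mul_mem (mul_mem hg hzN) (inv_mem hg)

end Core

end Cfsg.Lib.GenDihedral
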