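import Cfsg.Agent.GenDihedral.Maximal

/-!
The rotation of a four-group, and the invariant `r`-group containing the three primary components.
-/

set_option autoImplicit false
set_option linter.unusedSectionVars false
set_option linter.style.haveILetI false

namespace Cfsg.Lib.GenDihedral

open Subgroup

universe u

variable {G : Type u} [Group G] [Finite G]

/-- `g` rotates the four-group. -/
def IsRot (g z t s : G) : Prop := g * z * g⁻¹ = t ∧ g * t * g⁻¹ = s ∧ g * s * g⁻¹ = z

theorem conj_inv' {g x y : G} (h : g * x * g⁻¹ = y) : g⁻¹ * y * g⁻¹⁻¹ = x := by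
  rw [← h]; group

theorem conj_trans {g h x y w : G} (h1 : h * x * h⁻¹ = y) (h2 : g * y * g⁻¹ = w) :
    g * h * x * (g * h)⁻¹ = w := by
  rw [← h2, ← h1]; group

theorem IsRot.rot {g z t s : G} (h : IsRot g z t s) : IsRot g t s z := ⟨h.2.1, h.2.2, h.1⟩

namespace Core

variable {z₀ : G} {A : Subgroup G} (K : Core z₀ A) {r : ℕ} [hr : Fact r.Prime] {z t s : G} (F : IsFour z t s)
include K F

theorem root_conj {a : G} (haz : a * a = z) : a * t * a⁻¹ = s ∧ a * z * a⁻¹ = z ∧ a * s * a⁻¹ = t := by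
  obtain ⟨B, hB⟩ := K.exists_hyp F.z2
  have haC : a ∈ centralizer ({z} : Set G) := mem_cent.2 (by rw [← haz, mul_assoc])
  have haB : a ∈ B := by
    by_contra h
    have h1 := hB.out a haC h
    rw [haz] at h1
    exact absurd F.z2 (by rw [h1, orderOf_one]; omega)
  have h := hB.inverts (mem_cent.2 F.comm.symm) (hB.not_mem_A F.t2 F.ne_zt.symm) haB
  have e : a * t * a⁻¹ = s := by
    rw [← h, show a * t * (t * a * t⁻¹) = a * (t * t) * a * t⁻¹ by group, mul_self_of_two F.t2, mul_one, haz,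
      inv_of_two F.t2, F.zt]
  have ez : a * z * a⁻¹ = z := conj_fix_iff.2 (mem_cent.1 haC).symm
  refine ⟨e, ez, ?_⟩
  rw [← F.zt, ← conj_mul, ez, e]
  exact F.rot.rot.tz

/-- A four-group has a rotation in its normaliser. -/
theorem exists_rot : ∃ g : G, IsRot g z t s := by
  haveI : Fact (Nat.Prime 2) := ⟨Nat.prime_two⟩
  by_cases hr : ∃ a : G, a * a = z₀
  · obtain ⟨a₀, ha₀⟩ := hr
    have hroot : ∀ v, orderOf v = 2 → ∃ a : G, a * a = v := fun v hv => by
      obtain ⟨g, rfl⟩ := K.one_class hv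
      exact ⟨g * a₀ * g⁻¹, by rw [conj_mul, ha₀]⟩
    obtain ⟨a, ha⟩ := hroot z F.z2
    obtain ⟨b, hb⟩ := hroot t F.t2
    obtain ⟨a1, a2, a3⟩ := K.root_conj F ha
    obtain ⟨b1, b2, b3⟩ := K.root_conj F.rot hb
    refine ⟨(b * a)⁻¹, conj_inv' (conj_trans (h := a) a1 b1), conj_inv' (conj_trans (h := a) a3 b2),
      conj_inv' (conj_trans (h := a) a2 b3)⟩
  · push Not at hr
    have hno : ∀ a : G, a * a ≠ z ∧ a * a ≠ t ∧ a * a ≠ s := by
      have key : ∀ v, orderOf v = 2 → ∀ a : G, a * a ≠ v := fun v hv a e => by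
        obtain ⟨g, rfl⟩ := K.one_class hv
        exact hr (g⁻¹ * a * g) (by rw [show g⁻¹ * a * g * (g⁻¹ * a * g) = g⁻¹ * (a * a) * g by group, e]; group)
      exact fun a => ⟨key z F.z2 a, key t F.t2 a, key s F.s2 a⟩
    obtain ⟨P, hP⟩ := F.isPGroup.exists_le_sylow
    have hPV : (P : Subgroup G) = Vg z t :=
      le_antisymm (K.four_maximal F (N := ⊤) (fun a _ => hno a) P.2 hP le_top) hP
    haveI : IsMulCommutative (P : Subgroup G) := by
      rw [hPV]
      exact Subgroup.isMulCommutative_closure (by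
        rintro x (rfl | hx) y (rfl | hy)
        · rfl
        · rw [Set.mem_singleton_iff.1 hy]; exact F.comm
        · rw [Set.mem_singleton_iff.1 hx]; exact F.comm.symm
        · rw [Set.mem_singleton_iff.1 hx, Set.mem_singleton_iff.1 hy])
    obtain ⟨gz, hgz⟩ := K.one_class F.z2
    obtain ⟨gt, hgt⟩ := K.one_class F.t2
    obtain ⟨n, hn, he⟩ := P.conj_eq_normalizer_conj_of_mem z (gz * gt⁻¹)
      (hP (F.mem_iff.2 (Or.inr (Or.inl rfl)))) (by
        rw [show (gz * gt⁻¹)⁻¹ * z * (gz * gt⁻¹) = t by rw [← hgz, ← hgt]; group]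
        exact hP (F.mem_iff.2 (Or.inr (Or.inr (Or.inl rfl)))))
    rw [show (gz * gt⁻¹)⁻¹ * z * (gz * gt⁻¹) = t by rw [← hgz, ← hgt]; group] at he
    set g := n⁻¹ with hg
    have h1 : g * z * g⁻¹ = t := by rw [he, hg, inv_inv]
    have hgn : g ∈ normalizer (Vg z t : Set G) := by rw [← hPV]; exact inv_mem hn
    have ht2 := (mem_normalizer_iff.1 hgn t).1 (F.mem_iff.2 (Or.inr (Or.inr (Or.inl rfl))))
    have hts : g * t * g⁻¹ = s := by
      rcases F.mem_iff.1 ht2 with h | h | h | h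
      · exact absurd F.t2 (by rw [conj_eq_one_iff.1 h, orderOf_one]; omega)
      · exfalso
        have e1 : g * g * z * (g * g)⁻¹ = z := conj_trans h1 h
        have e2 : g * g * t * (g * g)⁻¹ = t := conj_trans h h1
        have hg4 : g * g * (g * g) = 1 := by
          obtain ⟨B, hB⟩ := K.exists_hyp F.z2
          rcases hB.cent_four F.t2 F.ne_zt.symm F.comm.symm (conj_fix_iff.1 e1).symm
            (conj_fix_iff.1 e2).symm with h' | h' | h' | h'
          · rw [h', one_mul]
          · rw [h']; exact mul_self_of_two F.z2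
          · rw [h']; exact mul_self_of_two F.t2
          · rw [h', F.zt]; exact mul_self_of_two F.s2
        have hzp : IsPGroup 2 (zpowers g) := by
          intro x
          refine ⟨2, Subtype.ext ?_⟩
          obtain ⟨i, hi⟩ := x.2
          rw [SubmonoidClass.coe_pow, OneMemClass.coe_one, ← hi]
          show (g ^ i) ^ 4 = 1
          rw [← zpow_natCast, ← zpow_mul, mul_comm, zpow_mul]
          show (g ^ ((4 : ℕ) : ℤ)) ^ i = 1
          rw [zpow_natCast, show g ^ 4 = g * g * (g * g) by simp [pow_succ, mul_assoc], hg4, one_zpow]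
        have hT : IsPGroup 2 (Vg z t ⊔ zpowers g : Subgroup G) :=
          F.isPGroup.to_sup_of_normal_left' hzp (zpowers_le.2 hgn)
        have hgV := K.four_maximal F (N := ⊤) (fun a _ => hno a) hT le_sup_left le_top (mem_sup_right (mem_zpowers g))
        have hc : g * z * g⁻¹ = z := by
          refine conj_fix_iff.2 ?_
          rcases F.mem_iff.1 hgV with e | e | e | e <;> rw [e]
          · simp
          · exact F.comm
          · exact F.rot.rot.comm.symm
        exact F.ne_zt (hc.symm.trans h1)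
      · exact absurd ((mul_right_inj _).1 ((mul_left_inj _).1 (h.trans h1.symm))) F.ne_zt.symm
      · exact h
    exact ⟨g, h1, hts, by rw [← F.zt, ← conj_mul, h1, hts]; exact F.rot.zt⟩

omit K in
theorem IsRot.mem_normalizer {g : G} (hg : IsRot g z t s) : g ∈ normalizer (Vg z t : Set G) := by
  refine mem_normalizer_closure fun x hx => ?_
  rcases hx with rfl | hx
  · rw [hg.1]; exact subset_closure (Or.inr rfl)
  · rw [Set.mem_singleton_iff.1 hx, hg.2.1, ← F.zt]
    exact mul_mem (subset_closure (Or.inl rfl)) (subset_closure (Or.inr rfl))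

/-- An invariant `r`-group properly containing a component forces the join to be an `r`-group. -/
theorem big_of_two (h2 : r ≠ 2) {P : Subgroup G} (hP : InvGrp r z t P) (hD : Dr r z ≤ P)
    (hne : ¬ P ≤ Dr r z) : IsPGroup r (Pm r z t s) := by
  obtain ⟨Q, hPQ, hQ⟩ := exists_max hP
  have hDQ := hD.trans hPQ
  obtain ⟨g, hg⟩ := K.exists_rot F
  have hgV := IsRot.mem_normalizer F hg
  have himg : ∀ h : G, h ∈ normalizer (Vg z t : Set G) →
      InvGrp r z t (Cfsg.Lib.Coprime.conjMap h Q) := fun h hh =>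
    ⟨hQ.1.1.map _, by
      rw [Cfsg.Lib.Coprime.normalizer_conjMap, ← Cfsg.Lib.Coprime.conjMap_eq_self hh]
      exact Cfsg.Lib.Coprime.conjMap_mono hQ.1.2⟩
  have hcomp : ∀ h x y : G, h * x * h⁻¹ = y → Dr r x ≤ Q → Dr r y ≤ Cfsg.Lib.Coprime.conjMap h Q := by
    intro h x y e hx d hd
    refine Cfsg.Lib.Coprime.mem_conjMap.2 (hx ?_)
    have h1 := conj_Dr r h⁻¹ y hd
    rwa [conj_inv' e, inv_inv] at h1
  have hle : Pm r z t s ≤ Q := by
    rcases K.max_two F h2 hQ hDQ fun h => hne (hPQ.trans h) with ht | hs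
    · obtain ⟨Q', hQQ', hQ'⟩ := exists_max (himg g hgV)
      have e1 : Dr r t ≤ Q' := (hcomp g z t hg.1 hDQ).trans hQQ'
      have e2 : Dr r s ≤ Q' := (hcomp g t s hg.2.1 ht).trans hQQ'
      have hI : InvGrp (G := G) r t s = InvGrp r z t := by
        funext X
        show (_ ∧ _) = (_ ∧ _)
        rw [F.rot_Vg]
      have hQt : Maximal (InvGrp r t s) Q := hI.symm ▸ hQ
      have hQt' : Maximal (InvGrp r t s) Q' := hI.symm ▸ hQ'
      have e := K.max_eq' F.rot h2 hQt hQt' ht e1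
      exact sup_le (sup_le hDQ ht) (e ▸ e2)
    · obtain ⟨Q', hQQ', hQ'⟩ := exists_max (himg g hgV)
      have e1 : Dr r z ≤ Q' := (hcomp g s z hg.2.2 hs).trans hQQ'
      have e2 : Dr r t ≤ Q' := (hcomp g z t hg.1 hDQ).trans hQQ'
      have e := K.max_eq' F h2 hQ hQ' hDQ e1
      exact sup_le (sup_le hDQ (e ▸ e2)) hs
  exact hQ.1.1.to_le hle

/-- Commuting elements in two components force the join to be an `r`-group. -/
theorem big_of_comm (h2 : r ≠ 2) {a d : G} (ha : a ∈ Dr r z) (ha1 : a ≠ 1) (hd : d ∈ Dg t) (hd1 : d ≠ 1)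
    (h : a * d = d * a) : IsPGroup r (Pm r z t s) := by
  have hVd := K.le_normalizer_OC_comp F hd
  obtain ⟨S, -, hS, hSV, -, hmax, -⟩ := K.exists_sylow F (K.odd_OC F.t2 hd hd1) hVd r
  have hat : Dr r t ≤ S := by
    refine hmax _ (K.comm_Dr_OC F.t2 hd) (K.isPGroup_Dr F.t2) ?_
    have := K.le_normalizer_Dr (r := r) F.rot
    rwa [F.rot_Vg] at this
  have haV : Vg z t ≤ normalizer (zpowers a : Set G) := by
    rw [zpowers_eq_closure]
    refine F.le_normalizer_iff.2 ⟨mem_normalizer_closure fun x hx => ?_, mem_normalizer_closure fun x hx => ?_⟩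
    · rw [Set.mem_singleton_iff.1 hx, conj_fix_iff.2 ((K.mem_Dg F.z2).1 (Dr_le_Dg r z ha)).1]
      exact subset_closure rfl
    · rw [Set.mem_singleton_iff.1 hx, K.inv_fst F (Dr_le_Dg r z ha)]
      exact inv_mem (subset_closure rfl)
  have haS : a ∈ S := by
    refine hmax (zpowers a) ?_ ((K.isPGroup_Dr F.z2).to_le (zpowers_le.2 ha)) haV (mem_zpowers a)
    exact zpowers_le.2 (subset_OC (mem_cent.2 h) ((K.mem_Dg F.z2).1 (Dr_le_Dg r z ha)).2)
  rw [← Pm_rot]
  refine K.big_of_two F.rot h2 ⟨hS, F.rot_Vg.trans_le hSV⟩ hat fun hle => ha1 ?_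
  exact K.eq_one_of_four F ((K.mem_Dg F.z2).1 (Dr_le_Dg r z ha)).2
    ((K.mem_Dg F.z2).1 (Dr_le_Dg r z ha)).1 ((K.mem_Dg F.t2).1 (Dr_le_Dg r t (hle haS))).1

omit F in
theorem card_Dr {v : G} (hv : orderOf v = 2) : Nat.card (Dr r v) = Nat.card (Dr r z₀) := by
  obtain ⟨g, rfl⟩ := K.one_class hv
  exact card_Dr_conj r g z₀

/-- The order of the join. -/
theorem card_Pm (h2 : r ≠ 2) (hB : IsPGroup r (Pm r z t s)) :
    Nat.card (Pm r z t s) = Nat.card (Dr r z₀) * (Nat.card (Dr r z₀) * Nat.card (Dr r z₀)) := by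
  have key : ∀ v, orderOf v = 2 → Dr r v ≤ Pm r z t s → Pm r z t s ⊓ Dg v = Dr r v := fun v hv hle =>
    le_antisymm (fun x hx => mem_Dr_of hB hx.1 hx.2) (le_inf hle (Dr_le_Dg r v))
  rw [K.card_comps F (odd_of_isPGroup h2 hB) (K.le_normalizer_Pm F),
    key z F.z2 (le_sup_of_le_left le_sup_left), key t F.t2 (le_sup_of_le_left le_sup_right),
    key s F.s2 le_sup_right, K.card_Dr F.z2, K.card_Dr F.t2, K.card_Dr F.s2]

end Core

end Cfsg.Lib.GenDihedral
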